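import Cfsg.Agent.H767.Transfer
set_option linter.all false

/-!
# Transfer for saturated fusion systems (helper767)

`exists_transfer`: for a saturated fusion system `F` over a finite `p`-group `S` and a homomorphism `θ` from `S` to an
abelian group there are `m` prime to `p` and an `F`-stable homomorphism `τ` with `τ g = θ g ^ m` for all `g` whose
powers have `θ`-invariant `F`-conjugates; `exists_transfer_two`: the parity computation behind Thompson's transfer
lemma.
-/

set_option autoImplicit false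

namespace Cfsg.Agent.H767.FusTransfer

open Cfsg Cfsg.FusionSystem Cfsg.Agent.H802 Cfsg.Agent.H767.GSet Cfsg.Agent.H767.Biset
  Cfsg.Agent.H767.Transfer MulAction

universe u v

variable {Ω : Type u} [Group Ω] {S : Subgroup Ω}

theorem gen_free {F : FusionSystem S} {X : Type*} [MulAction (S × S) X] (hX : Gen F X) (r : S) (x : X)
    (h : ((1, r) : S × S) • x = x) : r = 1 := by
  obtain ⟨P, φ, hφ, he⟩ := hX x
  have h1 : ((1, r) : S × S) ∈ tdiag S P φ := by rw [← he]; exact h
  obtain ⟨h2, h3⟩ := h1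
  apply Subtype.ext
  rw [← h3]
  exact map_one φ

/-- `F`-stability of the transfer. -/
theorem tr_stable [Finite S] {F : FusionSystem S} {X : Type*} [MulAction (S × S) X] [Finite X] (hX : Gen F X)
    (hs : Stab F X 0) {A : Type*} [CommGroup A] {θ : S →* A} {f : X → A} (hf : IsSec (G := S) θ f)
    {P : Subgroup Ω} {φ : P →* Ω} (hφ : φ ∈ F.Hom P) (x : P) :
    tr hf ⟨φ x, hom_apply_mem hφ x⟩ = tr hf ⟨x, hom_le hφ x.2⟩ := by
  obtain ⟨e, he⟩ := exists_equiv_of_homs X (fstIn S P).subtype (twist φ (fun x => hom_apply_mem hφ x))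
    (fun D => nf_twist hX hs hφ D (Nat.zero_le _))
  refine tr_equivariant hf e ?_ ?_
  · intro y
    have h1 : ((⟨x, hom_le hφ x.2⟩, 1) : S × S) ∈ fstIn S P := x.2
    exact he ⟨_, h1⟩ y
  · intro r y
    have h1 : ((1, r) : S × S) ∈ fstIn S P := P.one_mem
    have h2 := he ⟨_, h1⟩ y
    have h3 : twist φ (fun x => hom_apply_mem hφ x) ⟨_, h1⟩ = (1, r) :=
      Prod.ext (Subtype.ext (map_one φ)) rfl
    rw [h3] at h2
    exact h2

/-- Value of the transfer on elements whose powers have `θ`-invariant images. -/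
theorem tr_eq_pow [Finite S] {F : FusionSystem S} {X : Type*} [MulAction (S × S) X] [Finite X] (hX : Gen F X)
    {A : Type*} [CommGroup A] {θ : S →* A} {f : X → A} (hf : IsSec (G := S) θ f) {m : ℕ}
    (hm : Nat.card X = Nat.card S * m) (g : S)
    (hg : ∀ (y : S) (P : Subgroup Ω) (φ : P →* Ω) (hφ : φ ∈ F.Hom P) (hy : (y : Ω) ∈ P), y ∈ Subgroup.zpowers g →
      θ ⟨φ ⟨y, hy⟩, hom_apply_mem hφ _⟩ = θ y) : tr hf g = θ g ^ m := by
  classical
  -- the group acting: pairs with first coordinate in ⟨g⟩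
  set H : Subgroup (S × S) := (Subgroup.zpowers g).comap (MonoidHom.fst S S) with hH
  let χ : H →* A := ((θ.comp (MonoidHom.fst S S)) * (θ.comp (MonoidHom.snd S S))⁻¹).comp H.subtype
  have hχv : ∀ (z : S × S) (hz : z ∈ H), χ ⟨z, hz⟩ = θ z.1 * (θ z.2)⁻¹ := fun z hz => rfl
  obtain ⟨f', hf'⟩ := exists_section (X := X) χ (by
    rintro ⟨z, hz⟩ x hzx
    obtain ⟨P, φ, hφ, he⟩ := hX x
    have h1 : z ∈ tdiag S P φ := by rw [← he]; exact hzx
    obtain ⟨h2, h3⟩ := h1
    rw [hχv]
    have h4 := hg z.1 P φ hφ h2 hz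
    have h5 : (⟨φ ⟨z.1, h2⟩, hom_apply_mem hφ _⟩ : S) = z.2 := Subtype.ext h3
    rw [h5] at h4
    rw [h4, mul_inv_cancel])
  have hsec : IsSec (G := S) θ f' := by
    intro r x
    have h1 : ((1, r) : S × S) ∈ H := (Subgroup.zpowers g).one_mem
    have h2 := hf' ⟨_, h1⟩ x
    rw [hχv] at h2
    simp only [map_one, one_mul] at h2
    exact h2
  have hval : ∀ x : X, f' (((g, 1) : S × S) • x) = θ g * f' x := by
    intro x
    have h1 : ((g, 1) : S × S) ∈ H := Subgroup.mem_zpowers g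
    have h2 := hf' ⟨_, h1⟩ x
    rw [hχv] at h2
    simp only [map_one, inv_one, mul_one] at h2
    exact h2
  rw [tr_eq hf hsec, tr_apply]
  have h1 : ∀ q : Quo S S X, cf hsec g q = θ g := by
    intro q
    obtain ⟨x, rfl⟩ := qmk_surjective q
    rw [cf_qmk, hval, mul_inv_cancel_right]
  have h2 : Nat.card (Quo S S X) = m := by
    have h3 := card_quo (G := S) (R := S) (X := X) (fun r x h => gen_free hX r x h)
    rw [hm] at h3
    exact (Nat.eq_of_mul_eq_mul_left Nat.card_pos h3).symm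
  have : Fintype (Quo S S X) := Fintype.ofFinite _
  rw [finprod_eq_prod_of_fintype, Finset.prod_congr rfl (fun q _ => h1 q), Finset.prod_const, Finset.card_univ,
    ← Nat.card_eq_fintype_card, h2]

/-- **Transfer for saturated fusion systems.** -/
theorem exists_transfer {p : ℕ} [Fact p.Prime] [Finite S] (hS : IsPGroup p S) {F : FusionSystem S}
    (hF : F.IsSaturated p) {A : Type v} [CommGroup A] (θ : S →* A) :
    ∃ (m : ℕ) (τ : S →* A), ¬ p ∣ m ∧
      (∀ (P : Subgroup Ω) (φ : P →* Ω) (hφ : φ ∈ F.Hom P) (x : P),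
        τ ⟨φ x, hom_apply_mem hφ x⟩ = τ ⟨x, hom_le hφ x.2⟩) ∧
      ∀ g : S, (∀ (y : S) (P : Subgroup Ω) (φ : P →* Ω) (hφ : φ ∈ F.Hom P) (hy : (y : Ω) ∈ P),
        y ∈ Subgroup.zpowers g → θ ⟨φ ⟨y, hy⟩, hom_apply_mem hφ _⟩ = θ y) → τ g = θ g ^ m := by
  obtain ⟨X, _, _, m, hX, hs, hm, hpm⟩ := exists_char_biset hS hF
  obtain ⟨f, hf⟩ := exists_isSec (G := S) (X := X) θ (fun r x h => gen_free hX r x h)
  exact ⟨m, tr hf, hpm, fun P φ hφ x => tr_stable hX hs hf hφ x, fun g hg => tr_eq_pow hX hf hm g hg⟩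

/-- A stable homomorphism kills the focal subgroup. -/
theorem focal_le {F : FusionSystem S} {A : Type*} [CommGroup A] (τ : S →* A)
    (hτ : ∀ (P : Subgroup Ω) (φ : P →* Ω) (hφ : φ ∈ F.Hom P) (x : P),
      τ ⟨φ x, hom_apply_mem hφ x⟩ = τ ⟨x, hom_le hφ x.2⟩) :
    F.focalSubgroup ≤ τ.ker.map S.subtype := by
  unfold FusionSystem.focalSubgroup
  rw [Subgroup.closure_le]
  rintro _ ⟨P, φ, x, hφ, rfl⟩
  refine ⟨⟨x, hom_le hφ x.2⟩⁻¹ * ⟨φ x, hom_apply_mem hφ x⟩, ?_, rfl⟩
  show τ _ = 1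
  rw [map_mul, map_inv, hτ P φ hφ x, inv_mul_cancel]

/-- the hyperfocal subgroup lies in the focal subgroup -/
theorem hyperfocal_le_focal (F : FusionSystem S) (p : ℕ) : F.hyperfocalSubgroup p ≤ F.focalSubgroup := by
  unfold FusionSystem.hyperfocalSubgroup FusionSystem.focalSubgroup
  rw [Subgroup.closure_le]
  rintro _ ⟨P, α, x, hP, -, rfl⟩
  exact Subgroup.subset_closure ⟨P, P.subtype.comp (α : MulAut P).toMonoidHom, x,
    (mem_autGroup_iff F hP _).1 α.2, rfl⟩

/-- The parity computation: `i` an involution such that `θ j = -1` for all `F`-conjugates `j` of `i` with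
`|C_S(j)| ≥ |C_S(i)|`. Then the transfer of `θ` does not kill `i`. -/
theorem tr_involution [Finite S] (hS : IsPGroup 2 S) {F : FusionSystem S} {X : Type*} [MulAction (S × S) X] [Finite X]
    (hX : Gen F X) {θ : S →* ℤˣ} {f : X → ℤˣ} (hf : IsSec (G := S) θ f) {m : ℕ}
    (hm : Nat.card X = Nat.card S * m) (hodd : ¬ 2 ∣ m) (i : S) (hi : i * i = 1)
    (h : ∀ (P : Subgroup Ω) (φ : P →* Ω) (hφ : φ ∈ F.Hom P) (hiP : (i : Ω) ∈ P),
      (∀ w : S, w * i = i * w → (w : Ω) ∈ P) → θ ⟨φ ⟨i, hiP⟩, hom_apply_mem hφ _⟩ = -1) : tr hf i = -1 := by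
  classical
  set c : Quo S S X → ℤˣ := cf hf i with hc
  let B : Set (Quo S S X) := {q | i • q = q ∧ c q = -1}
  set W : Subgroup S := Subgroup.centralizer {i} with hW
  have hWi : ∀ w : W, (w : S) * i = i * w := fun w => (Subgroup.mem_centralizer_singleton_iff.1 w.2)
  -- c is W-invariant on the fixed points of i
  have hinv : ∀ (w : W) (q : Quo S S X), i • q = q → i • ((w : S) • q) = (w : S) • q ∧ c ((w : S) • q) = c q := by
    intro w q hq
    refine ⟨by rw [smul_smul, ← hWi w, mul_smul, hq], ?_⟩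
    obtain ⟨x, rfl⟩ := qmk_surjective q
    rw [smul_qmk, eq_comm, qmk_eq_iff] at hq
    obtain ⟨r, hr⟩ := hq
    rw [smul_qmk, hc, cf_qmk, cf_qmk, ← hr]
    have h1 : ((i, 1) : S × S) • (((w : S), 1) : S × S) • x = ((1, r) : S × S) • (((w : S), 1) : S × S) • x := by
      have h2 : ((i, 1) : S × S) • (((w : S), 1) : S × S) • x = (((w : S), 1) : S × S) • ((i, 1) : S × S) • x := by
        rw [smul_smul, smul_smul, Prod.mk_mul_mk, Prod.mk_mul_mk, hWi w]
      rw [h2, ← hr, smul_smul, smul_smul, Prod.mk_mul_mk, Prod.mk_mul_mk, one_mul, mul_one, mul_one, one_mul]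
    rw [h1, hf, hf, mul_inv_cancel_right, mul_inv_cancel_right]
  -- fixed points of W have c = -1
  have hfix : ∀ q : Quo S S X, (∀ w : W, (w : S) • q = q) → q ∈ B := by
    intro q hq
    have hiW : i ∈ W := by
      rw [hW, Subgroup.mem_centralizer_singleton_iff]
    refine ⟨hq ⟨i, hiW⟩, ?_⟩
    obtain ⟨x, rfl⟩ := qmk_surjective q
    have hex : ∀ w : W, ∃ r : S, ((1, r) : S × S) • x = (((w : S), 1) : S × S) • x := by
      intro w
      have h1 := hq w
      rw [smul_qmk, eq_comm, qmk_eq_iff] at h1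
      exact h1
    obtain ⟨P, φ, hφ, he⟩ := hX x
    have hst : ∀ (w r : S), ((1, r) : S × S) • x = ((w, 1) : S × S) • x → ((w, r⁻¹) : S × S) ∈ tdiag S P φ := by
      intro w r hr
      rw [← he, mem_stabilizer_iff]
      have h2 : ((w, r⁻¹) : S × S) = ((1, r⁻¹) : S × S) * ((w, 1) : S × S) := by
        rw [Prod.mk_mul_mk, one_mul, mul_one]
      rw [h2, mul_smul, ← hr, smul_smul, Prod.mk_mul_mk, one_mul, inv_mul_cancel]
      exact one_smul (S × S) x
    have hwP : ∀ w : S, w * i = i * w → (w : Ω) ∈ P := by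
      intro w hw
      have hwW : w ∈ W := by
        rw [hW, Subgroup.mem_centralizer_singleton_iff]
        exact hw
      obtain ⟨r, hr⟩ := hex ⟨w, hwW⟩
      exact (hst w r hr).1
    obtain ⟨r, hr⟩ := hex ⟨i, hiW⟩
    obtain ⟨hiP, hir⟩ := hst i r hr
    have h1 := h P φ hφ hiP hwP
    have h2 : (⟨φ ⟨i, hiP⟩, hom_apply_mem hφ _⟩ : S) = r⁻¹ := Subtype.ext hir
    rw [h2, map_inv] at h1
    rw [hc, cf_qmk]
    have hr' : ((1, r) : S × S) • x = ((i, 1) : S × S) • x := hr
    rw [← hr', hf, mul_inv_cancel_right]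
    exact h1
  -- parity
  have hWp : IsPGroup 2 W := hS.to_subgroup W
  let _ : MulAction W B :=
    { smul := fun w q => ⟨(w : S) • q.1, (hinv w q.1 q.2.1).1, by rw [(hinv w q.1 q.2.1).2]; exact q.2.2⟩
      one_smul := fun q => Subtype.ext (one_smul S q.1)
      mul_smul := fun w w' q => Subtype.ext (mul_smul (w : S) (w' : S) q.1) }
  have hB1 := hWp.card_modEq_card_fixedPoints B
  have hQ1 := hWp.card_modEq_card_fixedPoints (Quo S S X)
  have heq : Nat.card (fixedPoints W B) = Nat.card (fixedPoints W (Quo S S X)) := by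
    refine Nat.card_congr ⟨fun q => ⟨q.1.1, fun w => congrArg Subtype.val (q.2 w)⟩,
      fun q => ⟨⟨q.1, hfix q.1 (fun w => q.2 w)⟩, fun w => Subtype.ext (q.2 w)⟩, fun q => rfl, fun q => rfl⟩
  have hQm : Nat.card (Quo S S X) = m := by
    have h3 := card_quo (G := S) (R := S) (X := X) (fun r x h => gen_free hX r x h)
    rw [hm] at h3
    exact (Nat.eq_of_mul_eq_mul_left Nat.card_pos h3).symm
  have hBodd : Odd (Nat.card B) := by
    rw [Nat.odd_iff]
    have h1 : Nat.card B % 2 = m % 2 := by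
      have h2 := hB1.trans (heq ▸ hQ1.symm)
      rw [hQm] at h2
      exact h2
    omega
  -- the product
  have : Fintype (Quo S S X) := Fintype.ofFinite _
  rw [tr_apply, finprod_eq_prod_of_fintype, ← Finset.prod_filter_mul_prod_filter_not Finset.univ (fun q => q ∈ B)]
  have hP1 : ∏ q ∈ Finset.univ.filter (fun q => q ∈ B), cf hf i q = (-1) ^ Nat.card B := by
    rw [Finset.prod_congr rfl (fun q hq => ((Finset.mem_filter.1 hq).2).2), Finset.prod_const]
    congr 1
    rw [Nat.card_eq_fintype_card, Fintype.card_subtype]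
  have hP2 : ∏ q ∈ Finset.univ.filter (fun q => ¬ q ∈ B), cf hf i q = 1 := by
    refine Finset.prod_involution (fun q _ => i • q) ?_ ?_ ?_ ?_
    · intro q hq
      have h1 := cf_mul hf i i q
      rw [hi] at h1
      have h2 : cf hf 1 q = 1 := by
        obtain ⟨x, rfl⟩ := qmk_surjective q
        rw [cf_qmk]
        have : ((1, 1) : S × S) • x = x := one_smul (S × S) x
        rw [this, mul_inv_cancel]
      rw [mul_comm, ← h1, h2]
    · intro q hq hne heq'
      rcases Int.units_eq_one_or (cf hf i q) with h1 | h1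
      · exact hne h1
      · exact (Finset.mem_filter.1 hq).2 ⟨heq', h1⟩
    · intro q hq
      refine Finset.mem_filter.2 ⟨Finset.mem_univ _, fun hB => (Finset.mem_filter.1 hq).2 ?_⟩
      have h1 : i • (i • q) = q := by rw [smul_smul, hi, one_smul]
      have h2 : i • q = q := by
        have h3 := hB.1
        rw [h1] at h3
        exact h3.symm
      rw [h2] at hB
      exact hB
    · intro q hq
      show i • (i • q) = q
      rw [smul_smul, hi, one_smul]
  rw [hP1, hP2, mul_one]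
  exact hBodd.neg_one_pow

end Cfsg.Agent.H767.FusTransfer
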