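import Cfsg.Agent.H767.Biset
set_option linter.all false

/-!
# Characteristic bisets of saturated fusion systems (helper767): the inductive step
-/

set_option autoImplicit false

namespace Cfsg.Agent.H767.Biset

open Cfsg Cfsg.FusionSystem Cfsg.Agent.H802 Cfsg.Agent.H767.GSet MulAction

universe u

variable {Ω : Type u} [Group Ω] {S : Subgroup Ω}

/-- all points have `F`-diagonal stabilizers -/
def Gen (F : FusionSystem S) (X : Type*) [MulAction (S × S) X] : Prop :=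
  ∀ x : X, IsFD F (stabilizer (S × S) x)

/-- stability for the `F`-diagonal subgroups of order at least `n` -/
def Stab (F : FusionSystem S) (X : Type*) [MulAction (S × S) X] (n : ℕ) : Prop :=
  ∀ D D' : Subgroup (S × S), IsFD F D → IsFD F D' →
    D.map (MonoidHom.snd S S) = D'.map (MonoidHom.snd S S) → n ≤ Nat.card D → nf X D = nf X D'

theorem nf_eq_zero {F : FusionSystem S} {X : Type*} [MulAction (S × S) X] (hX : Gen F X) {D : Subgroup (S × S)}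
    (hD : ¬ IsFD F D) : nf X D = 0 := by
  unfold nf
  rw [Nat.card_eq_zero]
  left
  exact ⟨fun x => hD ((hX x.1).of_le x.2)⟩

theorem nf_twist {F : FusionSystem S} {X : Type*} [MulAction (S × S) X] (hX : Gen F X) {n : ℕ}
    (hn : Stab F X n) {Q : Subgroup Ω} {ψ : Q →* Ω} (hψ : ψ ∈ F.Hom Q)
    (E : Subgroup (fstIn S Q)) (hE : n ≤ Nat.card E) :
    nf X (E.map (fstIn S Q).subtype) = nf X (E.map (twist ψ (fun x => hom_apply_mem hψ x))) := by
  by_cases h : IsFD F (E.map (fstIn S Q).subtype)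
  · refine hn _ _ h ((isFD_twist_iff hψ E).2 h) (map_snd_twist hψ E).symm ?_
    rw [Subgroup.card_map_of_injective (Subgroup.subtype_injective _)]
    exact hE
  · rw [nf_eq_zero hX h, nf_eq_zero hX (fun h' => h ((isFD_twist_iff hψ E).1 h'))]

section comp

variable {K G : Type*} [Group K] [Group G]

theorem nf_comp (X : Type*) [MulAction G X] (f : K →* G) (D : Subgroup K) :
    @nf K _ X (MulAction.compHom X f) D = nf X (D.map f) := by
  unfold nf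
  refine Nat.card_congr (Equiv.subtypeEquivRight fun x => ?_)
  constructor
  · rintro h _ ⟨d, hd, rfl⟩
    exact h hd
  · intro h d hd
    exact h ⟨d, hd, rfl⟩

theorem modEq_of_homs [Finite K] (X : Type*) [MulAction G X] [Finite X] (f₁ f₂ : K →* G) (D : Subgroup K)
    (hD : D.Normal) (h : ∀ D', D < D' → nf X (D'.map f₁) = nf X (D'.map f₂)) :
    nf X (D.map f₁) ≡ nf X (D.map f₂) [MOD D.index] := by
  have h1 := @nf_modEq K _ _ X X (MulAction.compHom X f₁) _ (MulAction.compHom X f₂) _ D hD (fun D' hD' => by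
    rw [nf_comp, nf_comp]
    exact h D' hD')
  rwa [nf_comp, nf_comp] at h1

theorem exists_equiv_of_homs [Finite K] (X : Type*) [MulAction G X] [Finite X] (f₁ f₂ : K →* G)
    (h : ∀ D : Subgroup K, nf X (D.map f₁) = nf X (D.map f₂)) :
    ∃ e : X ≃ X, ∀ (k : K) (x : X), e (f₁ k • x) = f₂ k • e x :=
  @exists_equiv_of_nf_eq K _ _ X X (MulAction.compHom X f₁) (MulAction.compHom X f₂) _ _ (fun D => by
    rw [nf_comp, nf_comp]
    exact h D)

end comp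

/-- The congruence for all `F`-diagonal subgroups with second projection `R`. -/
theorem exists_target {p : ℕ} [Fact p.Prime] [Finite S] (hS : IsPGroup p S) {F : FusionSystem S}
    (hF : F.IsSaturated p) {X : Type*} [MulAction (S × S) X] [Finite X] (hX : Gen F X) {n : ℕ}
    (hn : Stab F X (n + 1)) (R : Subgroup S) (hR : Nat.card R = n) :
    ∃ c : ℕ, ∀ D : Subgroup (S × S), IsFD F D → D.map (MonoidHom.snd S S) = R →
      nf X D ≡ c [MOD D.relIndex (Subgroup.normalizer (D : Set (S × S)))] := by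
  set R' : Subgroup Ω := R.map S.subtype with hR'
  have hR'S : R' ≤ S := by
    rintro _ ⟨x, -, rfl⟩
    exact x.2
  obtain ⟨P₀, ⟨χ₀, hχ₀, hχ₀r⟩, hP₀a, hP₀r⟩ := hF R' hR'S
  obtain ⟨-, -, χ, hχ, hχr, -, hNχ⟩ := exists_mod_extender hS hχ₀ hχ₀r hP₀a
  obtain ⟨ρ, hρ, hρr, hρ1, hρ2⟩ := exists_inv hχ hχr
  refine ⟨nf X (tdiag S P₀ ρ), fun D hD hDR => ?_⟩
  obtain ⟨P₁, φ₁, hφ₁, rfl⟩ := hD
  have hφ₁R : φ₁.range = R' := by
    rw [hR', ← hDR]
    exact (map_snd_tdiag (hom_le hφ₁) (fun x => hom_apply_mem hφ₁ x)).symm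
  have hφ₁m : ∀ x, φ₁ x ∈ R' := fun x => hφ₁R.le ⟨x, rfl⟩
  obtain ⟨μ, hμ, hμe⟩ := exists_comp hφ₁ hχ hφ₁m
  have hμr : μ.range = P₀ := by
    ext z
    constructor
    · rintro ⟨x, rfl⟩
      rw [hμe]
      exact hχr.le ⟨_, rfl⟩
    · intro hz
      obtain ⟨y, rfl⟩ := hχr.ge hz
      obtain ⟨x, hx⟩ := hφ₁R.ge y.2
      refine ⟨x, ?_⟩
      rw [hμe]
      congr 1
      exact Subtype.ext hx
  obtain ⟨ψ, hψ, hψe⟩ := hP₀r.2 P₁ μ hμ hμr
  set D₁ := tdiag S P₁ φ₁ with hD₁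
  set N := Subgroup.normalizer (D₁ : Set (S × S)) with hN
  have hP₁S := hom_le hφ₁
  -- N lies in the domain of the twist
  have hNle : N ≤ fstIn S (extender S P₁ μ) := by
    rintro ⟨g, h⟩ hgh
    rw [mem_fstIn]
    show (g : Ω) ∈ extender S P₁ μ
    have hcon : ∀ (x : Ω) (hx : x ∈ P₁), ∃ hx' : (g : Ω) * x * (g : Ω)⁻¹ ∈ P₁,
        φ₁ ⟨(g : Ω) * x * (g : Ω)⁻¹, hx'⟩ = h * φ₁ ⟨x, hx⟩ * (h : Ω)⁻¹ := by
      intro x hx
      have h1 : ((⟨x, hP₁S hx⟩, ⟨φ₁ ⟨x, hx⟩, hom_apply_mem hφ₁ _⟩) : S × S) ∈ D₁ := ⟨hx, rfl⟩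
      have h2 := (Subgroup.mem_normalizer_iff.1 hgh _).1 h1
      exact h2
    have hcon' : ∀ (x : Ω), (g : Ω) * x * (g : Ω)⁻¹ ∈ P₁ → x ∈ P₁ := by
      intro x hx
      have h1 : ((⟨_, hP₁S hx⟩, ⟨φ₁ ⟨_, hx⟩, hom_apply_mem hφ₁ _⟩) : S × S) ∈ D₁ := ⟨hx, rfl⟩
      have h3 := (Subgroup.mem_normalizer_iff.1 (N.inv_mem hgh) _).1 h1
      obtain ⟨h4, -⟩ := h3
      have h5 : (g : Ω)⁻¹ * (g * x * (g : Ω)⁻¹) * ((g : Ω)⁻¹)⁻¹ ∈ P₁ := h4
      have h6 : (g : Ω)⁻¹ * (g * x * (g : Ω)⁻¹) * ((g : Ω)⁻¹)⁻¹ = x := by group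
      rwa [h6] at h5
    have hhR : ∀ y ∈ R', (h : Ω) * y * (h : Ω)⁻¹ ∈ R' := by
      intro y hy
      obtain ⟨x, rfl⟩ := hφ₁R.ge hy
      obtain ⟨h1, h2⟩ := hcon x x.2
      have h3 : (h : Ω) * φ₁ x * (h : Ω)⁻¹ = φ₁ ⟨_, h1⟩ := h2.symm
      rw [h3]
      exact hφ₁m _
    have hfinR : Finite R' := finite_of_le hR'S
    have hhN : (h : Ω) ∈ normalizerIn S R' := by
      refine ⟨h.2, ?_⟩
      show (h : Ω) ∈ Subgroup.normalizer (R' : Set Ω)
      rw [Subgroup.mem_normalizer_iff_map_conj_eq]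
      refine Subgroup.eq_of_le_of_card_ge ?_ ?_
      · rintro _ ⟨y, hy, rfl⟩
        exact hhR y hy
      · exact (Subgroup.card_map_of_injective (K := R') (f := (MulAut.conj (h : Ω)).toMonoidHom)
          (MulAut.conj (h : Ω)).injective).ge
    obtain ⟨-, -, k, hk, hke⟩ := (mem_extender_iff S R' χ h).1 (hNχ hhN)
    rw [mem_extender_iff]
    refine ⟨g.2, ?_, k, hk, fun x hx => ?_⟩
    · rw [Subgroup.mem_normalizer_iff]
      exact fun x => ⟨fun hx => (hcon x hx).1, fun hx => hcon' x hx⟩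
    · rw [hμe, hμe]
      obtain ⟨h1, h2⟩ := hcon x x.2
      have h3 : (h : Ω) * ((⟨φ₁ x, hφ₁m x⟩ : R') : Ω) * (h : Ω)⁻¹ ∈ R' := hhR _ (hφ₁m x)
      rw [← hke ⟨φ₁ x, hφ₁m x⟩ h3]
      congr 1
      exact Subtype.ext h2
  set f₂ : N →* S × S := (twist ψ (fun x => hom_apply_mem hψ x)).comp (Subgroup.inclusion hNle) with hf₂
  have hDN : D₁ ≤ N := Subgroup.le_normalizer
  have hmap1 : (D₁.subgroupOf N).map N.subtype = D₁ := by
    rw [Subgroup.subgroupOf_map_subtype, inf_eq_left]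
    exact hDN
  have hP₁e : P₁ ≤ extender S P₁ μ := le_extender hP₁S (fun x => hom_apply_mem hμ x)
  have hmap2 : (D₁.subgroupOf N).map f₂ = tdiag S P₀ ρ := by
    ext z
    constructor
    · rintro ⟨x, hx, rfl⟩
      obtain ⟨h1, h2⟩ := hx
      have h3 : (f₂ x).1 = μ ⟨_, h1⟩ := hψe _ h1 (hP₁e h1)
      have h4 : ((f₂ x).1 : Ω) ∈ P₀ := by
        rw [h3]
        exact hμr.le ⟨_, rfl⟩
      refine ⟨h4, ?_⟩
      show ρ ⟨((f₂ x).1 : Ω), h4⟩ = (x.1.2 : Ω)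
      rw [← show φ₁ ⟨_, h1⟩ = (x.1.2 : Ω) from h2]
      have h5 := hρ1 ⟨φ₁ ⟨_, h1⟩, hφ₁m _⟩ (hχr.le ⟨_, rfl⟩)
      refine Eq.trans ?_ h5
      congr 1
      apply Subtype.ext
      show ((f₂ x).1 : Ω) = χ ⟨φ₁ ⟨_, h1⟩, hφ₁m _⟩
      rw [h3, hμe]
    · rintro ⟨h1, h2⟩
      have h3 : (z.2 : Ω) ∈ R' := by
        rw [← h2]
        exact hρr.le ⟨_, rfl⟩
      obtain ⟨x, hx⟩ := hφ₁R.ge h3
      have h4 : ((⟨x, hP₁S x.2⟩, z.2) : S × S) ∈ D₁ := ⟨x.2, hx⟩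
      refine ⟨⟨_, hDN h4⟩, h4, Prod.ext (Subtype.ext ?_) rfl⟩
      have h5 : ((f₂ ⟨_, hDN h4⟩).1 : Ω) = μ x := hψe _ x.2 (hP₁e x.2)
      rw [h5, hμe]
      have h6 := hρ2 ⟨z.1, h1⟩ (hρr.le ⟨_, rfl⟩)
      refine Eq.trans ?_ h6
      congr 1
      apply Subtype.ext
      show φ₁ x = ρ ⟨z.1, h1⟩
      rw [hx, h2]
  have hcardD : Nat.card D₁ = n := by
    have h1 : IsFD F D₁ := ⟨P₁, φ₁, hφ₁, rfl⟩
    rw [← h1.card_map_snd, hDR, hR]
  have key := modEq_of_homs X N.subtype f₂ (D₁.subgroupOf N) inferInstance (fun D' hD' => by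
    set E : Subgroup (fstIn S (extender S P₁ μ)) := D'.map (Subgroup.inclusion hNle) with hE
    have h1 : D'.map N.subtype = E.map (fstIn S (extender S P₁ μ)).subtype := by
      rw [hE, Subgroup.map_map]
      rfl
    have h2 : D'.map f₂ = E.map (twist ψ (fun x => hom_apply_mem hψ x)) := by
      rw [hE, Subgroup.map_map]
    rw [h1, h2]
    refine nf_twist hX hn hψ E ?_
    rw [hE, Subgroup.card_map_of_injective (Subgroup.inclusion_injective hNle)]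
    have h3 : Nat.card (D₁.subgroupOf N) < Nat.card D' := by
      have h5 : (D₁.subgroupOf N : Set N) ⊂ (D' : Set N) := hD'
      have h6 := Set.ncard_lt_ncard h5 (Set.toFinite _)
      exact h6
    have h4 : Nat.card (D₁.subgroupOf N) = n := by
      have h7 := Subgroup.card_map_of_injective (K := D₁.subgroupOf N) (f := N.subtype) N.subtype_injective
      rw [← h7, hmap1, hcardD]
    omega)
  rw [hmap1, hmap2] at key
  exact key

end Cfsg.Agent.H767.Biset
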