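import Cfsg.Agent.H767.TEElimW
set_option linter.all false

/-!
# Two maximal subgroups of natural type (helper767)
-/

set_option autoImplicit false
set_option linter.unusedSectionVars false
set_option linter.unusedVariables false

namespace Cfsg.Agent.H767.TE

open Subgroup
open scoped commutatorElement

variable {S : Type*} [Group S] [Finite S] {p : ℕ} [hp : Fact p.Prime]

variable {E1 E2 : Subgroup S} [hE1 : E1.Normal] [hE2 : E2.Normal] {A1 : Subgroup (MulAut E1)} {A2 : Subgroup (MulAut E2)}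
  {B : Subgroup (MulAut S)} {K1 W1 K2 W2 : Subgroup S} {τ1 τ2 : MulAut S}

theorem idxKF (D1 : EssData p E1 A1 B) (D2 : EssData p E2 A2 B) (hne : E1 ≠ E2) (N1 : NT p E1 A1 B K1 W1 τ1)
    (hK1 : K1 ≤ E1 ⊓ E2) : K1.relIndex (E1 ⊓ E2) = p := by
  have h1 := Subgroup.relIndex_mul_relIndex K1 (E1 ⊓ E2) E1 hK1 inf_le_left
  rw [pair_idx1 D1 D2 hne, N1.idx, pow_two] at h1
  exact Nat.eq_of_mul_eq_mul_right hp.out.pos h1

theorem mk_comm {N : Subgroup S} [hN : N.Normal] {a b : S} (h : ⁅a, b⁆ ∈ N) :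
    (QuotientGroup.mk a : S ⧸ N) * QuotientGroup.mk b = QuotientGroup.mk b * QuotientGroup.mk a := by
  have : ⁅(QuotientGroup.mk a : S ⧸ N), (QuotientGroup.mk b : S ⧸ N)⁆ = 1 := (QuotientGroup.eq_one_iff _).2 h
  rwa [commutatorElement_eq_one_iff_mul_comm] at this

/-- `E₁/K₂` is abelian -/
theorem abel_K2 (D1 : EssData p E1 A1 B) (D2 : EssData p E2 A2 B) (hne : E1 ≠ E2) (hS : IsPGroup p S)
    (N2 : NT p E2 A2 B K2 W2 τ2) (hK2 : K2 ≤ E1 ⊓ E2) : ∀ a ∈ E1, ∀ b ∈ E1, ⁅a, b⁆ ∈ K2 := by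
  have hK2n := N2.invK.normal D2
  have hi : K2.relIndex (E1 ⊓ E2) = p := by
    rw [inf_comm] at hK2 ⊢
    exact idxKF D2 D1 hne.symm N2 hK2
  refine abel_of_index (D := E1 ⊓ E2) inf_le_left (dvd_of_eq (pair_idx1 D1 D2 hne)) ?_
  intro d hd e he
  exact comm_mem_of_prime hS hK2 (dvd_of_eq hi) hd e

theorem Fr_le_K2 (D1 : EssData p E1 A1 B) (D2 : EssData p E2 A2 B) (hne : E1 ≠ E2) (hS : IsPGroup p S) (h2 : p ≠ 2)
    (N2 : NT p E2 A2 B K2 W2 τ2) (hK2 : K2 ≤ E1 ⊓ E2) : Fr E1 ≤ K2 :=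
  Fr_le_of hS (hK2.trans inf_le_left) (abel_K2 D1 D2 hne hS N2 hK2) (fun a _ => N2.pow D2 hS h2 a)

/-- **Claim 1**: `K₁ = K₂`. -/
theorem nn_K_eq (D1 : EssData p E1 A1 B) (D2 : EssData p E2 A2 B) (hne : E1 ≠ E2) (hS : IsPGroup p S) (h2 : p ≠ 2)
    (N1 : NT p E1 A1 B K1 W1 τ1) (N2 : NT p E2 A2 B K2 W2 τ2) (hK1 : K1 ≤ E1 ⊓ E2) (hK2 : K2 ≤ E1 ⊓ E2) : K1 = K2 := by
  by_contra hKne
  have hK1n := N1.invK.normal D1
  have hK2n := N2.invK.normal D2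
  have hF1n : (Fr E1).Normal := Fr_normal
  have hi1 : K1.relIndex (E1 ⊓ E2) = p := idxKF D1 D2 hne N1 hK1
  have hi2 : K2.relIndex (E1 ⊓ E2) = p := by
    rw [inf_comm] at hK2 ⊢
    exact idxKF D2 D1 hne.symm N2 hK2
  have hFr1 : Fr E1 ≤ K2 := Fr_le_K2 D1 D2 hne hS h2 N2 hK2
  have hinf : K1 ⊓ K2 = Fr E1 := by
    rcases between (N := Fr E1) (X := K1 ⊓ K2) (M := K1) (le_inf N1.frK hFr1) inf_le_left N1.idxK with h | h
    · exact h
    · exact (hKne (eq_of_relIndex (inf_eq_left.1 h) hK2 (by rw [hi1, hi2]))).elim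
  have hsup : K1 ⊔ K2 = E1 ⊓ E2 := by
    rcases between (N := K1) (X := K1 ⊔ K2) (M := E1 ⊓ E2) le_sup_left (sup_le hK1 hK2) (dvd_of_eq hi1) with h | h
    · exact (hKne (eq_of_relIndex (sup_eq_left.1 h) hK1 (by rw [hi1, hi2])).symm).elim
    · exact h
  have hcent : ∀ d ∈ E1 ⊓ E2, ∀ s, ⁅d, s⁆ ∈ Fr E1 := by
    intro d hd s
    rw [← hsup] at hd
    obtain ⟨a, ha, b, hb, rfl⟩ := Subgroup.mem_sup_of_normal_left.1 hd
    refine cm_mul_left (comm_mem_of_prime hS N1.frK N1.idxK ha s) ?_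
    have h1 : (K1 ⊓ K2).relIndex K2 = p := by
      rw [Subgroup.inf_relIndex_right]
      have h3 : K1.relIndex (K1 ⊔ K2) = K1.relIndex K2 := Subgroup.relIndex_sup_left K2 K1
      rw [← h3, hsup, hi1]
    rw [← hinf]
    exact comm_mem_of_prime hS inf_le_right (dvd_of_eq h1) hb s
  have key : ∀ x ∈ E1, ∀ s, ⁅x, s⁆ ∈ K2 := by
    intro x hx s
    have hcF : ⁅x, s⁆ ∈ E1 ⊓ E2 := pair_comm D1 D2 x s
    have hτc : τ1 ⁅x, s⁆ * ⁅x, s⁆ ∈ Fr E1 := by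
      apply (QuotientGroup.eq_one_iff (N := Fr E1) _).1
      rw [map_commutatorElement]
      show ⁅(QuotientGroup.mk (τ1 x) : S ⧸ Fr E1), (QuotientGroup.mk (τ1 s) : S ⧸ Fr E1)⁆ * ⁅(QuotientGroup.mk x : S ⧸ Fr E1), (QuotientGroup.mk s : S ⧸ Fr E1)⁆ = 1
      have q1 : (QuotientGroup.mk (τ1 x) : S ⧸ Fr E1) = QuotientGroup.mk (τ1 x * x) * (QuotientGroup.mk x)⁻¹ := by
        rw [QuotientGroup.mk_mul, mul_inv_cancel_right]
      have q2 : (QuotientGroup.mk (τ1 s) : S ⧸ Fr E1) = QuotientGroup.mk s * QuotientGroup.mk (s⁻¹ * τ1 s) := by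
        rw [← QuotientGroup.mk_mul, mul_inv_cancel_left]
      have hk' : ∀ z : S, (QuotientGroup.mk (τ1 x * x) : S ⧸ Fr E1) * QuotientGroup.mk z = QuotientGroup.mk z * QuotientGroup.mk (τ1 x * x) :=
        fun z => mk_comm (hcent _ (hK1 (N1.negE D1 hx)) z)
      have hex : (QuotientGroup.mk (s⁻¹ * τ1 s) : S ⧸ Fr E1) * QuotientGroup.mk x = QuotientGroup.mk x * QuotientGroup.mk (s⁻¹ * τ1 s) :=
        mk_comm (comm_mem_Fr hS (N1.quo s) hx)
      have hcx : (QuotientGroup.mk ⁅x, s⁆ : S ⧸ Fr E1) * QuotientGroup.mk x = QuotientGroup.mk x * QuotientGroup.mk ⁅x, s⁆ :=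
        mk_comm (hcent _ hcF x)
      rw [q1, q2]
      have k1 := hk' x
      have k2 := hk' s
      have k3 := hk' (s⁻¹ * τ1 s)
      set k : S ⧸ Fr E1 := QuotientGroup.mk (τ1 x * x)
      set a : S ⧸ Fr E1 := QuotientGroup.mk x
      set b : S ⧸ Fr E1 := QuotientGroup.mk s
      set e : S ⧸ Fr E1 := QuotientGroup.mk (s⁻¹ * τ1 s)
      have hc : (QuotientGroup.mk ⁅x, s⁆ : S ⧸ Fr E1) = ⁅a, b⁆ := rfl
      rw [hc] at hcx
      have e1 : ⁅k * a⁻¹, b * e⁆ = a⁻¹ * b * a * b⁻¹ := by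
        have c1 : Commute k (a⁻¹ * (b * e) * a) := by
          have m1 : Commute k a := k1
          have m2 : Commute k b := k2
          have m3 : Commute k e := k3
          exact (m1.inv_right.mul_right (m2.mul_right m3)).mul_right m1
        have c2 : Commute e a := hex
        calc ⁅k * a⁻¹, b * e⁆ = k * (a⁻¹ * (b * e) * a) * k⁻¹ * (b * e)⁻¹ := by rw [commutatorElement_def]; group
          _ = a⁻¹ * (b * e) * a * (b * e)⁻¹ := by rw [c1.eq, mul_inv_cancel_right]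
          _ = a⁻¹ * b * (e * a) * e⁻¹ * b⁻¹ := by group
          _ = a⁻¹ * b * a * b⁻¹ := by rw [c2.eq]; group
      rw [e1]
      calc a⁻¹ * b * a * b⁻¹ * ⁅a, b⁆ = a⁻¹ * b * a * b⁻¹ * a⁻¹ * (a * ⁅a, b⁆) := by group
        _ = a⁻¹ * b * a * b⁻¹ * a⁻¹ * (⁅a, b⁆ * a) := by rw [hcx]
        _ = 1 := by rw [commutatorElement_def]; group
    have hcF' := hcF
    rw [← hsup] at hcF'
    obtain ⟨a, ha, b, hb, hab⟩ := Subgroup.mem_sup_of_normal_left.1 hcF'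
    rw [← hab] at hτc ⊢
    -- modulo `Φ(E₁)`
    have h1 := N1.pos a ha
    have h3 : τ1 b * b ∈ Fr E1 := by
      rw [← hinf]
      exact ⟨N1.negE D1 ((hK2.trans inf_le_left) hb), K2.mul_mem (N2.invK.map D2 N1.mem hb) hb⟩
    have h4 : a * a ∈ Fr E1 := by
      apply (QuotientGroup.eq_one_iff (N := Fr E1) _).1
      have g1 : (QuotientGroup.mk (τ1 a) : S ⧸ Fr E1) = QuotientGroup.mk a := ((QuotientGroup.eq).2 h1).symm
      have g2 : (QuotientGroup.mk (τ1 b) : S ⧸ Fr E1) * QuotientGroup.mk b = 1 := (QuotientGroup.eq_one_iff _).2 h3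
      have g3 : (QuotientGroup.mk (τ1 (a * b)) : S ⧸ Fr E1) * QuotientGroup.mk (a * b) = 1 := (QuotientGroup.eq_one_iff _).2 hτc
      have g4 := mk_comm (hcent a (hK1 ha) b)
      rw [map_mul, QuotientGroup.mk_mul, QuotientGroup.mk_mul, g1] at g3
      rw [QuotientGroup.mk_mul]
      set x : S ⧸ Fr E1 := QuotientGroup.mk a
      set y : S ⧸ Fr E1 := QuotientGroup.mk b
      set z : S ⧸ Fr E1 := QuotientGroup.mk (τ1 b)
      have g5 : z = y⁻¹ := eq_inv_of_mul_eq_one_left g2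
      rw [g5] at g3
      calc x * x = x * y⁻¹ * (y * x) := by group
        _ = 1 := by rw [← g4, g3]
    exact K2.mul_mem (hFr1 (sq_mem hS h2 h4)) hb
  apply N2.notcent D2 hS h2
  refine pair_cent D1 D2 hne hK2n (fun e he m hm => key e he m) (fun e he m hm => N2.frK (comm_mem_Fr hS he hm))

/-! ### `T = K₁ = K₂` -/

section T

variable {T : Subgroup S}

theorem sq_le_of_prod {a b : ℕ} (h : a * b ≤ p ^ 3) (hb : p ^ 2 ≤ b) : a ≤ p :=
  le_of_mul_le_cube ((Nat.mul_le_mul_left a hb).trans h)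

/-- the key contradiction for Claim 2 -/
theorem nn_key (D1 : EssData p E1 A1 B) (D2 : EssData p E2 A2 B) (hne : E1 ≠ E2) (hS : IsPGroup p S) (h2 : p ≠ 2)
    (hR : Rk p S) (N1 : NT p E1 A1 B T W1 τ1) (hT : T ≤ E1 ⊓ E2) (hFn : (Fr T).Normal)
    (hb : ∀ e ∈ E1, ∀ t ∈ T, ⁅e, t⁆ ∈ cmod T E1 (Fr T) hFn) (hD : ∀ d ∈ E1 ⊓ E2, ∀ s, ⁅d, s⁆ ∈ T)
    (hbig : p ^ 2 ≤ (cmod T E1 (Fr T) hFn).relIndex T) : False := by
  have hTn := N1.invK.normal D1
  set N := cmod T E1 (Fr T) hFn with hNdef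
  have hN : Inv A1 N := Inv.cmod N1.invK Inv.self N1.invK.Fr hFn
  have hNn : N.Normal := hN.normal D1
  have hNT : N ≤ T := fun x hx => hx.1
  have hFN : Fr T ≤ N := fun x hx => ⟨Fr_le T hx, fun e he => cm_of_mem_left hx⟩
  have hTE : T ≤ E1 := N1.invK.le
  have hidx : (Fr T).relIndex N ≤ p := by
    apply sq_le_of_prod (b := N.relIndex T) _ hbig
    rw [Subgroup.relIndex_mul_relIndex _ _ _ hFN hNT]
    exact Rk.fr hS hR T
  have hcN : ∀ n ∈ N, ∀ s, ⁅n, s⁆ ∈ Fr T := fun n hn s => comm_mem_of_prime hS hFN (rel_dvd hS hidx) hn s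
  have hτN := N1.triv N (Fr T) hN N1.invK.Fr hcN
  -- `τ` inverts `T/N`
  have hneg : ∀ t ∈ T, τ1 t * t ∈ N := by
    intro t ht
    have hτt : τ1 t ∈ T := N1.invK.map D1 N1.mem ht
    refine ⟨T.mul_mem hτt ht, fun e he => ?_⟩
    have g1 : (QuotientGroup.mk (τ1 ⁅t, e⁆) : S ⧸ Fr T) = QuotientGroup.mk ⁅t, e⁆ :=
      ((QuotientGroup.eq).2 (hτN _ (by
        have := N.inv_mem (hb e he t ht)
        rwa [commutatorElement_inv] at this))).symm
    rw [map_commutatorElement] at g1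
    have g2 : ⁅(QuotientGroup.mk (τ1 t) : S ⧸ Fr T), (QuotientGroup.mk (τ1 e) : S ⧸ Fr T)⁆ =
      ⁅(QuotientGroup.mk t : S ⧸ Fr T), (QuotientGroup.mk e : S ⧸ Fr T)⁆ := g1
    have q1 : (QuotientGroup.mk (τ1 e) : S ⧸ Fr T) = QuotientGroup.mk (τ1 e * e) * (QuotientGroup.mk e)⁻¹ := by
      rw [QuotientGroup.mk_mul, mul_inv_cancel_right]
    have c1 : Commute (QuotientGroup.mk (τ1 e * e) : S ⧸ Fr T) (QuotientGroup.mk (τ1 t)) :=
      mk_comm (comm_mem_Fr hS (N1.negE D1 he) hτt)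
    have hN1 : ⁅τ1 t, e⁆ ∈ N := by
      have := N.inv_mem (hb e he _ hτt)
      rwa [commutatorElement_inv] at this
    have hN2 : ⁅τ1 t, e⁻¹⁆ ∈ N := by
      have := N.inv_mem (hb e⁻¹ (E1.inv_mem he) _ hτt)
      rwa [commutatorElement_inv] at this
    have hN3 : ⁅t, e⁆ ∈ N := by
      have := N.inv_mem (hb e he t ht)
      rwa [commutatorElement_inv] at this
    have c2 : ∀ z : S, Commute (⁅(QuotientGroup.mk (τ1 t) : S ⧸ Fr T), (QuotientGroup.mk e : S ⧸ Fr T)⁆) (QuotientGroup.mk z) :=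
      fun z => mk_comm (hcN _ hN1 z)
    have c3 : ∀ z : S, Commute (⁅(QuotientGroup.mk (τ1 t) : S ⧸ Fr T), (QuotientGroup.mk e : S ⧸ Fr T)⁻¹⁆) (QuotientGroup.mk z) :=
      fun z => mk_comm (hcN _ hN2 z)
    have c4 : ∀ z : S, Commute (⁅(QuotientGroup.mk t : S ⧸ Fr T), (QuotientGroup.mk e : S ⧸ Fr T)⁆) (QuotientGroup.mk z) :=
      fun z => mk_comm (hcN _ hN3 z)
    apply (QuotientGroup.eq_one_iff (N := Fr T) _).1
    show ⁅(QuotientGroup.mk (τ1 t) : S ⧸ Fr T) * QuotientGroup.mk t, (QuotientGroup.mk e : S ⧸ Fr T)⁆ = 1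
    rw [q1] at g2
    have c3' := c3 (τ1 e * e)
    have c2' := c2 e
    have c4' := c4 (τ1 t)
    set k : S ⧸ Fr T := QuotientGroup.mk (τ1 e * e)
    set x' : S ⧸ Fr T := QuotientGroup.mk (τ1 t)
    set x : S ⧸ Fr T := QuotientGroup.mk t
    set a : S ⧸ Fr T := QuotientGroup.mk e
    have e1 : ⁅x', k * a⁻¹⁆ = ⁅x', a⁻¹⁆ := by
      calc ⁅x', k * a⁻¹⁆ = (x' * k) * a⁻¹ * x'⁻¹ * a * k⁻¹ := by rw [commutatorElement_def]; group
        _ = k * ⁅x', a⁻¹⁆ * k⁻¹ := by rw [← c1.eq, commutatorElement_def]; group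
        _ = ⁅x', a⁻¹⁆ := by rw [← c3'.eq, mul_inv_cancel_right]
    have e2 : ⁅x', a⁻¹⁆ = ⁅x', a⁆⁻¹ := by
      have e3 : ⁅x', a⁻¹⁆ = a⁻¹ * ⁅x', a⁆⁻¹ * a := by
        rw [commutatorElement_def, commutatorElement_def]
        group
      rw [e3, mul_assoc, c2'.inv_left.eq, inv_mul_cancel_left]
    have e4 : ⁅x' * x, a⁆ = x' * ⁅x, a⁆ * x'⁻¹ * ⁅x', a⁆ := by
      rw [commutatorElement_def, commutatorElement_def, commutatorElement_def]
      group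
    rw [e4, ← c4'.eq, mul_inv_cancel_right, ← g2, e1, e2, inv_mul_cancel]
  -- `E₁/N` is abelian
  have hab : ∀ a ∈ E1, ∀ b ∈ E1, ⁅a, b⁆ ∈ N := by
    intro a ha b hb'
    have hcT : ⁅a, b⁆ ∈ T := N1.frK (comm_mem_Fr hS ha hb')
    have hcen : ∀ t ∈ T, ∀ e ∈ E1, Commute (QuotientGroup.mk t : S ⧸ N) (QuotientGroup.mk e) :=
      fun t ht e he => mk_comm (cm_symm (hb e he t ht))
    have g1 : (QuotientGroup.mk (τ1 ⁅a, b⁆) : S ⧸ N) = (QuotientGroup.mk ⁅a, b⁆)⁻¹ :=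
      eq_inv_of_mul_eq_one_left ((QuotientGroup.eq_one_iff _).2 (hneg _ hcT))
    rw [map_commutatorElement] at g1
    have g2 : ⁅(QuotientGroup.mk (τ1 a) : S ⧸ N), (QuotientGroup.mk (τ1 b) : S ⧸ N)⁆ =
      ⁅(QuotientGroup.mk a : S ⧸ N), (QuotientGroup.mk b : S ⧸ N)⁆⁻¹ := g1
    have q1 : (QuotientGroup.mk (τ1 a) : S ⧸ N) = QuotientGroup.mk (τ1 a * a) * (QuotientGroup.mk a)⁻¹ := by
      rw [QuotientGroup.mk_mul, mul_inv_cancel_right]
    have q2 : (QuotientGroup.mk (τ1 b) : S ⧸ N) = QuotientGroup.mk (τ1 b * b) * (QuotientGroup.mk b)⁻¹ := by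
      rw [QuotientGroup.mk_mul, mul_inv_cancel_right]
    have k1 := hcen _ (N1.negE D1 ha) a ha
    have k2 := hcen _ (N1.negE D1 ha) b hb'
    have k3 := hcen _ (N1.negE D1 ha) _ (hTE (N1.negE D1 hb'))
    have l1 := hcen _ (N1.negE D1 hb') a ha
    have l2 := hcen _ (N1.negE D1 hb') b hb'
    have m1 : Commute ⁅(QuotientGroup.mk a : S ⧸ N), (QuotientGroup.mk b : S ⧸ N)⁆ (QuotientGroup.mk a) := hcen _ hcT a ha
    have m2 : Commute ⁅(QuotientGroup.mk a : S ⧸ N), (QuotientGroup.mk b : S ⧸ N)⁆ (QuotientGroup.mk b) := hcen _ hcT b hb'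
    rw [q1, q2] at g2
    apply sq_mem hS h2
    apply (QuotientGroup.eq_one_iff (N := N) _).1
    rw [QuotientGroup.mk_mul]
    show ⁅(QuotientGroup.mk a : S ⧸ N), (QuotientGroup.mk b : S ⧸ N)⁆ * ⁅(QuotientGroup.mk a : S ⧸ N), (QuotientGroup.mk b : S ⧸ N)⁆ = 1
    set k : S ⧸ N := QuotientGroup.mk (τ1 a * a)
    set l : S ⧸ N := QuotientGroup.mk (τ1 b * b)
    set x : S ⧸ N := QuotientGroup.mk a
    set y : S ⧸ N := QuotientGroup.mk b
    have e1 : ⁅k * x⁻¹, l * y⁻¹⁆ = ⁅x, y⁆ := by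
      have f1 : Commute k (x⁻¹ * (l * y⁻¹) * x * (l * y⁻¹)⁻¹) :=
        ((k1.inv_right.mul_right (k3.mul_right k2.inv_right)).mul_right k1).mul_right (k3.mul_right k2.inv_right).inv_right
      have f2 : Commute l x := l1
      have f3 : Commute ⁅x, y⁆ (y * x) := m2.mul_right m1
      calc ⁅k * x⁻¹, l * y⁻¹⁆ = k * (x⁻¹ * (l * y⁻¹) * x * (l * y⁻¹)⁻¹) * ((l * y⁻¹) * k⁻¹ * (l * y⁻¹)⁻¹) := by
            rw [commutatorElement_def]; group
        _ = (x⁻¹ * (l * y⁻¹) * x * (l * y⁻¹)⁻¹) * (k * ((l * y⁻¹) * k⁻¹ * (l * y⁻¹)⁻¹)) := by rw [f1.eq, mul_assoc]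
        _ = (x⁻¹ * (l * y⁻¹) * x * (l * y⁻¹)⁻¹) * (k * (l * y⁻¹) * k⁻¹ * (l * y⁻¹)⁻¹) := by group
        _ = x⁻¹ * (l * y⁻¹) * x * (l * y⁻¹)⁻¹ := by
            rw [(k3.mul_right k2.inv_right).eq]; group
        _ = (l * x⁻¹) * y⁻¹ * x * y * l⁻¹ := by rw [f2.inv_right.eq]; group
        _ = l * (x⁻¹ * y⁻¹ * x * y) * l⁻¹ := by group
        _ = x⁻¹ * y⁻¹ * x * y := by
            have f4 : Commute l (x⁻¹ * y⁻¹ * x * y) := ((f2.inv_right.mul_right l2.inv_right).mul_right f2).mul_right l2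
            rw [f4.eq, mul_inv_cancel_right]
        _ = (y * x)⁻¹ * (⁅x, y⁆ * (y * x)) := by rw [commutatorElement_def]; group
        _ = ⁅x, y⁆ := by rw [f3.eq, inv_mul_cancel_left]
    rw [e1] at g2
    nth_rewrite 1 [g2]
    exact inv_mul_cancel _
  -- the `p`-power map
  let P : Subgroup S :=
    { carrier := {e | e ∈ E1 ∧ e ^ p ∈ N}
      mul_mem' := by
        rintro a b ⟨ha, ha'⟩ ⟨hb1, hb'⟩
        refine ⟨E1.mul_mem ha hb1, ?_⟩
        have c : Commute (QuotientGroup.mk a : S ⧸ N) (QuotientGroup.mk b) := mk_comm (hab a ha b hb1)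
        apply (QuotientGroup.eq_one_iff (N := N) _).1
        have g1 : (QuotientGroup.mk a : S ⧸ N) ^ p = 1 := (QuotientGroup.eq_one_iff _).2 ha'
        have g2 : (QuotientGroup.mk b : S ⧸ N) ^ p = 1 := (QuotientGroup.eq_one_iff _).2 hb'
        rw [QuotientGroup.mk_pow, QuotientGroup.mk_mul, c.mul_pow, g1, g2, one_mul]
      one_mem' := ⟨E1.one_mem, by
        rw [one_pow]
        exact N.one_mem⟩
      inv_mem' := by
        rintro a ⟨ha, ha'⟩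
        refine ⟨E1.inv_mem ha, ?_⟩
        rw [inv_pow]
        exact N.inv_mem ha' }
  have hPi : Inv A1 P := by
    refine ⟨fun x hx => hx.1, ?_⟩
    rintro α hα x ⟨hx1, hx2⟩
    refine ⟨(α x).2, ?_⟩
    have h1 := hN.inv α hα (x ^ p) (by rw [Subgroup.coe_pow]; exact hx2)
    rw [map_pow, Subgroup.coe_pow] at h1
    exact h1
  have hTP : T ≤ P := fun t ht => ⟨hTE ht, hFN (pow_mem_Fr hS ht)⟩
  have hdP : E1 ⊓ E2 ≤ P := by
    intro d hd
    refine ⟨hd.1, N1.pow D1 hS h2 d, fun e he => ?_⟩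
    have ht : ⁅d⁻¹, e⁆ ∈ T := hD _ ((E1 ⊓ E2).inv_mem hd) e
    have h1 := hb d hd.1 _ ht
    have h3 := pow_mod h2 (N := Fr T) (a := d) (b := ⁅d⁻¹, e⁆) (cm_symm (h1.2 d hd.1)) (comm_mem_Fr hS ht (hNT h1))
      (pow_mem_Fr hS (hNT h1))
    have h4 : (⁅d⁻¹, e⁆) ^ p ∈ Fr T := pow_mem_Fr hS ht
    have e1 : d * ⁅d⁻¹, e⁆ = e * d * e⁻¹ := by
      rw [commutatorElement_def]
      group
    rw [e1, conj_pow] at h3
    have h5 := (Fr T).mul_mem h4 h3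
    have e2 : ∀ u : S, u * ((d ^ p * u)⁻¹ * (e * d ^ p * e⁻¹)) = ⁅(d ^ p)⁻¹, e⁆ := by
      intro u
      rw [commutatorElement_def]
      group
    rw [e2] at h5
    have h6 := cm_inv_left (N := Fr T) h5
    rwa [inv_inv] at h6
  rcases N1.irr P hPi hTP with h | h
  · have h1 : T.relIndex (E1 ⊓ E2) = p := idxKF D1 D2 hne N1 hT
    have h3 : T.relIndex (E1 ⊓ E2) = 1 := by
      rw [Subgroup.relIndex_eq_one]
      rw [h] at hdP
      exact hdP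
    rw [h1] at h3
    exact hp.out.one_lt.ne' h3
  · have h1 := hR N E1 hN.le hab (fun a ha => by
      rw [← h] at ha
      exact ha.2)
    rw [← Subgroup.relIndex_mul_relIndex N T E1 hNT hTE, N1.idx] at h1
    have h3 := le_of_mul_le_cube h1
    have := p_lt_sq (p := p)
    omega

theorem cmod_normal {C M N : Subgroup S} (hC : C.Normal) (hM : M.Normal) (hN : N.Normal) : (cmod C M N hN).Normal := by
  refine ⟨fun x hx s => ⟨hC.conj_mem _ hx.1 s, fun m hm => ?_⟩⟩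
  have h1 := hx.2 _ (hM.conj_mem m hm s⁻¹)
  have h2 := hN.conj_mem _ h1 s
  have e : s * ⁅x, s⁻¹ * m * s⁻¹⁻¹⁆ * s⁻¹ = ⁅s * x * s⁻¹, m⁆ := by
    rw [commutatorElement_def, commutatorElement_def]
    group
  rwa [e] at h2

theorem le_of_lt_sq (hS : IsPGroup p S) {N M : Subgroup S} (h : ¬ p ^ 2 ≤ N.relIndex M) : N.relIndex M ≤ p := by
  obtain ⟨k, hk⟩ := rel_pow hS N M
  rw [hk] at h ⊢
  have h1 : k ≤ 1 := by
    by_contra hcon
    push Not at hcon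
    exact h (Nat.pow_le_pow_right hp.out.pos hcon)
  calc p ^ k ≤ p ^ 1 := Nat.pow_le_pow_right hp.out.pos h1
    _ = p := pow_one p

/-- **Claim 2**: `S` centralises `T/Φ(T)`. -/
theorem nn_cent (D1 : EssData p E1 A1 B) (D2 : EssData p E2 A2 B) (hne : E1 ≠ E2) (hS : IsPGroup p S) (h2 : p ≠ 2)
    (hR : Rk p S) (N1 : NT p E1 A1 B T W1 τ1) (N2 : NT p E2 A2 B T W2 τ2) (hT : T ≤ E1 ⊓ E2) :
    ∀ t ∈ T, ∀ s, ⁅t, s⁆ ∈ Fr T := by
  have hTn := N1.invK.normal D1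
  have hFn : (Fr T).Normal := Fr_normal
  have hDn : (E1 ⊓ E2).Normal := inferInstance
  have hidx : T.relIndex (E1 ⊓ E2) = p := idxKF D1 D2 hne N1 hT
  have hnle : ¬ E1 ⊓ E2 ≤ T := by
    intro h
    have h3 : T.relIndex (E1 ⊓ E2) = 1 := by
      rw [Subgroup.relIndex_eq_one]
      exact h
    rw [hidx] at h3
    exact hp.out.one_lt.ne' h3
  have hD : ∀ d ∈ E1 ⊓ E2, ∀ s, ⁅d, s⁆ ∈ T := fun d hd s => comm_mem_of_prime hS hT (dvd_of_eq hidx) hd s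
  by_contra hcon
  have hDc : ¬ ∀ d ∈ E1 ⊓ E2, ∀ t ∈ T, ⁅d, t⁆ ∈ Fr T := by
    intro hDc
    apply hcon
    refine pair_cent D1 D2 hne hFn ?_ ?_
    · have hC : Inv A1 (cmod E1 T (Fr T) hFn) := Inv.cmod Inv.self N1.invK N1.invK.Fr hFn
      rcases N1.irr _ hC (fun x hx => ⟨N1.invK.le hx, fun m hm => comm_mem_Fr hS hx hm⟩) with h | h
      · exfalso
        apply hnle
        rw [← h]
        exact fun d hd => ⟨hd.1, fun m hm => hDc d hd m hm⟩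
      · intro e he m hm
        rw [← h] at he
        exact he.2 m hm
    · have hC : Inv A2 (cmod E2 T (Fr T) hFn) := Inv.cmod Inv.self N2.invK N2.invK.Fr hFn
      rcases N2.irr _ hC (fun x hx => ⟨N2.invK.le hx, fun m hm => comm_mem_Fr hS hx hm⟩) with h | h
      · exfalso
        apply hnle
        rw [← h]
        exact fun d hd => ⟨hd.2, fun m hm => hDc d hd m hm⟩
      · intro e he m hm
        rw [← h] at he
        exact he.2 m hm
  have hc3 := comm3 hS (Fr_le T) (Rk.fr hS hR T)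
  have hth : ⁅T, ⁅(⊤ : Subgroup S), (⊤ : Subgroup S)⁆⁆ ≤ ⁅⁅T, (⊤ : Subgroup S)⁆, (⊤ : Subgroup S)⁆ := three' le_rfl
  have hF : ⁅(⊤ : Subgroup S), (⊤ : Subgroup S)⁆ ⊔ T = E1 ⊓ E2 := by
    have hle : ⁅(⊤ : Subgroup S), (⊤ : Subgroup S)⁆ ⊔ T ≤ E1 ⊓ E2 := by
      refine sup_le ?_ hT
      rw [Subgroup.commutator_le]
      exact fun a _ b _ => pair_comm D1 D2 a b
    rcases between (X := ⁅(⊤ : Subgroup S), (⊤ : Subgroup S)⁆ ⊔ T) le_sup_right hle (dvd_of_eq hidx) with h | h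
    · exfalso
      apply N1.notcent D1 hS h2
      intro e he s
      rw [← h]
      exact (le_sup_left : _ ≤ ⁅(⊤ : Subgroup S), (⊤ : Subgroup S)⁆ ⊔ T) (Subgroup.commutator_mem_commutator (mem_top e) (mem_top s))
    · exact h
  set Z := cmod T ⊤ (Fr T) hFn with hZ
  have hZn : Z.Normal := cmod_normal hTn inferInstance hFn
  have hDZ : ∀ d ∈ E1 ⊓ E2, ∀ t ∈ T, ⁅d, t⁆ ∈ Z := by
    intro d hd t ht
    rw [← hF] at hd
    obtain ⟨c, hc, t', ht', rfl⟩ := Subgroup.mem_sup_of_normal_left.1 hd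
    refine cm_mul_left ?_ ?_
    · apply cm_symm
      have h1 := hth (Subgroup.commutator_mem_commutator ht hc)
      refine ⟨?_, fun s _ => hc3 (Subgroup.commutator_mem_commutator h1 (mem_top s))⟩
      exact ((Subgroup.commutator_mono (Subgroup.commutator_le_left T ⊤) le_rfl).trans (Subgroup.commutator_le_left T ⊤)) h1
    · have h1 : ⁅t', t⁆ ∈ Fr T := comm_mem_Fr hS ht' ht
      exact ⟨Fr_le T h1, fun s _ => cm_of_mem_left h1⟩
  have hZ1 : Z ≤ cmod T E1 (Fr T) hFn := fun x hx => ⟨hx.1, fun s _ => hx.2 s (mem_top s)⟩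
  have hZ2 : Z ≤ cmod T E2 (Fr T) hFn := fun x hx => ⟨hx.1, fun s _ => hx.2 s (mem_top s)⟩
  have hn1 : (cmod T E1 (Fr T) hFn).Normal := cmod_normal hTn hE1 hFn
  have hn2 : (cmod T E2 (Fr T) hFn).Normal := cmod_normal hTn hE2 hFn
  have hb1 : ∀ e ∈ E1, ∀ t ∈ T, ⁅e, t⁆ ∈ cmod T E1 (Fr T) hFn := by
    have hC : Inv A1 (cmod E1 T (cmod T E1 (Fr T) hFn) hn1) :=
      Inv.cmod Inv.self N1.invK (Inv.cmod N1.invK Inv.self N1.invK.Fr hFn) hn1
    rcases N1.irr _ hC (fun x hx => ⟨N1.invK.le hx, fun m hm => hZ1 (hDZ x (hT hx) m hm)⟩) with h | h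
    · exfalso
      apply hnle
      rw [← h]
      exact fun d hd => ⟨hd.1, fun m hm => hZ1 (hDZ d hd m hm)⟩
    · intro e he m hm
      rw [← h] at he
      exact he.2 m hm
  have hb2 : ∀ e ∈ E2, ∀ t ∈ T, ⁅e, t⁆ ∈ cmod T E2 (Fr T) hFn := by
    have hC : Inv A2 (cmod E2 T (cmod T E2 (Fr T) hFn) hn2) :=
      Inv.cmod Inv.self N2.invK (Inv.cmod N2.invK Inv.self N2.invK.Fr hFn) hn2
    rcases N2.irr _ hC (fun x hx => ⟨N2.invK.le hx, fun m hm => hZ2 (hDZ x (hT hx) m hm)⟩) with h | h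
    · exfalso
      apply hnle
      rw [← h]
      exact fun d hd => ⟨hd.2, fun m hm => hZ2 (hDZ d hd m hm)⟩
    · intro e he m hm
      rw [← h] at he
      exact he.2 m hm
  have hs1 : (cmod T E1 (Fr T) hFn).relIndex T ≤ p := le_of_lt_sq hS (fun h => nn_key D1 D2 hne hS h2 hR N1 hT hFn hb1 hD h)
  have hs2 : (cmod T E2 (Fr T) hFn).relIndex T ≤ p :=
    le_of_lt_sq hS (fun h => nn_key D2 D1 hne.symm hS h2 hR N2 (by rw [inf_comm]; exact hT) hFn hb2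
      (by rw [inf_comm]; exact hD) h)
  set H := cmod T (E1 ⊓ E2) (Fr T) hFn with hH
  have hHT : H ≤ T := fun x hx => hx.1
  have hHne : H ≠ T := by
    intro h
    apply hDc
    intro d hd t ht
    rw [← h] at ht
    exact cm_symm (ht.2 d hd)
  have h1H : cmod T E1 (Fr T) hFn = H := by
    rcases between (N := cmod T E1 (Fr T) hFn) (X := H) (M := T) (fun x hx => ⟨hx.1, fun d hd => hx.2 d hd.1⟩) hHT (rel_dvd hS hs1) with h | h
    · exact h.symm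
    · exact (hHne h).elim
  have h2H : cmod T E2 (Fr T) hFn = H := by
    rcases between (N := cmod T E2 (Fr T) hFn) (X := H) (M := T) (fun x hx => ⟨hx.1, fun d hd => hx.2 d hd.2⟩) hHT (rel_dvd hS hs2) with h | h
    · exact h.symm
    · exact (hHne h).elim
  have hHc := pair_cent D1 D2 hne (M := H) hFn
    (fun e he m hm => cm_symm (by rw [← h1H] at hm; exact hm.2 e he))
    (fun e he m hm => cm_symm (by rw [← h2H] at hm; exact hm.2 e he))
  have hTH : ⁅T, (⊤ : Subgroup S)⁆ ≤ H := by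
    rw [← h1H]
    exact comm1 hS (fun x hx => hx.1) hs1
  have h4 : ⁅⁅T, (⊤ : Subgroup S)⁆, (⊤ : Subgroup S)⁆ ≤ Fr T := by
    refine (Subgroup.commutator_mono hTH le_rfl).trans ?_
    rw [Subgroup.commutator_le]
    exact fun x hx s _ => hHc x hx s
  apply hDc
  intro d hd t ht
  rw [← hF] at hd
  obtain ⟨c, hc, t', ht', rfl⟩ := Subgroup.mem_sup_of_normal_left.1 hd
  exact cm_mul_left (cm_symm ((hth.trans h4) (Subgroup.commutator_mem_commutator ht hc))) (comm_mem_Fr hS ht' ht)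

/-- **Claim 3**, one side -/
theorem nn_single (D1 : EssData p E1 A1 B) (hS : IsPGroup p S) (h2 : p ≠ 2) (hR : Rk p S) (N1 : NT p E1 A1 B T W1 τ1)
    (hc : ∀ t ∈ T, ∀ s, ⁅t, s⁆ ∈ Fr T) : ∀ e ∈ E1, ∀ t ∈ T, ⁅e, t⁆ ∈ (⊥ : Subgroup S) := by
  have hTn := N1.invK.normal D1
  have hFn : (Fr T).Normal := Fr_normal
  have hbn : (⊥ : Subgroup S).Normal := inferInstance
  have hTE := N1.invK.le
  have hfix := N1.fix D1 hS h2 N1.invK hc
  have hib : Inv A1 (⊥ : Subgroup S) := Inv.bot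
  set C := cmod E1 T ⊥ hbn with hC
  have hCi : Inv A1 C := Inv.cmod Inv.self N1.invK hib hbn
  have hCn : C.Normal := hCi.normal D1
  have hEU : E1 ≤ C ⊔ T := by
    refine N1.gen D1 hS h2 le_sup_right ?_
    intro e he
    refine (le_sup_left : C ≤ C ⊔ T) ⟨E1.mul_mem (E1.inv_mem he) (N1.tE D1 he), fun m hm => ?_⟩
    refine N1.uC D1 N1.invK hib (fun m hm => ?_) hm
    rw [hfix m hm, inv_mul_cancel]
    exact one_mem _
  set Z := cmod T T ⊥ hbn with hZ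
  have hZi : Inv A1 Z := Inv.cmod N1.invK N1.invK hib hbn
  have hNi : Inv A1 (Z ⊔ Fr T) := hZi.sup N1.invK.Fr
  have hNn := hNi.normal D1
  have hNT : Z ⊔ Fr T ≤ T := sup_le (fun x hx => hx.1) (Fr_le T)
  have hCZ : ∀ x ∈ C, x ∈ T → x ∈ Z := fun x hx hxT => ⟨hxT, hx.2⟩
  have hbot : (⊥ : Subgroup S) ≤ Z ⊔ Fr T := bot_le
  have hr : (Z ⊔ Fr T).relIndex E1 ≤ p ^ 3 := by
    apply hR _ _ hNi.le
    · intro a ha b hb
      obtain ⟨c, hc1, t, ht, rfl⟩ := Subgroup.mem_sup_of_normal_left.1 (hEU ha)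
      obtain ⟨c', hc', t', ht', rfl⟩ := Subgroup.mem_sup_of_normal_left.1 (hEU hb)
      refine cm_mul_left (cm_mul_right ?_ (hbot (hc1.2 t' ht'))) (cm_mul_right (cm_symm (hbot (hc'.2 t ht))) ?_)
      · apply (le_sup_left : Z ≤ Z ⊔ Fr T)
        apply hCZ
        · rw [commutatorElement_def]
          exact C.mul_mem (C.mul_mem (C.mul_mem hc1 hc') (C.inv_mem hc1)) (C.inv_mem hc')
        · exact N1.frK (comm_mem_Fr hS hc1.1 hc'.1)
      · exact (le_sup_right : Fr T ≤ Z ⊔ Fr T) (comm_mem_Fr hS ht ht')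
    · intro a ha
      obtain ⟨c, hc1, t, ht, rfl⟩ := Subgroup.mem_sup_of_normal_left.1 (hEU ha)
      have hct : Commute c t := by
        have := hc1.2 t ht
        rw [Subgroup.mem_bot, commutatorElement_eq_one_iff_mul_comm] at this
        exact this
      rw [hct.mul_pow]
      refine mul_mem ?_ ((le_sup_right : Fr T ≤ Z ⊔ Fr T) (pow_mem_Fr hS ht))
      exact (le_sup_left : Z ≤ Z ⊔ Fr T) (hCZ _ (C.pow_mem hc1 p) (N1.frK (pow_mem_Fr hS hc1.1)))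
  have hr2 : (Z ⊔ Fr T).relIndex T ≤ p := by
    rw [← Subgroup.relIndex_mul_relIndex _ T E1 hNT hTE, N1.idx] at hr
    exact le_of_mul_le_cube hr
  have hTN : T ≤ Z ⊔ Fr T := by
    intro t0 ht0
    by_contra hcon
    let C0 : Subgroup S :=
      { carrier := {x | x ∈ T ∧ ⁅x, t0⁆ ∈ (⊥ : Subgroup S)}
        mul_mem' := fun ha hb => ⟨T.mul_mem ha.1 hb.1, cm_mul_left ha.2 hb.2⟩
        one_mem' := ⟨T.one_mem, by
          rw [commutatorElement_one_left]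
          exact one_mem _⟩
        inv_mem' := fun ha => ⟨T.inv_mem ha.1, cm_inv_left ha.2⟩ }
    have hC0T : C0 ≤ T := fun x hx => hx.1
    have h0 : t0 ∈ C0 := ⟨ht0, by
      rw [commutatorElement_self]
      exact one_mem _⟩
    have hZC : Z ≤ C0 := fun z hz => ⟨hz.1, hz.2 t0 ht0⟩
    have h1 : C0 ⊔ Fr T = T := by
      rcases between (N := Z ⊔ Fr T) (X := C0 ⊔ Fr T) (M := T) (sup_le_sup_right hZC _) (sup_le hC0T (Fr_le T)) (rel_dvd hS hr2) with h | h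
      · exfalso
        apply hcon
        rw [← h]
        exact (le_sup_left : C0 ≤ C0 ⊔ Fr T) h0
      · exact h
    have h3 := eq_of_sup_Fr hC0T h1
    apply hcon
    apply (le_sup_left : Z ≤ Z ⊔ Fr T)
    refine ⟨ht0, fun m hm => cm_symm ?_⟩
    rw [← h3] at hm
    exact hm.2
  have hZT : Z = T := eq_of_sup_Fr (fun x hx => hx.1) (le_antisymm hNT hTN)
  have hTC : T ≤ C := by
    intro t ht
    rw [← hZT] at ht
    exact ⟨hTE ht.1, ht.2⟩
  intro e he t ht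
  have h1 := hEU he
  rw [sup_eq_left.2 hTC] at h1
  exact h1.2 t ht

/-- **Claim 4**, one side -/
theorem nn_Dcent (D1 : EssData p E1 A1 B) (D2 : EssData p E2 A2 B) (hne : E1 ≠ E2) (hS : IsPGroup p S) (h2 : p ≠ 2)
    (N1 : NT p E1 A1 B T W1 τ1) (hT : T ≤ E1 ⊓ E2) (hTc : ∀ t ∈ T, ∀ s, ⁅t, s⁆ ∈ (⊥ : Subgroup S)) :
    ∀ e ∈ E2, ∀ d ∈ E1 ⊓ E2, ⁅e, d⁆ ∈ (⊥ : Subgroup S) := by
  have hTn := N1.invK.normal D1
  have hidx : T.relIndex (E1 ⊓ E2) = p := idxKF D1 D2 hne N1 hT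
  have hD : ∀ d ∈ E1 ⊓ E2, ∀ s, ⁅d, s⁆ ∈ T := fun d hd s => comm_mem_of_prime hS hT (dvd_of_eq hidx) hd s
  have hfix := N1.fix D1 hS h2 N1.invK (fun t ht s => (bot_le : (⊥ : Subgroup S) ≤ Fr T) (hTc t ht s))
  have hab := abel_of_index (N := (⊥ : Subgroup S)) hT (dvd_of_eq hidx) (fun t ht d _ => hTc t ht d)
  have hTc' : ∀ t ∈ T, ∀ s, Commute t s := by
    intro t ht s
    have := hTc t ht s
    rw [Subgroup.mem_bot, commutatorElement_eq_one_iff_mul_comm] at this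
    exact this
  intro e he d hd
  apply cm_symm
  have hc := hD d hd e
  have h1 := hfix _ hc
  rw [map_commutatorElement] at h1
  have ht : τ1 d * d ∈ T := N1.negE D1 hd.1
  have hf : e⁻¹ * τ1 e ∈ E1 ⊓ E2 := ⟨N1.quo e, E2.mul_mem (E2.inv_mem he) (Inv.self.map D2 N1.mem he)⟩
  have hdf : Commute d (e⁻¹ * τ1 e) := by
    have := hab d hd _ hf
    rw [Subgroup.mem_bot, commutatorElement_eq_one_iff_mul_comm] at this
    exact this
  have c1 := hTc' _ ht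
  have c2 := hTc' _ hc
  rw [Subgroup.mem_bot]
  have key : ⁅τ1 d, τ1 e⁆ = ⁅d, e⁆⁻¹ := by
    have q1 : τ1 d = (τ1 d * d) * d⁻¹ := by group
    have q2 : τ1 e = e * (e⁻¹ * τ1 e) := by group
    rw [q2, q1]
    set t := τ1 d * d
    set f := e⁻¹ * τ1 e
    calc ⁅t * d⁻¹, e * f⁆ = t * (d⁻¹ * (e * f) * d) * t⁻¹ * (e * f)⁻¹ := by rw [commutatorElement_def]; group
      _ = d⁻¹ * e * (f * d) * f⁻¹ * e⁻¹ := by rw [(c1 _).eq]; group
      _ = d⁻¹ * e * d * e⁻¹ := by rw [← hdf.eq]; group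
      _ = d⁻¹ * (⁅d, e⁆⁻¹ * d) := by rw [commutatorElement_def]; group
      _ = ⁅d, e⁆⁻¹ := by rw [((c2 d).inv_left).eq, inv_mul_cancel_left]
  rw [key] at h1
  have h3 : ⁅d, e⁆ * ⁅d, e⁆ ∈ (⊥ : Subgroup S) := by
    rw [Subgroup.mem_bot]
    nth_rewrite 1 [← h1]
    exact inv_mul_cancel _
  have h4 := sq_mem hS h2 h3
  rwa [Subgroup.mem_bot] at h4

/-- **The natural/natural case**: `E₁ ∩ E₂` is central. -/
theorem nn_main (D1 : EssData p E1 A1 B) (D2 : EssData p E2 A2 B) (hne : E1 ≠ E2) (hS : IsPGroup p S) (h2 : p ≠ 2)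
    (hR : Rk p S) (N1 : NT p E1 A1 B K1 W1 τ1) (N2 : NT p E2 A2 B K2 W2 τ2) :
    K1 = K2 ∧ K1 ≤ E1 ⊓ E2 ∧ ∀ d ∈ E1 ⊓ E2, ∀ s, ⁅d, s⁆ ∈ (⊥ : Subgroup S) := by
  have hK1 : K1 ≤ E1 ⊓ E2 := by
    rcases N1.cases D1 hS h2 inf_le_left (Fr_le_inf D1 D2 hS) (pair_idx1 D1 D2 hne) (fun d hd => pair_tau1 D1 D2 N1.mem hd) with h | h
    · exact h
    · exfalso
      rcases N2.cases D2 hS h2 (F := E1 ⊓ E2) inf_le_right (by rw [inf_comm]; exact Fr_le_inf D2 D1 hS) (pair_idx2 D1 D2 hne)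
        (fun d hd => pair_tau1 D1 D2 N2.mem hd) with h' | h'
      · exact no_W_K D1 D2 hne hS h2 hR N1 h N2 h'
      · exact no_W_W D1 D2 hne hS h2 hR N1 h N2 h'
  have hK2 : K2 ≤ E1 ⊓ E2 := by
    rw [inf_comm]
    rcases N2.cases D2 hS h2 inf_le_left (Fr_le_inf D2 D1 hS) (pair_idx1 D2 D1 hne.symm) (fun d hd => pair_tau1 D2 D1 N2.mem hd) with h | h
    · exact h
    · exfalso
      exact no_W_K D2 D1 hne.symm hS h2 hR N2 h N1 (by rw [inf_comm]; exact hK1)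
  have hKK := nn_K_eq D1 D2 hne hS h2 N1 N2 hK1 hK2
  subst hKK
  refine ⟨rfl, hK1, ?_⟩
  have hc := nn_cent D1 D2 hne hS h2 hR N1 N2 hK1
  have s1 := nn_single D1 hS h2 hR N1 hc
  have s2 := nn_single D2 hS h2 hR N2 hc
  have hbn : (⊥ : Subgroup S).Normal := inferInstance
  have hTc := pair_cent D1 D2 hne hbn s1 s2
  refine pair_cent D1 D2 hne hbn ?_ (nn_Dcent D1 D2 hne hS h2 N1 hK1 hTc)
  have := nn_Dcent D2 D1 hne.symm hS h2 N2 (by rw [inf_comm]; exact hK1) hTc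
  rw [inf_comm] at this
  exact this

end T

end Cfsg.Agent.H767.TE
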