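import Cfsg.Agent.H767.TETypes
set_option linter.all false

-- part: H767/TETools
section
/-!
# Tools for the elimination of configurations (helper767)
-/

set_option autoImplicit false
set_option linter.unusedSectionVars false
set_option linter.unusedVariables false

namespace Cfsg.Agent.H767.TE

open Subgroup
open scoped commutatorElement

/-! ### Power formula -/

section pow

variable {G : Type*} [Group G]

theorem mul_pow_of_comm {a b c : G} (h : b * a = a * b * c) (hca : c * a = a * c) (hcb : c * b = b * c) (n : ℕ) :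
    (a * b) ^ n = a ^ n * b ^ n * c ^ (n.choose 2) := by
  have hca' : Commute c a := hca
  have hcb' : Commute c b := hcb
  have h1 : ∀ n : ℕ, b ^ n * a = a * b ^ n * c ^ n := by
    intro n
    induction n with
    | zero => simp
    | succ n ih =>
      calc b ^ (n + 1) * a = b * (b ^ n * a) := by rw [pow_succ', mul_assoc]
        _ = (b * a) * b ^ n * c ^ n := by rw [ih]; group
        _ = a * b * (c * b ^ n) * c ^ n := by rw [h]; group
        _ = a * b * (b ^ n * c) * c ^ n := by rw [(hcb'.pow_right n).eq]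
        _ = a * b ^ (n + 1) * c ^ (n + 1) := by rw [pow_succ' b, pow_succ' c]; group
  induction n with
  | zero => simp
  | succ n ih =>
    have h4 : ((n + 1).choose 2 : ℕ) = n + n.choose 2 := by
      rw [Nat.choose_succ_succ' n 1, Nat.choose_one_right]
    have h5 : Commute (c ^ (n.choose 2)) (a * b) := (hca'.mul_right hcb').pow_left _
    have h6 : Commute (c ^ n) b := hcb'.pow_left _
    calc (a * b) ^ (n + 1) = a ^ n * b ^ n * (c ^ (n.choose 2) * (a * b)) := by rw [pow_succ, ih, mul_assoc]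
      _ = a ^ n * (b ^ n * a) * b * c ^ (n.choose 2) := by rw [h5.eq]; group
      _ = a ^ n * a * b ^ n * (c ^ n * b) * c ^ (n.choose 2) := by rw [h1]; group
      _ = a ^ (n + 1) * b ^ (n + 1) * c ^ ((n + 1).choose 2) := by
        rw [h6.eq, h4, pow_add c, pow_succ a, pow_succ b]
        group

end pow

variable {S : Type*} [Group S] [Finite S] {p : ℕ} [hp : Fact p.Prime]

/-- The power map modulo `N`. -/
theorem pow_mod (h2 : p ≠ 2) {N : Subgroup S} [hN : N.Normal] {a b : S} (h1 : ⁅a, ⁅a, b⁆⁆ ∈ N) (h3 : ⁅b, ⁅a, b⁆⁆ ∈ N)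
    (h4 : ⁅a, b⁆ ^ p ∈ N) : (a ^ p * b ^ p)⁻¹ * (a * b) ^ p ∈ N := by
  rw [← QuotientGroup.eq]
  set A : S ⧸ N := QuotientGroup.mk a with hA
  set B : S ⧸ N := QuotientGroup.mk b with hB
  set C : S ⧸ N := QuotientGroup.mk ⁅a, b⁆ with hC
  have e1 : ⁅A, C⁆ = 1 := by
    rw [hA, hC]
    exact (QuotientGroup.eq_one_iff _).2 h1
  have e2 : ⁅B, C⁆ = 1 := by
    rw [hB, hC]
    exact (QuotientGroup.eq_one_iff _).2 h3
  have e3 : C ^ p = 1 := (QuotientGroup.eq_one_iff _).2 h4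
  have e4 : C = ⁅A, B⁆ := rfl
  rw [commutatorElement_eq_one_iff_mul_comm] at e1 e2
  have c1 : Commute C⁻¹ A := by
    have : Commute A C := e1
    exact this.symm.inv_left
  have c2 : Commute C⁻¹ B := by
    have : Commute B C := e2
    exact this.symm.inv_left
  have h5 : B * A = A * B * C⁻¹ := by
    have e5 : A * B = C * (B * A) := by
      rw [e4, commutatorElement_def]
      group
    rw [(c1.mul_right c2).symm.eq, e5, inv_mul_cancel_left]
  have h6 := mul_pow_of_comm h5 c1.eq c2.eq p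
  have hdvd : p ∣ p.choose 2 := hp.out.dvd_choose_self (by norm_num) (lt_of_le_of_ne hp.out.two_le (Ne.symm h2))
  obtain ⟨k, hk⟩ := hdvd
  have h7 : C⁻¹ ^ p.choose 2 = 1 := by
    rw [hk, pow_mul, inv_pow, e3, inv_one, one_pow]
  rw [h7, mul_one] at h6
  exact h6.symm

/-! ### Three subgroups -/

theorem comm_le_right {H K : Subgroup S} [hK : K.Normal] : ⁅H, K⁆ ≤ K := Subgroup.commutator_le_right H K

/-- three subgroups lemma modulo a normal subgroup -/
theorem three {N : Subgroup S} [hN : N.Normal] {H1 H2 H3 : Subgroup S} (h1 : ⁅⁅H2, H3⁆, H1⁆ ≤ N) (h2 : ⁅⁅H3, H1⁆, H2⁆ ≤ N) :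
    ⁅⁅H1, H2⁆, H3⁆ ≤ N := by
  have key : ∀ H : Subgroup S, H ≤ N ↔ H.map (QuotientGroup.mk' N) = ⊥ := by
    intro H
    rw [Subgroup.map_eq_bot_iff, QuotientGroup.ker_mk']
  rw [key, Subgroup.map_commutator, Subgroup.map_commutator] at h1 h2 ⊢
  exact Subgroup.commutator_commutator_eq_bot_of_rotate h1 h2

theorem three' {N M : Subgroup S} [hN : N.Normal] (h : ⁅⁅M, (⊤ : Subgroup S)⁆, (⊤ : Subgroup S)⁆ ≤ N) :
    ⁅M, ⁅(⊤ : Subgroup S), (⊤ : Subgroup S)⁆⁆ ≤ N := by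
  rw [Subgroup.commutator_comm]
  refine three ?_ h
  rw [Subgroup.commutator_comm ⊤ M]
  exact h

theorem three'' {N M : Subgroup S} [hN : N.Normal] [hM : M.Normal]
    (h : ⁅⁅⁅M, (⊤ : Subgroup S)⁆, (⊤ : Subgroup S)⁆, (⊤ : Subgroup S)⁆ ≤ N) :
    ⁅M, ⁅⁅(⊤ : Subgroup S), (⊤ : Subgroup S)⁆, (⊤ : Subgroup S)⁆⁆ ≤ N := by
  rw [Subgroup.commutator_comm]
  refine three ?_ ?_
  · rw [Subgroup.commutator_comm ⊤ M]
    exact three' h
  · have h1 : ⁅M, ⁅(⊤ : Subgroup S), (⊤ : Subgroup S)⁆⁆ ≤ ⁅⁅M, (⊤ : Subgroup S)⁆, (⊤ : Subgroup S)⁆ := three' le_rfl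
    exact (Subgroup.commutator_mono h1 le_rfl).trans h

/-! ### Index computations -/

theorem rel_pow (hS : IsPGroup p S) (N M : Subgroup S) : ∃ k, N.relIndex M = p ^ k := by
  have h1 : IsPGroup p M := hS.to_subgroup M
  exact h1.index (N.subgroupOf M)

theorem rel_step (hS : IsPGroup p S) {N M : Subgroup S} [hN : N.Normal] [hM : M.Normal] (hle : N ≤ M) {k : ℕ}
    (hk : N.relIndex M ≤ p ^ (k + 1)) : N.relIndex (⁅M, (⊤ : Subgroup S)⁆ ⊔ N) ≤ p ^ k := by
  by_cases hne : N = M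
  · have h1 : ⁅M, (⊤ : Subgroup S)⁆ ⊔ N ≤ N := by
      rw [hne]
      exact sup_le (Subgroup.commutator_le_left M ⊤) le_rfl
    have h2 : N.relIndex (⁅M, (⊤ : Subgroup S)⁆ ⊔ N) = 1 := by
      rw [Subgroup.relIndex_eq_one]
      exact h1
    rw [h2]
    exact Nat.one_le_pow _ _ hp.out.pos
  · have h1 := comm_ne hS hle hne
    have hle2 : ⁅M, (⊤ : Subgroup S)⁆ ⊔ N ≤ M := sup_le (Subgroup.commutator_le_left M ⊤) hle
    have h3 := Subgroup.relIndex_mul_relIndex N (⁅M, (⊤ : Subgroup S)⁆ ⊔ N) M le_sup_right hle2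
    obtain ⟨j, hj⟩ := rel_pow hS (⁅M, (⊤ : Subgroup S)⁆ ⊔ N) M
    have hj0 : j ≠ 0 := by
      rintro rfl
      rw [pow_zero, Subgroup.relIndex_eq_one] at hj
      exact h1 (le_antisymm hle2 hj)
    have hj1 : p ≤ p ^ j := by
      calc p = p ^ 1 := (pow_one p).symm
        _ ≤ p ^ j := Nat.pow_le_pow_right hp.out.pos (by omega)
    rw [← h3, hj] at hk
    have h4 : N.relIndex (⁅M, (⊤ : Subgroup S)⁆ ⊔ N) * p ≤ p ^ k * p := by
      calc N.relIndex (⁅M, (⊤ : Subgroup S)⁆ ⊔ N) * p ≤ N.relIndex (⁅M, (⊤ : Subgroup S)⁆ ⊔ N) * p ^ j := Nat.mul_le_mul_left _ hj1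
        _ ≤ p ^ (k + 1) := hk
        _ = p ^ k * p := pow_succ p k
    exact Nat.le_of_mul_le_mul_right h4 hp.out.pos

theorem comm_le_of_one {N M : Subgroup S} [hN : N.Normal] [hM : M.Normal] (h : N.relIndex (⁅M, (⊤ : Subgroup S)⁆ ⊔ N) ≤ 1) :
    ⁅M, (⊤ : Subgroup S)⁆ ≤ N := by
  have h1 : N.relIndex (⁅M, (⊤ : Subgroup S)⁆ ⊔ N) ≠ 0 :=
    (N.subgroupOf (⁅M, (⊤ : Subgroup S)⁆ ⊔ N)).index_ne_zero_of_finite
  have h2 : N.relIndex (⁅M, (⊤ : Subgroup S)⁆ ⊔ N) = 1 := by omega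
  rw [Subgroup.relIndex_eq_one] at h2
  exact le_sup_left.trans h2

theorem comm1 (hS : IsPGroup p S) {N M : Subgroup S} [hN : N.Normal] [hM : M.Normal] (hle : N ≤ M)
    (hk : N.relIndex M ≤ p) : ⁅M, (⊤ : Subgroup S)⁆ ≤ N := by
  apply comm_le_of_one
  have := rel_step hS hle (k := 0) (by rw [zero_add, pow_one]; exact hk)
  rwa [pow_zero] at this

theorem comm2 (hS : IsPGroup p S) {N M : Subgroup S} [hN : N.Normal] [hM : M.Normal] (hle : N ≤ M)
    (hk : N.relIndex M ≤ p ^ 2) : ⁅⁅M, (⊤ : Subgroup S)⁆, (⊤ : Subgroup S)⁆ ≤ N := by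
  have h1 := rel_step hS hle (k := 1) hk
  have h2 := comm1 hS (M := ⁅M, (⊤ : Subgroup S)⁆ ⊔ N) le_sup_right (by rwa [pow_one] at h1)
  exact (Subgroup.commutator_mono le_sup_left le_rfl).trans h2

theorem comm3 (hS : IsPGroup p S) {N M : Subgroup S} [hN : N.Normal] [hM : M.Normal] (hle : N ≤ M)
    (hk : N.relIndex M ≤ p ^ 3) : ⁅⁅⁅M, (⊤ : Subgroup S)⁆, (⊤ : Subgroup S)⁆, (⊤ : Subgroup S)⁆ ≤ N := by
  have h1 := rel_step hS hle (k := 2) hk
  have h2 := comm2 hS (M := ⁅M, (⊤ : Subgroup S)⁆ ⊔ N) le_sup_right h1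
  exact (Subgroup.commutator_mono (Subgroup.commutator_mono le_sup_left le_rfl) le_rfl).trans h2

/-! ### Involutions -/

theorem inv_sq {τ : MulAut S} (hτ : ∀ s, τ (τ s) = s) (s : S) : τ (s⁻¹ * τ s) = (s⁻¹ * τ s)⁻¹ := by
  rw [map_mul, map_inv, hτ, mul_inv_rev, inv_inv]

/-- an involution trivial on two sections -/
theorem triv_trans (hS : IsPGroup p S) (h2 : p ≠ 2) {τ : MulAut S} (hτ : ∀ s, τ (τ s) = s) {N : Subgroup S} {s : S}
    (h : (s⁻¹ * τ s)⁻¹ * τ (s⁻¹ * τ s) ∈ N) : s⁻¹ * τ s ∈ N := by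
  rw [inv_sq hτ] at h
  apply sq_mem hS h2
  have := N.inv_mem h
  rwa [mul_inv_rev, inv_inv] at this

/-- an involution inverting modulo `N` acts trivially only on `N` -/
theorem mem_of_inv_triv (hS : IsPGroup p S) (h2 : p ≠ 2) {τ : MulAut S} {N : Subgroup S} [hN : N.Normal] {s : S}
    (h1 : τ s * s ∈ N) (h3 : s⁻¹ * τ s ∈ N) : s ∈ N := by
  apply sq_mem hS h2
  have h4 := hN.conj_mem _ h3 s
  have h5 := N.mul_mem (N.inv_mem h4) h1
  have e : (s * (s⁻¹ * τ s) * s⁻¹)⁻¹ * (τ s * s) = s * s := by group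
  rwa [e] at h5

/-- restriction of an automorphism -/
noncomputable def resAut (τ : MulAut S) (M : Subgroup S) (h : ∀ m ∈ M, τ m ∈ M) : MulAut M :=
  MulEquiv.ofBijective (((τ : S ≃* S).toMonoidHom.comp M.subtype).codRestrict M (fun x => h x x.2))
    ((Finite.injective_iff_bijective).1 (fun a b hab => Subtype.ext (τ.injective (congrArg (fun z : M => (z : S)) hab))))

theorem resAut_apply (τ : MulAut S) (M : Subgroup S) (h : ∀ m ∈ M, τ m ∈ M) (m : M) : (resAut τ M h m : S) = τ m := rfl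

/-- An involution trivial modulo the Frattini subgroup is trivial. -/
theorem fix_of_Fr (hS : IsPGroup p S) (h2 : p ≠ 2) {τ : MulAut S} (hτ : ∀ s, τ (τ s) = s) {M : Subgroup S}
    (hM : ∀ m ∈ M, τ m ∈ M) (h : ∀ m ∈ M, m⁻¹ * τ m ∈ Fr M) : ∀ m ∈ M, τ m = m := by
  intro m hm
  have h1 : resAut τ M hM = 1 := by
    apply Cfsg.Agent.H767.EssFrat.eq_one_of_mod_frattini (hS.to_subgroup M)
    · have h3 : orderOf (resAut τ M hM) ∣ 2 := by
        apply orderOf_dvd_of_pow_eq_one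
        ext x
        rw [pow_two, MulAut.mul_apply, resAut_apply, resAut_apply, hτ]
        rfl
      apply Nat.Coprime.coprime_dvd_left h3
      rw [Nat.coprime_primes Nat.prime_two hp.out]
      exact Ne.symm h2
    · intro x
      have h4 := h x x.2
      exact mem_Fr.1 h4
  have h3 := resAut_apply τ M hM ⟨m, hm⟩
  rw [h1] at h3
  exact h3.symm

/-! ### Commutator calculus modulo a normal subgroup -/

section calc'

variable {N : Subgroup S} [hN : N.Normal]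

theorem cm_mul_left {a b c : S} (h1 : ⁅a, c⁆ ∈ N) (h2 : ⁅b, c⁆ ∈ N) : ⁅a * b, c⁆ ∈ N := by
  have e : ⁅a * b, c⁆ = a * ⁅b, c⁆ * a⁻¹ * ⁅a, c⁆ := by
    rw [commutatorElement_def, commutatorElement_def, commutatorElement_def]
    group
  rw [e]
  exact N.mul_mem (hN.conj_mem _ h2 a) h1

theorem cm_symm {a b : S} (h : ⁅a, b⁆ ∈ N) : ⁅b, a⁆ ∈ N := by
  rw [← commutatorElement_inv]
  exact N.inv_mem h

theorem cm_inv_left {a c : S} (h1 : ⁅a, c⁆ ∈ N) : ⁅a⁻¹, c⁆ ∈ N := by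
  have e : ⁅a⁻¹, c⁆ = a⁻¹ * (⁅a, c⁆)⁻¹ * a⁻¹⁻¹ := by
    rw [commutatorElement_def, commutatorElement_def]
    group
  rw [e]
  exact hN.conj_mem _ (N.inv_mem h1) _

theorem cm_mul_right {a b c : S} (h1 : ⁅c, a⁆ ∈ N) (h2 : ⁅c, b⁆ ∈ N) : ⁅c, a * b⁆ ∈ N :=
  cm_symm (cm_mul_left (cm_symm h1) (cm_symm h2))

theorem cm_inv_right {a c : S} (h1 : ⁅c, a⁆ ∈ N) : ⁅c, a⁻¹⁆ ∈ N := cm_symm (cm_inv_left (cm_symm h1))

theorem cm_of_mem_left {a c : S} (h : a ∈ N) : ⁅a, c⁆ ∈ N := by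
  rw [commutatorElement_def]
  have e : a * c * a⁻¹ * c⁻¹ = a * (c * a⁻¹ * c⁻¹) := by group
  rw [e]
  exact N.mul_mem h (hN.conj_mem _ (N.inv_mem h) c)

theorem cm_of_mem_right {a c : S} (h : c ∈ N) : ⁅a, c⁆ ∈ N := cm_symm (cm_of_mem_left h)

theorem cm_zpow_left {a c : S} (h1 : ⁅a, c⁆ ∈ N) (n : ℤ) : ⁅a ^ n, c⁆ ∈ N := by
  let T : Subgroup S :=
    { carrier := {x | ⁅x, c⁆ ∈ N}
      mul_mem' := fun hx hy => cm_mul_left hx hy
      one_mem' := by
        show ⁅(1 : S), c⁆ ∈ N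
        rw [commutatorElement_one_left]
        exact N.one_mem
      inv_mem' := fun hx => cm_inv_left hx }
  exact T.zpow_mem (show a ∈ T from h1) n

end calc'

end Cfsg.Agent.H767.TE
end

-- part: H767/TEPair
section
/-!
# Pairs of maximal subgroups with automorphism groups: preliminaries (helper767)
-/

set_option autoImplicit false
set_option linter.unusedSectionVars false
set_option linter.unusedVariables false

namespace Cfsg.Agent.H767.TE

open Subgroup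
open scoped commutatorElement

variable {S : Type*} [Group S] [Finite S] {p : ℕ} [hp : Fact p.Prime]

theorem relIndex_ne (N M : Subgroup S) : N.relIndex M ≠ 0 := (N.subgroupOf M).index_ne_zero_of_finite

theorem relIndex_mono_left {N N' : Subgroup S} (M : Subgroup S) (h : N ≤ N') : N'.relIndex M ≤ N.relIndex M :=
  Subgroup.relIndex_le_of_le_left h (relIndex_ne _ _)

/-- `N.relIndex M ≤ p` implies it divides `p`. -/
theorem rel_dvd (hS : IsPGroup p S) {N M : Subgroup S} (h : N.relIndex M ≤ p) : N.relIndex M ∣ p := by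
  obtain ⟨k, hk⟩ := rel_pow hS N M
  rw [hk] at h ⊢
  have h1 : k ≤ 1 := by
    by_contra hcon
    push Not at hcon
    have : p ^ 1 < p ^ k := Nat.pow_lt_pow_right hp.out.one_lt hcon
    rw [pow_one] at this
    omega
  calc p ^ k ∣ p ^ 1 := pow_dvd_pow p h1
    _ = p := pow_one p

/-- A group with a normal subgroup of index `p` centralised modulo `N` is abelian modulo `N`. -/
theorem abel_of_index {E D N : Subgroup S} [hN : N.Normal] [hD : D.Normal] (hle : D ≤ E) (hidx : D.relIndex E ∣ p)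
    (h : ∀ d ∈ D, ∀ e ∈ E, ⁅d, e⁆ ∈ N) : ∀ a ∈ E, ∀ b ∈ E, ⁅a, b⁆ ∈ N := by
  intro a ha b hb
  by_cases haD : a ∈ D
  · exact h a haD b hb
  -- the elements of `E` commuting with `a` modulo `N`
  let T : Subgroup S :=
    { carrier := {x | x ∈ E ∧ ⁅x, a⁆ ∈ N}
      mul_mem' := fun hx hy => ⟨E.mul_mem hx.1 hy.1, cm_mul_left hx.2 hy.2⟩
      one_mem' := ⟨E.one_mem, by
        rw [commutatorElement_one_left]
        exact N.one_mem⟩
      inv_mem' := fun hx => ⟨E.inv_mem hx.1, cm_inv_left hx.2⟩ }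
  have h1 : D ≤ T := fun d hd => ⟨hle hd, h d hd a ha⟩
  have h2 : T ≤ E := fun x hx => hx.1
  have haT : a ∈ T := ⟨ha, by
    rw [commutatorElement_self]
    exact N.one_mem⟩
  rcases between h1 h2 hidx with h3 | h3
  · exact (haD (h3 ▸ haT)).elim
  · have : b ∈ T := by rw [h3]; exact hb
    exact cm_symm this.2

/-- index bound from a homomorphism modulo `N` -/
theorem relIndex_le_of_hom {X M N U : Subgroup S} (f : S → S) (hf : ∀ x ∈ X, f x ∈ M) (hNM : N.Normal)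
    (hmul : ∀ x ∈ X, ∀ y ∈ X, (f (x * y))⁻¹ * (f x * f y) ∈ N) (hker : ∀ x ∈ X, f x ∈ N → x ∈ U) :
    U.relIndex X ≤ N.relIndex M := by
  have : (N.subgroupOf M).Normal := hNM.subgroupOf M
  let g : X →* M ⧸ N.subgroupOf M :=
    MonoidHom.mk' (fun x => QuotientGroup.mk ⟨f x, hf x x.2⟩) (fun x y => by
      rw [← QuotientGroup.mk_mul, QuotientGroup.eq, Subgroup.mem_subgroupOf]
      exact hmul x x.2 y y.2)
  have h1 : g.ker ≤ U.subgroupOf X := by
    intro x hx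
    rw [Subgroup.mem_subgroupOf]
    apply hker x x.2
    have h2 : (QuotientGroup.mk (⟨f x, hf x x.2⟩ : M) : M ⧸ N.subgroupOf M) = 1 := hx
    rw [QuotientGroup.eq_one_iff, Subgroup.mem_subgroupOf] at h2
    exact h2
  have h2 : (U.subgroupOf X).index ≤ g.ker.index :=
    Nat.le_of_dvd (Nat.pos_of_ne_zero g.ker.index_ne_zero_of_finite) (Subgroup.index_dvd_of_le h1)
  rw [Subgroup.index_ker] at h2
  calc U.relIndex X = (U.subgroupOf X).index := rfl
    _ ≤ Nat.card g.range := h2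
    _ ≤ Nat.card (M ⧸ N.subgroupOf M) := Nat.le_of_dvd Nat.card_pos (Subgroup.card_subgroup_dvd_card _)
    _ = N.relIndex M := rfl

/-- A quadratic action: the Frattini subgroup centralises. -/
theorem quad_Fr (hS : IsPGroup p S) {E X M N : Subgroup S} [hE : E.Normal] [hX : X.Normal] [hM : M.Normal] [hN : N.Normal]
    (h1 : ∀ e ∈ E, ∀ x ∈ X, ⁅e, x⁆ ∈ M) (h2 : ∀ e ∈ E, ∀ m ∈ M, ⁅e, m⁆ ∈ N) (hpow : ∀ m ∈ M, m ^ p ∈ N) :
    ∀ f ∈ Fr E, ∀ x ∈ X, ⁅f, x⁆ ∈ N := by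
  have h3 : Fr E ≤ cmod E X N hN := by
    apply Fr_le_of hS (show cmod E X N hN ≤ E from fun x hx => (mem_cmod.1 hx).1)
    · intro a ha b hb
      refine ⟨Fr_le E (comm_mem_Fr hS ha hb), fun m hm => ?_⟩
      have h4 : ⁅⁅E, E⁆, X⁆ ≤ N := by
        have h5 : ⁅⁅E, X⁆, E⁆ ≤ N := by
          have h6 : ⁅E, X⁆ ≤ M := Subgroup.commutator_le.2 h1
          have h7 : ⁅M, E⁆ ≤ N := Subgroup.commutator_le.2 (fun m hm e he => cm_symm (h2 e he m hm))
          exact (Subgroup.commutator_mono h6 le_rfl).trans h7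
        refine three h5 ?_
        rw [Subgroup.commutator_comm X E]
        exact h5
      exact h4 (Subgroup.commutator_mem_commutator (Subgroup.commutator_mem_commutator ha hb) hm)
    · intro a ha
      refine ⟨E.pow_mem ha p, fun x hx => ?_⟩
      have hc := h1 a ha x hx
      have hq := h2 a ha _ hc
      have key : ∀ n : ℕ, (⁅a, x⁆ ^ n)⁻¹ * ⁅a ^ n, x⁆ ∈ N := by
        intro n
        rw [← QuotientGroup.eq]
        set A : S ⧸ N := QuotientGroup.mk a with hA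
        set Y : S ⧸ N := QuotientGroup.mk x with hY
        have e1 : Commute A ⁅A, Y⁆ := by
          have : ⁅A, ⁅A, Y⁆⁆ = (1 : S ⧸ N) := (QuotientGroup.eq_one_iff _).2 hq
          rw [commutatorElement_eq_one_iff_mul_comm] at this
          exact this
        show ⁅A, Y⁆ ^ n = ⁅A ^ n, Y⁆
        induction n with
        | zero => simp
        | succ n ih =>
          have e2 : ⁅A * A ^ n, Y⁆ = A * ⁅A ^ n, Y⁆ * A⁻¹ * ⁅A, Y⁆ := by
            rw [commutatorElement_def, commutatorElement_def, commutatorElement_def]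
            group
          rw [pow_succ' A, e2, ← ih, (e1.pow_right n).eq, mul_inv_cancel_right, pow_succ]
      have h4 := key p
      have h5 : ⁅a, x⁆ ^ p ∈ N := hpow _ hc
      have h6 := N.mul_mem h5 h4
      rwa [mul_inv_cancel_left] at h6
  intro f hf x hx
  exact (h3 hf).2 x hx

/-! ### One maximal subgroup -/

section one

variable {E : Subgroup S} [hE : E.Normal] {A : Subgroup (MulAut E)} {B : Subgroup (MulAut S)}

theorem comm_mem_of_index {E : Subgroup S} [hE : E.Normal] (h : E.index = p) (a b : S) : ⁅a, b⁆ ∈ E := by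
  have hc : Nat.card (S ⧸ E) = p := h
  have : IsCyclic (S ⧸ E) := isCyclic_of_prime_card hc
  apply (QuotientGroup.eq_one_iff (N := E) _).1
  show ⁅(QuotientGroup.mk a : S ⧸ E), (QuotientGroup.mk b : S ⧸ E)⁆ = (1 : S ⧸ E)
  rw [commutatorElement_eq_one_iff_mul_comm]
  exact (IsCyclic.commGroup (α := S ⧸ E)).mul_comm _ _

theorem pow_mem_of_index {E : Subgroup S} [hE : E.Normal] (h : E.index = p) (a : S) : a ^ p ∈ E := by
  apply (QuotientGroup.eq_one_iff (N := E) _).1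
  rw [QuotientGroup.mk_pow, ← h]
  exact pow_card_eq_one'

/-- quadratic Triv lemma: an irreducible section of order `≥ p²` is not moved into a section of order `p` -/
theorem triv_lemma (D : EssData p E A B) {X M N F : Subgroup S} (hX : Inv A X) (hM : Inv A M) (hN : Inv A N)
    (hNM : N ≤ M) (hMX : M ≤ X) (hirr : ∀ U, Inv A U → M ≤ U → U ≤ X → U = M ∨ U = X) (hbig : p < M.relIndex X)
    (hsmall : N.relIndex M ≤ p) (hXM : ∀ e ∈ E, ∀ x ∈ X, ⁅e, x⁆ ∈ M) (hMN : ∀ e ∈ E, ∀ m ∈ M, ⁅e, m⁆ ∈ N)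
    (hFE : F ≤ E) (hF : F.relIndex E ∣ p) (hFX : ∀ f ∈ F, ∀ x ∈ X, ⁅f, x⁆ ∈ N) : ∀ e ∈ E, ∀ x ∈ X, ⁅e, x⁆ ∈ N := by
  have hXn := hX.normal D
  have hMn := hM.normal D
  have hNn := hN.normal D
  by_contra hcon
  push Not at hcon
  obtain ⟨e0, he0, x0, hx0, hne⟩ := hcon
  have he0F : e0 ∉ F := fun h => hne (hFX e0 h x0 hx0)
  -- the fixed points
  have hU : Inv A (cmod X E N hNn) := Inv.cmod hX Inv.self hN hNn
  have hMU : M ≤ cmod X E N hNn := fun m hm => ⟨hMX hm, fun e he => cm_symm (hMN e he m hm)⟩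
  rcases hirr _ hU hMU (fun x hx => hx.1) with h | h
  · have h1 : M.relIndex X ≤ N.relIndex M := by
      refine relIndex_le_of_hom (fun x => ⁅e0, x⁆) (fun x hx => hXM e0 he0 x hx) hNn ?_ ?_
      · intro x hx y hy
        have e1 : ⁅e0, x * y⁆⁻¹ * (⁅e0, x⁆ * ⁅e0, y⁆) = x * (⁅e0, y⁆⁻¹ * x⁻¹ * ⁅e0, y⁆ * x) * x⁻¹ := by
          rw [commutatorElement_def, commutatorElement_def, commutatorElement_def]
          group
        show ⁅e0, x * y⁆⁻¹ * (⁅e0, x⁆ * ⁅e0, y⁆) ∈ N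
        rw [e1]
        apply hNn.conj_mem
        have h2 := hMN x⁻¹ (E.inv_mem (hX.le hx)) (⁅e0, y⁆⁻¹) (M.inv_mem (hXM e0 he0 y hy))
        have h3 := N.inv_mem h2
        rw [commutatorElement_inv, commutatorElement_def, inv_inv, inv_inv] at h3
        exact h3
      · intro x hx hfx
        rw [← h]
        refine ⟨hx, fun e he => cm_symm ?_⟩
        -- elements of `E` commuting with `x` modulo `N`
        let T : Subgroup S :=
          { carrier := {z | z ∈ E ∧ ⁅z, x⁆ ∈ N}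
            mul_mem' := fun ha hb => ⟨E.mul_mem ha.1 hb.1, cm_mul_left ha.2 hb.2⟩
            one_mem' := ⟨E.one_mem, by
              rw [commutatorElement_one_left]
              exact N.one_mem⟩
            inv_mem' := fun ha => ⟨E.inv_mem ha.1, cm_inv_left ha.2⟩ }
        have h1 : F ≤ T := fun d hd => ⟨hFE hd, hFX d hd x hx⟩
        have h2 : T ≤ E := fun x hx => hx.1
        have haT : e0 ∈ T := ⟨he0, hfx⟩
        rcases between h1 h2 hF with h3 | h3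
        · exact (he0F (h3 ▸ haT)).elim
        · have : e ∈ T := by rw [h3]; exact he
          exact this.2
    omega
  · have h1 : x0 ∈ cmod X E N hNn := by rw [h]; exact hx0
    exact hne (cm_symm (h1.2 e0 he0))

end one

end Cfsg.Agent.H767.TE
end

-- part: H767/TENT
section
/-!
# Properties of the natural and the regular type (helper767)
-/

set_option autoImplicit false
set_option linter.unusedSectionVars false
set_option linter.unusedVariables false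

namespace Cfsg.Agent.H767.TE

open Subgroup
open scoped commutatorElement

variable {S : Type*} [Group S] [Finite S] {p : ℕ} [hp : Fact p.Prime]

variable {E : Subgroup S} [hE : E.Normal] {A : Subgroup (MulAut E)} {B : Subgroup (MulAut S)} {K W : Subgroup S} {τ : MulAut S}

theorem eq_of_relIndex {N M X : Subgroup S} (h1 : N ≤ M) (h2 : M ≤ X) (h : N.relIndex X ≤ M.relIndex X) : N = M := by
  have h3 := Subgroup.relIndex_mul_relIndex N M X h1 h2
  have h4 := relIndex_ne M X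
  have h5 : N.relIndex M * M.relIndex X ≤ 1 * M.relIndex X := by rw [h3, one_mul]; exact h
  have h6 := Nat.le_of_mul_le_mul_right h5 (Nat.pos_of_ne_zero h4)
  have h7 := relIndex_ne N M
  have h8 : N.relIndex M = 1 := by omega
  rw [Subgroup.relIndex_eq_one] at h8
  exact le_antisymm h1 h8

theorem p_le_relIndex (hS : IsPGroup p S) {N M : Subgroup S} (hne : ¬ M ≤ N) : p ≤ N.relIndex M := by
  obtain ⟨k, hk⟩ := rel_pow hS N M
  have hk0 : k ≠ 0 := by
    rintro rfl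
    rw [pow_zero, Subgroup.relIndex_eq_one] at hk
    exact hne hk
  rw [hk]
  calc p = p ^ 1 := (pow_one p).symm
    _ ≤ p ^ k := Nat.pow_le_pow_right hp.out.pos (by omega)

theorem NT.K_ne (N : NT p E A B K W τ) : K ≠ E := by
  intro h
  have h1 := N.idx
  rw [h, Subgroup.relIndex_self] at h1
  have := Nat.one_lt_pow (n := 2) (by norm_num) hp.out.one_lt
  omega

theorem NT.tE (D : EssData p E A B) (N : NT p E A B K W τ) {e : S} (he : e ∈ E) : τ e ∈ E := Inv.self.map D N.mem he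

theorem NT.negE (D : EssData p E A B) (N : NT p E A B K W τ) {e : S} (he : e ∈ E) : τ e * e ∈ K := by
  have hKn := N.invK.normal D
  rw [← N.sup] at he
  obtain ⟨k, hk, w, hw, rfl⟩ := Subgroup.mem_sup_of_normal_left.1 he
  have h1 := N.frK (N.neg w hw)
  have h2 : τ k ∈ K := N.invK.map D N.mem hk
  have h3 := hKn.conj_mem k hk (τ w)
  have e1 : τ (k * w) * (k * w) = τ k * (τ w * k * (τ w)⁻¹) * (τ w * w) := by
    rw [map_mul]
    group
  rw [e1]
  exact K.mul_mem (K.mul_mem h2 h3) h1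

theorem NT.pow (D : EssData p E A B) (hS : IsPGroup p S) (h2 : p ≠ 2) (N : NT p E A B K W τ) (s : S) : s ^ p ∈ K := by
  have hKn := N.invK.normal D
  set e := s⁻¹ * τ s with he
  have heE : e ∈ E := N.quo s
  have hτs : τ s = s * e := by rw [he]; group
  have h1 := comm2 hS N.invK.le N.idx.le
  have h3 : ⁅s, e⁆ ∈ E := cm_of_mem_right heE
  have h4 : ⁅s, ⁅s, e⁆⁆ ∈ K := cm_symm (h1 (Subgroup.commutator_mem_commutator
    (by
      rw [Subgroup.commutator_comm]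
      exact Subgroup.commutator_mem_commutator (mem_top s) heE) (mem_top s)))
  have h5 := pow_mod h2 (N := K) (a := s) (b := e) h4 (N.frK (comm_mem_Fr hS heE h3)) (N.frK (pow_mem_Fr hS h3))
  have h6 : e ^ p ∈ K := N.frK (pow_mem_Fr hS heE)
  rw [← hτs] at h5
  have h7 : (s ^ p)⁻¹ * τ (s ^ p) ∈ K := by
    have h8 := K.mul_mem h6 h5
    have e1 : e ^ p * ((s ^ p * e ^ p)⁻¹ * τ s ^ p) = (s ^ p)⁻¹ * τ (s ^ p) := by
      rw [map_pow]
      group
    rwa [e1] at h8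
  exact mem_of_inv_triv hS h2 (N.negE D (pow_mem_of_index D.index s)) h7

theorem NT.fix (D : EssData p E A B) (hS : IsPGroup p S) (h2 : p ≠ 2) (N : NT p E A B K W τ) {M : Subgroup S}
    (hM : Inv A M) (h : ∀ m ∈ M, ∀ s, ⁅m, s⁆ ∈ Fr M) : ∀ m ∈ M, τ m = m :=
  fix_of_Fr hS h2 N.sq (fun m hm => hM.map D N.mem hm) (N.triv M (Fr M) hM hM.Fr h)

theorem NT.gen (D : EssData p E A B) (hS : IsPGroup p S) (h2 : p ≠ 2) (N : NT p E A B K W τ) {U : Subgroup S}
    (hK : K ≤ U) (h : ∀ e ∈ E, e⁻¹ * τ e ∈ U) : E ≤ U := by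
  intro e he
  apply sq_mem hS h2
  have h1 := h e he
  have h3 := hK (N.negE D he)
  have huE : e⁻¹ * τ e ∈ E := E.mul_mem (E.inv_mem he) (N.tE D he)
  have h4 := hK (N.frK (comm_mem_Fr hS (E.inv_mem huE) (E.inv_mem he)))
  have h5 := U.mul_mem (U.mul_mem h3 (U.inv_mem h4)) (U.inv_mem h1)
  have e1 : ∀ a u : S, a * u * a * (⁅u⁻¹, a⁻¹⁆)⁻¹ * u⁻¹ = a * a := by
    intro a u
    rw [commutatorElement_def]
    group
  have e2 : τ e * e = e * (e⁻¹ * τ e) * e := by group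
  rw [e2, e1] at h5
  exact h5

theorem NT.uC (D : EssData p E A B) (N : NT p E A B K W τ) {M L : Subgroup S}
    (hM : Inv A M) (hL : Inv A L) (hτ : ∀ m ∈ M, m⁻¹ * τ m ∈ L) {e m : S} (hm : m ∈ M) : ⁅e⁻¹ * τ e, m⁆ ∈ L := by
  have hLn := hL.normal D
  have hMn := hM.normal D
  have hmk : ∀ x ∈ M, (QuotientGroup.mk (τ x) : S ⧸ L) = QuotientGroup.mk x := by
    intro x hx
    exact ((QuotientGroup.eq).2 (hτ x hx)).symm
  have h3 : ⁅e, m⁆ ∈ M := cm_of_mem_right hm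
  have h4 := hmk _ h3
  rw [map_commutatorElement] at h4
  have h5 : ⁅(QuotientGroup.mk (τ e) : S ⧸ L), (QuotientGroup.mk m : S ⧸ L)⁆ = ⁅(QuotientGroup.mk e : S ⧸ L), (QuotientGroup.mk m : S ⧸ L)⁆ := by
    have h6 : ⁅(QuotientGroup.mk (τ e) : S ⧸ L), (QuotientGroup.mk (τ m) : S ⧸ L)⁆ = ⁅(QuotientGroup.mk e : S ⧸ L), (QuotientGroup.mk m : S ⧸ L)⁆ := h4
    rwa [hmk m hm] at h6
  apply (QuotientGroup.eq_one_iff (N := L) _).1
  show ⁅(QuotientGroup.mk e : S ⧸ L)⁻¹ * QuotientGroup.mk (τ e), (QuotientGroup.mk m : S ⧸ L)⁆ = 1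
  rw [commutatorElement_eq_one_iff_mul_comm]
  rw [commutatorElement_def, commutatorElement_def] at h5
  set x : S ⧸ L := QuotientGroup.mk (τ e)
  set y : S ⧸ L := QuotientGroup.mk e
  set z : S ⧸ L := QuotientGroup.mk m
  have h6 : x * z * x⁻¹ = y * z * y⁻¹ := mul_right_cancel h5
  calc y⁻¹ * x * z = y⁻¹ * (x * z * x⁻¹) * x := by group
    _ = z * (y⁻¹ * x) := by rw [h6]; group

theorem NT.cent_of_triv (D : EssData p E A B) (hS : IsPGroup p S) (h2 : p ≠ 2) (N : NT p E A B K W τ) {M L : Subgroup S}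
    (hM : Inv A M) (hL : Inv A L) (hτ : ∀ m ∈ M, m⁻¹ * τ m ∈ L) (hK : ∀ k ∈ K, ∀ m ∈ M, ⁅k, m⁆ ∈ L) :
    ∀ e ∈ E, ∀ m ∈ M, ⁅e, m⁆ ∈ L := by
  have hLn := hL.normal D
  have h1 : E ≤ cmod E M L hLn := by
    refine N.gen D hS h2 (fun k hk => ⟨N.invK.le hk, hK k hk⟩) ?_
    intro e he
    exact ⟨E.mul_mem (E.inv_mem he) (N.tE D he), fun m hm => N.uC D hM hL hτ hm⟩
  intro e he m hm
  exact (h1 he).2 m hm

theorem NT.notcent (D : EssData p E A B) (hS : IsPGroup p S) (h2 : p ≠ 2) (N : NT p E A B K W τ) :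
    ¬ ∀ e ∈ E, ∀ s, ⁅e, s⁆ ∈ K := by
  intro h
  have hKn := N.invK.normal D
  have h1 := N.triv E K Inv.self N.invK h
  apply N.K_ne
  apply le_antisymm N.invK.le
  intro e he
  exact mem_of_inv_triv hS h2 (N.negE D he) (h1 e he)

theorem NT.notcentW (D : EssData p E A B) (hS : IsPGroup p S) (h2 : p ≠ 2) (N : NT p E A B K W τ) :
    ¬ ∀ w ∈ W, ∀ s, ⁅w, s⁆ ∈ Fr E := by
  intro h
  have h1 := N.triv W (Fr E) N.invW Inv.self.Fr h
  apply N.K_ne
  have h3 : W ≤ K := fun w hw => N.frK (mem_of_inv_triv hS h2 (N.neg w hw) (h1 w hw))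
  rw [← N.sup]
  exact (sup_eq_left.2 h3).symm

theorem NT.idxW (D : EssData p E A B) (N : NT p E A B K W τ) : (Fr E).relIndex W = p ^ 2 := by
  have hKn := N.invK.normal D
  rw [← N.inf, Subgroup.inf_relIndex_right, ← N.idx, ← N.sup, Subgroup.relIndex_sup_left]

/-- the subgroup generated by `[M, τ]` and `N` -/
def ct (M : Subgroup S) (τ : MulAut S) (N : Subgroup S) : Subgroup S :=
  Subgroup.closure ({x | ∃ m ∈ M, x = m⁻¹ * τ m} ∪ N)

theorem le_ct {M : Subgroup S} {τ : MulAut S} {N : Subgroup S} : N ≤ ct M τ N :=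
  fun x hx => Subgroup.subset_closure (Or.inr hx)

theorem mem_ct {M : Subgroup S} {τ : MulAut S} {N : Subgroup S} {m : S} (hm : m ∈ M) : m⁻¹ * τ m ∈ ct M τ N :=
  Subgroup.subset_closure (Or.inl ⟨m, hm, rfl⟩)

theorem ct_le {M : Subgroup S} {τ : MulAut S} {N U : Subgroup S} (h : N ≤ U) (h1 : ∀ m ∈ M, m⁻¹ * τ m ∈ U) : ct M τ N ≤ U := by
  refine (Subgroup.closure_le _).2 ?_
  rintro x (⟨m, hm, rfl⟩ | hx)
  · exact h1 m hm
  · exact h hx

theorem NT.ct_inv (D : EssData p E A B) (N : NT p E A B K W τ) {M L : Subgroup S} (hM : Inv A M) (hL : Inv A L)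
    (hE : ∀ e ∈ E, ∀ m ∈ M, ⁅e, m⁆ ∈ L) : Inv A (ct M τ L) := by
  have hLn := hL.normal D
  refine Inv.of_closure ?_ ?_
  · rintro x (⟨m, hm, rfl⟩ | hx)
    · exact E.mul_mem (E.inv_mem (hM.le hm)) (N.tE D (hM.le hm))
    · exact hL.le hx
  · rintro α hα x (⟨m, hm, hx⟩ | hx)
    · obtain ⟨e, he, h⟩ := N.comm α hα
      set m0 : E := ⟨m, hM.le hm⟩ with hm0
      have h1 := h m0 ⟨τ m, N.tE D (hM.le hm)⟩ rfl
      have hx' : x = m0⁻¹ * ⟨τ m, N.tE D (hM.le hm)⟩ := Subtype.ext hx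
      have h3 : ((α m0 : E) : S) ∈ M := hM.inv α hα m0 hm
      rw [hx', map_mul, map_inv, Subgroup.coe_mul, Subgroup.coe_inv, h1]
      set z : S := ((α m0 : E) : S) with hz
      have e1 : z⁻¹ * (e * τ z * e⁻¹) = (z⁻¹ * τ z) * (⁅e, (τ z)⁻¹⁆)⁻¹ := by
        rw [commutatorElement_def]
        group
      rw [e1]
      refine mul_mem (mem_ct h3) (inv_mem (le_ct (hE e he _ (M.inv_mem (hM.map D N.mem h3)))))
    · exact le_ct (hL.inv α hα x hx)

theorem NT.cases (D : EssData p E A B) (hS : IsPGroup p S) (h2 : p ≠ 2) (N : NT p E A B K W τ) {F : Subgroup S}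
    (hF : F ≤ E) (hFr : Fr E ≤ F) (hidx : F.relIndex E = p) (hτ : ∀ d ∈ F, τ d ∈ F) : K ≤ F ∨ W = F := by
  have hKn := N.invK.normal D
  by_cases h : ∃ d ∈ F, d ∉ W
  · left
    obtain ⟨d, hd, hdW⟩ := h
    have hdE := hF hd
    rw [← N.sup] at hdE
    obtain ⟨k, hk, w, hw, rfl⟩ := Subgroup.mem_sup_of_normal_left.1 hdE
    have hkE := N.invK.le hk
    have hwE := N.invW.le hw
    have hk2 : k * k ∈ F := by
      have h1 := F.mul_mem (hτ _ hd) hd
      have h3 : τ (k * w) * (k * w) = τ k * (⁅τ w, k⁆ * k * (τ w * w)) := by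
        rw [map_mul, commutatorElement_def]
        group
      rw [h3] at h1
      have h4 := F.inv_mem (hFr (N.neg w hw))
      have h5 : τ k * (⁅τ w, k⁆ * k * (τ w * w)) * (τ w * w)⁻¹ = k * (k⁻¹ * τ k) * ⁅τ w, k⁆ * k := by group
      have h6 := F.mul_mem h1 h4
      rw [h5] at h6
      have hFrn : (Fr E).Normal := Fr_normal
      have h7 : (k⁻¹ * τ k) * ⁅τ w, k⁆ ∈ Fr E := (Fr E).mul_mem (N.pos k hk) (comm_mem_Fr hS (N.tE D hwE) hkE)
      have h8 := hFr (hFrn.conj_mem _ h7 k)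
      have h9 := F.mul_mem (F.inv_mem h8) h6
      have e1 : ∀ a b c : S, (a * (b * c) * a⁻¹)⁻¹ * (a * b * c * a) = a * a := by
        intro a b c
        group
      rwa [e1] at h9
    have hkF : k ∈ F := sq_mem hS h2 hk2
    have hkFr : k ∉ Fr E := fun h => hdW (W.mul_mem (N.frW h) hw)
    rcases between (X := K ⊓ F) (le_inf N.frK hFr) inf_le_left N.idxK with h1 | h1
    · exact (hkFr (h1 ▸ ⟨hk, hkF⟩)).elim
    · rw [← h1]
      exact inf_le_right
  · push Not at h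
    have hFW : F ≤ W := h
    rcases between hFW N.invW.le (dvd_of_eq hidx) with h1 | h1
    · right
      exact h1
    · left
      have h3 : K ≤ Fr E := by
        rw [← N.inf, h1]
        exact le_inf le_rfl N.invK.le
      exact h3.trans hFr

/-! ### The regular type -/

/-- `[E,S]Φ(E)` -/
def G1 (E : Subgroup S) : Subgroup S := ⁅E, (⊤ : Subgroup S)⁆ ⊔ Fr E

/-- `[E,S,S]Φ(E)` -/
def G2 (E : Subgroup S) : Subgroup S := ⁅G1 E, (⊤ : Subgroup S)⁆ ⊔ Fr E

instance G1_normal : (G1 E).Normal := by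
  unfold G1
  infer_instance

instance G2_normal : (G2 E).Normal := by
  unfold G2
  infer_instance

theorem Fr_le_G1 : Fr E ≤ G1 E := le_sup_right

theorem Fr_le_G2 : Fr E ≤ G2 E := le_sup_right

theorem G1_le : G1 E ≤ E := sup_le (Subgroup.commutator_le_left E ⊤) (Fr_le E)

theorem G2_le : G2 E ≤ G1 E := sup_le (Subgroup.commutator_le_left _ ⊤) Fr_le_G1

theorem RT.ne (D : EssData p E A B) (N : RT p E A) : ¬ ⁅⁅E, (⊤ : Subgroup S)⁆, (⊤ : Subgroup S)⁆ ≤ Fr E := by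
  intro h
  obtain ⟨y, hy⟩ := D.exists_notMem
  obtain ⟨e, he, hne⟩ := N.reg y hy
  apply hne
  have h1 : ⁅y, e⁆ ∈ ⁅E, (⊤ : Subgroup S)⁆ := by
    rw [Subgroup.commutator_comm]
    exact Subgroup.commutator_mem_commutator (mem_top y) he
  exact cm_symm (h (Subgroup.commutator_mem_commutator h1 (mem_top y)))

theorem RT.chain (D : EssData p E A B) (hS : IsPGroup p S) (N : RT p E A) :
    (G1 E).relIndex E = p ∧ (G2 E).relIndex (G1 E) = p ∧ (Fr E).relIndex (G2 E) = p := by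
  have n1 : ¬ G2 E ≤ Fr E := by
    intro h
    apply N.ne D
    exact (Subgroup.commutator_mono (le_sup_left : ⁅E, (⊤ : Subgroup S)⁆ ≤ G1 E) le_rfl).trans ((le_sup_left : _ ≤ G2 E).trans h)
  have n2 : ¬ G1 E ≤ G2 E := by
    intro h
    have h1 : Fr E ≠ G1 E := by
      intro h3
      apply n1
      rw [h3]
      exact G2_le
    exact comm_ne hS (N := Fr E) (M := G1 E) Fr_le_G1 h1 (le_antisymm G2_le h)
  have n3 : ¬ E ≤ G1 E := by
    intro h
    have h1 : Fr E ≠ E := by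
      intro h3
      apply n1
      rw [h3]
      exact G2_le.trans G1_le
    exact comm_ne hS (N := Fr E) (M := E) (Fr_le E) h1 (le_antisymm G1_le h)
  have h1 := Subgroup.relIndex_mul_relIndex (Fr E) (G2 E) (G1 E) Fr_le_G2 G2_le
  have h3 := Subgroup.relIndex_mul_relIndex (Fr E) (G1 E) E Fr_le_G1 G1_le
  rw [N.idx, ← h1] at h3
  have i1 := p_le_relIndex hS n1
  have i2 := p_le_relIndex hS n2
  have i3 := p_le_relIndex hS n3
  set a := (Fr E).relIndex (G2 E)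
  set b := (G2 E).relIndex (G1 E)
  set c := (G1 E).relIndex E
  have hp0 := hp.out.pos
  have ha : a ≤ p := by
    have h5 : a * (p * p) ≤ p * (p * p) := by
      calc a * (p * p) ≤ a * (b * c) := Nat.mul_le_mul_left _ (Nat.mul_le_mul i2 i3)
        _ = p ^ 3 := by rw [← mul_assoc]; exact h3
        _ = p * (p * p) := by ring
    exact Nat.le_of_mul_le_mul_right h5 (Nat.mul_pos hp0 hp0)
  have hb : b ≤ p := by
    have h5 : b * (p * p) ≤ p * (p * p) := by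
      calc b * (p * p) ≤ b * (a * c) := Nat.mul_le_mul_left _ (Nat.mul_le_mul i1 i3)
        _ = p ^ 3 := by rw [← h3]; ring
        _ = p * (p * p) := by ring
    exact Nat.le_of_mul_le_mul_right h5 (Nat.mul_pos hp0 hp0)
  have hc : c ≤ p := by
    have h5 : c * (p * p) ≤ p * (p * p) := by
      calc c * (p * p) ≤ c * (a * b) := Nat.mul_le_mul_left _ (Nat.mul_le_mul i1 i2)
        _ = p ^ 3 := by rw [← h3]; ring
        _ = p * (p * p) := by ring
    exact Nat.le_of_mul_le_mul_right h5 (Nat.mul_pos hp0 hp0)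
  exact ⟨le_antisymm hc i3, le_antisymm hb i2, le_antisymm ha i1⟩

/-- a normal subgroup of index `p` in `E` containing `Φ(E)` is `[E,S]Φ(E)` -/
theorem RT.eq_G1 (D : EssData p E A B) (hS : IsPGroup p S) (N : RT p E A) {X : Subgroup S} [hX : X.Normal] (hF : Fr E ≤ X)
    (hXE : X ≤ E) (hidx : X.relIndex E = p) : G1 E = X := by
  refine eq_of_relIndex (sup_le (comm1 hS hXE hidx.le) hF) hXE ?_
  rw [(N.chain D hS).1, hidx]

theorem RT.eq_G2 (D : EssData p E A B) (hS : IsPGroup p S) (N : RT p E A) {X : Subgroup S} [hX : X.Normal] (hF : Fr E ≤ X)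
    (hXE : X ≤ G1 E) (hidx : X.relIndex (G1 E) = p) : G2 E = X := by
  refine eq_of_relIndex (sup_le (comm1 hS hXE hidx.le) hF) hXE ?_
  rw [(N.chain D hS).2.1, hidx]

end Cfsg.Agent.H767.TE
end

-- part: H767/TEElimW
section
/-!
# Elimination of the configuration `W = E₁ ∩ E₂` (helper767)
-/

set_option autoImplicit false
set_option linter.unusedSectionVars false
set_option linter.unusedVariables false

namespace Cfsg.Agent.H767.TE

open Subgroup
open scoped commutatorElement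

variable {S : Type*} [Group S] [Finite S] {p : ℕ} [hp : Fact p.Prime]

section single

variable {E : Subgroup S} [hE : E.Normal] {A : Subgroup (MulAut E)} {B : Subgroup (MulAut S)} {K W : Subgroup S} {τ : MulAut S}

theorem Rk.fr (hS : IsPGroup p S) (hR : Rk p S) (M : Subgroup S) : (Fr M).relIndex M ≤ p ^ 3 :=
  hR _ _ (Fr_le M) (fun a ha b hb => comm_mem_Fr hS ha hb) (fun a ha => pow_mem_Fr hS ha)

theorem le_of_mul_le_cube {a : ℕ} (h : a * p ^ 2 ≤ p ^ 3) : a ≤ p := by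
  have h1 : a * p ^ 2 ≤ p * p ^ 2 := by
    calc a * p ^ 2 ≤ p ^ 3 := h
      _ = p * p ^ 2 := by ring
  exact Nat.le_of_mul_le_mul_right h1 (pow_pos hp.out.pos 2)

theorem NT.idxWE (D : EssData p E A B) (N : NT p E A B K W τ) : W.relIndex E ∣ p := by
  have hWn := N.invW.normal D
  have h1 : W.relIndex (K ⊔ W) = W.relIndex K := Subgroup.relIndex_sup_right K W
  have h3 : (W ⊓ K).relIndex K = W.relIndex K := Subgroup.inf_relIndex_right W K
  rw [N.sup] at h1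
  rw [h1, ← h3, inf_comm, N.inf]
  exact N.idxK

theorem p_lt_sq : p < p ^ 2 := by
  rw [pow_two]
  calc p = p * 1 := (mul_one p).symm
    _ < p * p := Nat.mul_lt_mul_of_pos_left hp.out.one_lt hp.out.pos

theorem NT.centW (D : EssData p E A B) (hS : IsPGroup p S) (h2 : p ≠ 2) (hR : Rk p S) (N : NT p E A B K W τ) :
    ∀ e ∈ E, ∀ x ∈ W, ⁅e, x⁆ ∈ Fr W := by
  have hWn := N.invW.normal D
  have hle : Fr W ≤ Fr E := Fr_mono' hS N.invW.le
  have hsm : (Fr W).relIndex (Fr E) ≤ p := by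
    apply le_of_mul_le_cube
    rw [← N.idxW D, Subgroup.relIndex_mul_relIndex _ _ _ hle N.frW]
    exact Rk.fr hS hR W
  refine triv_lemma D N.invW Inv.self.Fr N.invW.Fr hle N.frW (fun U hU h1 h3 => N.irrW U hU h1 h3) ?_ hsm
    (fun e he x hx => comm_mem_Fr hS he (N.invW.le hx)) ?_ N.invW.le (N.idxWE D) (fun f hf x hx => comm_mem_Fr hS hf hx)
  · rw [N.idxW D]
    exact p_lt_sq
  · intro e he m hm
    exact cm_symm (comm_mem_of_prime hS hle (rel_dvd hS hsm) hm e)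

end single

variable {E1 E2 : Subgroup S} [hE1 : E1.Normal] [hE2 : E2.Normal] {A1 : Subgroup (MulAut E1)} {A2 : Subgroup (MulAut E2)}
  {B : Subgroup (MulAut S)} {K1 W1 K2 W2 : Subgroup S} {τ1 τ2 : MulAut S}

theorem pair_sup (D1 : EssData p E1 A1 B) (D2 : EssData p E2 A2 B) (hne : E1 ≠ E2) : E1 ⊔ E2 = ⊤ := by
  have h1 : E1.relIndex ⊤ ∣ p := by
    rw [Subgroup.relIndex_top_right, D1.index]
  rcases between (X := E1 ⊔ E2) le_sup_left le_top h1 with h | h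
  · exfalso
    have h3 : E2 ≤ E1 := by
      rw [← h]
      exact le_sup_right
    apply hne
    have h4 : E2.relIndex ⊤ ∣ p := by
      rw [Subgroup.relIndex_top_right, D2.index]
    rcases between h3 le_top h4 with h5 | h5
    · exact h5
    · exfalso
      have := D1.index
      rw [h5, Subgroup.index_top] at this
      exact hp.out.one_lt.ne this
  · exact h

theorem pair_mul (D1 : EssData p E1 A1 B) (D2 : EssData p E2 A2 B) (hne : E1 ≠ E2) (s : S) : ∃ a ∈ E1, ∃ b ∈ E2, a * b = s := by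
  have h : s ∈ E1 ⊔ E2 := by
    rw [pair_sup D1 D2 hne]
    exact mem_top s
  exact Subgroup.mem_sup_of_normal_left.1 h

theorem pair_idx1 (D1 : EssData p E1 A1 B) (D2 : EssData p E2 A2 B) (hne : E1 ≠ E2) : (E1 ⊓ E2).relIndex E1 = p := by
  rw [Subgroup.inf_relIndex_left]
  have h1 : E2.relIndex (E1 ⊔ E2) = E2.relIndex E1 := Subgroup.relIndex_sup_right E1 E2
  rw [← h1, pair_sup D1 D2 hne, Subgroup.relIndex_top_right, D2.index]

theorem pair_idx2 (D1 : EssData p E1 A1 B) (D2 : EssData p E2 A2 B) (hne : E1 ≠ E2) : (E1 ⊓ E2).relIndex E2 = p := by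
  rw [inf_comm]
  exact pair_idx1 D2 D1 hne.symm

theorem pair_comm (D1 : EssData p E1 A1 B) (D2 : EssData p E2 A2 B) (a b : S) : ⁅a, b⁆ ∈ E1 ⊓ E2 :=
  ⟨comm_mem_of_index D1.index a b, comm_mem_of_index D2.index a b⟩

theorem pair_cent (D1 : EssData p E1 A1 B) (D2 : EssData p E2 A2 B) (hne : E1 ≠ E2) {M N : Subgroup S} (hN : N.Normal)
    (h1 : ∀ e ∈ E1, ∀ m ∈ M, ⁅e, m⁆ ∈ N) (h2 : ∀ e ∈ E2, ∀ m ∈ M, ⁅e, m⁆ ∈ N) : ∀ m ∈ M, ∀ s, ⁅m, s⁆ ∈ N := by
  intro m hm s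
  obtain ⟨a, ha, b, hb, rfl⟩ := pair_mul D1 D2 hne s
  exact cm_symm (cm_mul_left (h1 a ha m hm) (h2 b hb m hm))

theorem pair_tau1 (D1 : EssData p E1 A1 B) (D2 : EssData p E2 A2 B) {β : MulAut S} (hβ : β ∈ B) {x : S} (hx : x ∈ E1 ⊓ E2) :
    β x ∈ E1 ⊓ E2 := ⟨Inv.self.map D1 hβ hx.1, Inv.self.map D2 hβ hx.2⟩

theorem Fr_le_inf (D1 : EssData p E1 A1 B) (D2 : EssData p E2 A2 B) (hS : IsPGroup p S) : Fr E1 ≤ E1 ⊓ E2 :=
  Fr_le_of hS inf_le_left (fun a ha b hb => pair_comm D1 D2 a b)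
    (fun a ha => ⟨E1.pow_mem ha p, pow_mem_of_index D2.index a⟩)

/-- `τ₁` is trivial on `S/D` if `W₁ = D`. -/
theorem NT.W_triv (D1 : EssData p E1 A1 B) (D2 : EssData p E2 A2 B) (hS : IsPGroup p S) (h2 : p ≠ 2)
    (N1 : NT p E1 A1 B K1 W1 τ1) (hW : W1 = E1 ⊓ E2) (s : S) : s⁻¹ * τ1 s ∈ E1 ⊓ E2 := by
  have hWn := N1.invW.normal D1
  have h1 : ∀ e ∈ E1, e⁻¹ * τ1 e ∈ W1 := by
    intro e he
    rw [← N1.sup] at he
    obtain ⟨k, hk, w, hw, rfl⟩ := (Subgroup.mem_sup_of_normal_right (t := W1)).1 he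
    have h3 := N1.frW (N1.pos k hk)
    have h4 : τ1 w ∈ W1 := N1.invW.map D1 N1.mem hw
    have e1 : (k * w)⁻¹ * τ1 (k * w) = w⁻¹ * (k⁻¹ * τ1 k) * w⁻¹⁻¹ * (w⁻¹ * τ1 w) := by
      rw [map_mul]
      group
    rw [e1]
    exact W1.mul_mem (hWn.conj_mem _ h3 _) (W1.mul_mem (W1.inv_mem hw) h4)
  rw [← hW]
  exact triv_trans hS h2 N1.sq (h1 _ (N1.quo s))

/-- **Case a.** -/
theorem no_W_reg (D1 : EssData p E1 A1 B) (D2 : EssData p E2 A2 B) (hne : E1 ≠ E2) (hS : IsPGroup p S) (h2 : p ≠ 2)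
    (N1 : NT p E1 A1 B K1 W1 τ1) (hW : W1 = E1 ⊓ E2) (R2 : RT p E2 A2) : False := by
  have hDn : (E1 ⊓ E2).Normal := inferInstance
  have h1 : G1 E2 = E1 ⊓ E2 := by
    refine R2.eq_G1 D2 hS ?_ inf_le_right (pair_idx2 D1 D2 hne)
    rw [inf_comm]
    exact Fr_le_inf D2 D1 hS
  have h3 : E1 ⊓ E2 ≤ Fr ⊤ := by
    rw [← h1]
    refine sup_le ?_ (Fr_mono' hS le_top)
    rw [Subgroup.commutator_le]
    intro a ha b hb
    exact comm_mem_Fr hS (mem_top a) (mem_top b)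
  have h4 := fix_of_Fr hS h2 N1.sq (M := ⊤) (fun m hm => mem_top _) (fun m hm => h3 (N1.W_triv D1 D2 hS h2 hW m))
  apply N1.K_ne
  have hKn := N1.invK.normal D1
  apply le_antisymm N1.invK.le
  intro e he
  refine mem_of_inv_triv hS h2 (N1.negE D1 he) ?_
  rw [h4 e (mem_top e), inv_mul_cancel]
  exact K1.one_mem

/-- **Case b.** -/
theorem no_W_W (D1 : EssData p E1 A1 B) (D2 : EssData p E2 A2 B) (hne : E1 ≠ E2) (hS : IsPGroup p S) (h2 : p ≠ 2)
    (hR : Rk p S) (N1 : NT p E1 A1 B K1 W1 τ1) (hW : W1 = E1 ⊓ E2) (N2 : NT p E2 A2 B K2 W2 τ2) (hW2 : W2 = E1 ⊓ E2) : False := by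
  have hWn := N1.invW.normal D1
  have hFn : (Fr W1).Normal := Fr_normal
  have h1 := N1.centW D1 hS h2 hR
  have h3 := N2.centW D2 hS h2 hR
  rw [hW2, ← hW] at h3
  have h4 := pair_cent D1 D2 hne hFn h1 h3
  exact N1.notcentW D1 hS h2 (fun w hw s => Fr_mono' hS N1.invW.le (h4 w hw s))

/-- **Case c.** -/
theorem no_W_K (D1 : EssData p E1 A1 B) (D2 : EssData p E2 A2 B) (hne : E1 ≠ E2) (hS : IsPGroup p S) (h2 : p ≠ 2)
    (hR : Rk p S) (N1 : NT p E1 A1 B K1 W1 τ1) (hW : W1 = E1 ⊓ E2) (N2 : NT p E2 A2 B K2 W2 τ2) (hK2 : K2 ≤ E1 ⊓ E2) : False := by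
  have hWn := N1.invW.normal D1
  have hK2n := N2.invK.normal D2
  have hFr1n : (Fr E1).Normal := Fr_normal
  rw [← hW] at hK2
  have hWE2 : W1 ≤ E2 := by rw [hW]; exact inf_le_right
  have hidx1 : W1.relIndex E1 = p := by rw [hW]; exact pair_idx1 D1 D2 hne
  have hidx2 : W1.relIndex E2 = p := by rw [hW]; exact pair_idx2 D1 D2 hne
  have hidxK : K2.relIndex W1 = p := by
    have h1 := Subgroup.relIndex_mul_relIndex K2 W1 E2 hK2 hWE2
    rw [hidx2, N2.idx, pow_two] at h1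
    exact Nat.eq_of_mul_eq_mul_right hp.out.pos h1
  have hFr2 : Fr W1 ≤ K2 := (Fr_mono' hS hWE2).trans N2.frK
  -- `τ₁` is trivial on `D/K₂`
  have htriv : ∀ d ∈ W1, d⁻¹ * τ1 d ∈ K2 := by
    have hWt := N1.W_triv D1 D2 hS h2 hW
    have hcd : ∀ d ∈ W1, ∀ s, ⁅d, s⁆ ∈ K2 := fun d hd s => comm_mem_of_prime hS hK2 (dvd_of_eq hidxK) hd s
    let T : Subgroup S :=
      { carrier := {d | d ∈ W1 ∧ d⁻¹ * τ1 d ∈ K2}
        mul_mem' := by
          rintro a b ⟨ha, ha'⟩ ⟨hb, hb'⟩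
          refine ⟨W1.mul_mem ha hb, ?_⟩
          have e1 : (a * b)⁻¹ * τ1 (a * b) = b⁻¹ * (a⁻¹ * τ1 a) * b⁻¹⁻¹ * (b⁻¹ * τ1 b) := by
            rw [map_mul]
            group
          rw [e1]
          exact K2.mul_mem (hK2n.conj_mem _ ha' _) hb'
        one_mem' := ⟨W1.one_mem, by
          rw [map_one, inv_one, one_mul]
          exact K2.one_mem⟩
        inv_mem' := by
          rintro a ⟨ha, ha'⟩
          refine ⟨W1.inv_mem ha, ?_⟩
          have e1 : a⁻¹⁻¹ * τ1 a⁻¹ = a * (a⁻¹ * τ1 a)⁻¹ * a⁻¹ := by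
            rw [map_inv]
            group
          rw [e1]
          exact hK2n.conj_mem _ (K2.inv_mem ha') _ }
    have hK2T : K2 ≤ T := by
      intro k hk
      exact ⟨hK2 hk, K2.mul_mem (K2.inv_mem hk) (N2.invK.map D2 N1.mem hk)⟩
    have hTW : T ≤ W1 := fun x hx => hx.1
    rcases between hK2T hTW (dvd_of_eq hidxK) with h | h
    · exfalso
      apply N2.notcent D2 hS h2
      intro e he s
      have hes : ⁅e, s⁆ ∈ W1 := by
        rw [hW]
        exact pair_comm D1 D2 e s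
      have h3 : ⁅e, s⁆ ∈ T := by
        refine ⟨hes, ?_⟩
        rw [map_commutatorElement]
        rw [← QuotientGroup.eq]
        show ⁅(QuotientGroup.mk e : S ⧸ K2), (QuotientGroup.mk s : S ⧸ K2)⁆ = ⁅(QuotientGroup.mk (τ1 e) : S ⧸ K2), (QuotientGroup.mk (τ1 s) : S ⧸ K2)⁆
        have hc : ∀ x : S, ∀ d ∈ W1, (QuotientGroup.mk d : S ⧸ K2) * QuotientGroup.mk x = QuotientGroup.mk x * QuotientGroup.mk d := by
          intro x d hd
          have : ⁅(QuotientGroup.mk d : S ⧸ K2), (QuotientGroup.mk x : S ⧸ K2)⁆ = 1 := (QuotientGroup.eq_one_iff _).2 (hcd d hd x)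
          rwa [commutatorElement_eq_one_iff_mul_comm] at this
        have hτ : ∀ x : S, ∃ d ∈ W1, (QuotientGroup.mk (τ1 x) : S ⧸ K2) = QuotientGroup.mk x * QuotientGroup.mk d := by
          intro x
          refine ⟨x⁻¹ * τ1 x, ?_, ?_⟩
          · rw [hW]
            exact hWt x
          · rw [← QuotientGroup.mk_mul, mul_inv_cancel_left]
        obtain ⟨d1, hd1, q1⟩ := hτ e
        obtain ⟨d2, hd2, q2⟩ := hτ s
        rw [q1, q2]
        have c1 := hc e d1 hd1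
        have c2 := hc s d1 hd1
        have c3 := hc e d2 hd2
        have c4 := hc s d2 hd2
        have c5 := hc d1 d2 hd2
        set a : S ⧸ K2 := QuotientGroup.mk e
        set b : S ⧸ K2 := QuotientGroup.mk s
        set u : S ⧸ K2 := QuotientGroup.mk d1
        set v : S ⧸ K2 := QuotientGroup.mk d2
        rw [commutatorElement_def, commutatorElement_def]
        have e1 : a * u * (b * v) = a * b * (u * v) := by
          calc a * u * (b * v) = a * (u * b) * v := by group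
            _ = a * b * (u * v) := by rw [c2]; group
        have e2 : (a * u)⁻¹ * (b * v)⁻¹ = (u * v)⁻¹ * (a⁻¹ * b⁻¹) := by
          have h5 : (b * v) * (a * u) = (b * a) * (u * v) := by
            calc (b * v) * (a * u) = b * (v * a) * u := by group
              _ = b * a * (v * u) := by rw [c3]; group
              _ = (b * a) * (u * v) := by rw [c5]
          have h6 := congrArg (fun z => z⁻¹) h5
          simp only [mul_inv_rev] at h6 ⊢
          rw [mul_assoc, mul_assoc] at h6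
          rw [mul_assoc, mul_assoc]
          exact h6
        calc a * b * a⁻¹ * b⁻¹ = a * b * (u * v) * ((u * v)⁻¹ * (a⁻¹ * b⁻¹)) := by group
          _ = a * u * (b * v) * ((a * u)⁻¹ * (b * v)⁻¹) := by rw [e1, e2]
          _ = a * u * (b * v) * (a * u)⁻¹ * (b * v)⁻¹ := by group
      rw [h] at h3
      exact h3
    · intro d hd
      rw [← h] at hd
      exact hd.2
  -- `E₁` centralises `D/Φ(D)` and `[D,τ₁]Φ(D)` is invariant
  have hcW := N1.centW D1 hS h2 hR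
  have hct : Inv A1 (ct W1 τ1 (Fr W1)) := N1.ct_inv D1 N1.invW N1.invW.Fr hcW
  have hctn := hct.normal D1
  have hctK : ct W1 τ1 (Fr W1) ≤ K2 := ct_le hFr2 htriv
  have hWct : W1 ≤ ct W1 τ1 (Fr W1) ⊔ Fr E1 := by
    intro w hw
    apply sq_mem hS h2
    have h1 := N1.neg w hw
    have h3 : w⁻¹ * τ1 w ∈ ct W1 τ1 (Fr W1) ⊔ Fr E1 := (le_sup_left : _ ≤ ct W1 τ1 (Fr W1) ⊔ Fr E1) (mem_ct hw)
    have h4 : w * (τ1 w * w) * w⁻¹ ∈ ct W1 τ1 (Fr W1) ⊔ Fr E1 := (le_sup_right : _ ≤ ct W1 τ1 (Fr W1) ⊔ Fr E1) (hFr1n.conj_mem _ h1 w)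
    have h5 : w * (w⁻¹ * τ1 w) * w⁻¹ ∈ ct W1 τ1 (Fr W1) ⊔ Fr E1 := Subgroup.Normal.conj_mem inferInstance _ h3 w
    have h6 := mul_mem (inv_mem h5) h4
    have e1 : (w * (w⁻¹ * τ1 w) * w⁻¹)⁻¹ * (w * (τ1 w * w) * w⁻¹) = w * (τ1 w)⁻¹ * w * τ1 w := by group
    rw [e1] at h6
    -- `w τ(w)⁻¹ w τ(w) = w² [w⁻¹ ...]`
    have h7 : ⁅(τ1 w)⁻¹, w⁆ ∈ ct W1 τ1 (Fr W1) ⊔ Fr E1 :=
      (le_sup_right : _ ≤ ct W1 τ1 (Fr W1) ⊔ Fr E1) (comm_mem_Fr hS (E1.inv_mem (N1.tE D1 (N1.invW.le hw))) (N1.invW.le hw))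
    have h8 : w * ⁅(τ1 w)⁻¹, w⁆ * w⁻¹ ∈ ct W1 τ1 (Fr W1) ⊔ Fr E1 := Subgroup.Normal.conj_mem inferInstance _ h7 w
    have h9 := mul_mem (inv_mem h8) h6
    have e2 : ∀ a b : S, (a * ⁅b⁻¹, a⁆ * a⁻¹)⁻¹ * (a * b⁻¹ * a * b) = a * a := by
      intro a b
      rw [commutatorElement_def]
      group
      exact zpow_two a
    rwa [e2] at h9
  have hidxct : (ct W1 τ1 (Fr W1)).relIndex W1 ≤ p := by
    have hle : ct W1 τ1 (Fr W1) ⊔ Fr E1 = W1 := le_antisymm (sup_le (hctK.trans hK2) N1.frW) hWct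
    have h1 : (ct W1 τ1 (Fr W1)).relIndex (ct W1 τ1 (Fr W1) ⊔ Fr E1) = (ct W1 τ1 (Fr W1)).relIndex (Fr E1) :=
      Subgroup.relIndex_sup_left _ _
    rw [hle] at h1
    rw [h1]
    refine (relIndex_mono_left _ le_ct).trans ?_
    apply le_of_mul_le_cube
    rw [← N1.idxW D1, Subgroup.relIndex_mul_relIndex _ _ _ (Fr_mono' hS N1.invW.le) N1.frW]
    exact Rk.fr hS hR W1
  have hT : ct W1 τ1 (Fr W1) = K2 := eq_of_relIndex hctK hK2 (by rw [hidxK]; exact hidxct)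
  rw [hT] at hct hWct
  -- `R = K₂ ∩ Φ(E₁)`
  have hsupT : K2 ⊔ Fr E1 = W1 := le_antisymm (sup_le hK2 N1.frW) hWct
  have hidxR : (K2 ⊓ Fr E1).relIndex K2 = p ^ 2 := by
    rw [Subgroup.inf_relIndex_left]
    have h1 : (Fr E1).relIndex (K2 ⊔ Fr E1) = (Fr E1).relIndex K2 := Subgroup.relIndex_sup_right K2 (Fr E1)
    rw [← h1, hsupT, N1.idxW D1]
  have hFrT : Fr K2 ≤ K2 ⊓ Fr E1 := le_inf (Fr_le K2) (Fr_mono' hS (hK2.trans N1.invW.le))
  have hRn : (K2 ⊓ Fr E1).Normal := inferInstance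
  have hidxR2 : (Fr K2).relIndex (K2 ⊓ Fr E1) ≤ p := by
    apply le_of_mul_le_cube
    rw [← hidxR, Subgroup.relIndex_mul_relIndex _ _ _ hFrT inf_le_left]
    exact Rk.fr hS hR K2
  have hFrn : (Fr K2).Normal := Fr_normal
  have c1 : ∀ e ∈ E1, ∀ x ∈ K2, ⁅e, x⁆ ∈ K2 ⊓ Fr E1 := fun e he x hx =>
    ⟨cm_of_mem_right hx, comm_mem_Fr hS he (N1.invW.le (hK2 hx))⟩
  have c2 : ∀ e ∈ E1, ∀ x ∈ K2 ⊓ Fr E1, ⁅e, x⁆ ∈ Fr K2 := fun e he x hx =>
    cm_symm (comm_mem_of_prime hS hFrT (rel_dvd hS hidxR2) hx e)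
  have c3 := quad_Fr hS c1 c2 (fun m hm => pow_mem_Fr hS hm.1)
  -- `D` centralises `T/Φ(T)`
  have c4 : ∀ d ∈ W1, ∀ x ∈ K2, ⁅d, x⁆ ∈ Fr K2 := by
    intro d hd x hx
    rw [← hsupT] at hd
    obtain ⟨a, ha, b, hb, rfl⟩ := Subgroup.mem_sup_of_normal_left.1 hd
    exact cm_mul_left (comm_mem_Fr hS ha hx) (c3 b hb x hx)
  have hC : Inv A2 (cmod E2 K2 (Fr K2) hFrn) := Inv.cmod Inv.self N2.invK N2.invK.Fr hFrn
  rcases N2.irr _ hC (fun x hx => ⟨N2.invK.le hx, fun m hm => comm_mem_Fr hS hx hm⟩) with h | h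
  · have h1 : W1 ≤ K2 := by
      rw [← h]
      exact fun d hd => ⟨hWE2 hd, fun m hm => c4 d hd m hm⟩
    have h3 : K2.relIndex W1 = 1 := by
      rw [Subgroup.relIndex_eq_one]
      exact h1
    rw [hidxK] at h3
    exact hp.out.one_lt.ne' h3
  · have c5 : ∀ e ∈ E2, ∀ x ∈ K2, ⁅e, x⁆ ∈ K2 ⊓ Fr E1 := by
      intro e he x hx
      rw [← h] at he
      exact hFrT (he.2 x hx)
    have c6 := pair_cent D1 D2 hne hRn c1 c5
    have hRi : Inv A1 (K2 ⊓ Fr E1) := hct.inf Inv.self.Fr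
    have c7 := N1.triv K2 _ hct hRi c6
    have c8 : K2 ≤ Fr E1 := fun t ht => mem_of_inv_triv hS h2 (N1.neg t (hK2 ht)) (c7 t ht).2
    have h3 : (K2 ⊓ Fr E1).relIndex K2 = 1 := by
      rw [Subgroup.relIndex_eq_one]
      exact le_inf le_rfl c8
    rw [hidxR] at h3
    have := p_lt_sq (p := p)
    have := hp.out.one_lt
    omega

end Cfsg.Agent.H767.TE
end
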