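import Cfsg.Agent.H767.TEReg
set_option linter.all false

-- part: H767/TEEss
section
/-!
# Maximal subgroups with a group of automorphisms: basic notions (helper767)
-/

set_option autoImplicit false
set_option linter.unusedSectionVars false
set_option linter.unusedVariables false

namespace Cfsg.Agent.H767.TE

open Subgroup
open scoped commutatorElement

variable {S : Type*} [Group S] [Finite S] {p : ℕ} [hp : Fact p.Prime]

/-- `M ≤ E` is invariant under the group `A` of automorphisms of `E` -/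
structure Inv {E : Subgroup S} (A : Subgroup (MulAut E)) (M : Subgroup S) : Prop where
  le : M ≤ E
  inv : ∀ α ∈ A, ∀ x : E, (x : S) ∈ M → ((α x : E) : S) ∈ M

variable {E : Subgroup S} {A : Subgroup (MulAut E)}

theorem Inv.iff {M : Subgroup S} (h : Inv A M) {α : MulAut E} (hα : α ∈ A) (x : E) :
    ((α x : E) : S) ∈ M ↔ (x : S) ∈ M := by
  constructor
  · intro h1
    have h2 := h.inv α⁻¹ (A.inv_mem hα) _ h1
    rwa [MulAut.inv_apply_self] at h2
  · exact h.inv α hα x

theorem Inv.self : Inv A E := ⟨le_rfl, fun α _ x _ => (α x).2⟩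

theorem Inv.bot : Inv A ⊥ := ⟨bot_le, fun α _ x hx => by
  rw [Subgroup.mem_bot] at hx ⊢
  have : x = 1 := Subtype.ext hx
  rw [this, map_one]
  rfl⟩

theorem Inv.inf {M N : Subgroup S} (hM : Inv A M) (hN : Inv A N) : Inv A (M ⊓ N) :=
  ⟨inf_le_left.trans hM.le, fun α hα x hx => ⟨hM.inv α hα x hx.1, hN.inv α hα x hx.2⟩⟩

/-- the image of `M` under an automorphism of `E` -/
def im (α : MulAut E) (M : Subgroup S) : Subgroup S := ((M.subgroupOf E).map α.toMonoidHom).map E.subtype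

theorem mem_im {α : MulAut E} {M : Subgroup S} (x : E) : ((α x : E) : S) ∈ im α M ↔ (x : S) ∈ M := by
  constructor
  · rintro ⟨y, ⟨z, hz, hzy⟩, hyx⟩
    have h1 : y = α x := Subtype.ext hyx
    have h2 : α z = α x := hzy.trans h1
    have h3 : z = x := α.injective h2
    rw [← h3]
    exact hz
  · intro h
    exact ⟨α x, ⟨x, h, rfl⟩, rfl⟩

theorem Inv.of_closure {T : Set S} (hT : T ⊆ E) (h : ∀ α ∈ A, ∀ x : E, (x : S) ∈ T → ((α x : E) : S) ∈ Subgroup.closure T) :
    Inv A (Subgroup.closure T) := by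
  refine ⟨(Subgroup.closure_le _).2 hT, fun α hα x hx => ?_⟩
  have key : ∀ z : S, ∀ hz : z ∈ Subgroup.closure T, ∀ hzE : z ∈ E,
      ((α ⟨z, hzE⟩ : E) : S) ∈ Subgroup.closure T := by
    intro z hz
    induction hz using Subgroup.closure_induction with
    | mem z hz => exact fun hzE => h α hα ⟨z, hzE⟩ hz
    | one =>
      intro hzE
      have : (⟨1, hzE⟩ : E) = 1 := rfl
      rw [this, map_one]
      exact one_mem _
    | mul a b ha hb iha ihb =>
      intro hzE
      have haE : a ∈ E := ((Subgroup.closure_le _).2 hT) ha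
      have hbE : b ∈ E := ((Subgroup.closure_le _).2 hT) hb
      have : (⟨a * b, hzE⟩ : E) = ⟨a, haE⟩ * ⟨b, hbE⟩ := rfl
      rw [this, map_mul]
      exact mul_mem (iha haE) (ihb hbE)
    | inv a ha iha =>
      intro hzE
      have haE : a ∈ E := ((Subgroup.closure_le _).2 hT) ha
      have : (⟨a⁻¹, hzE⟩ : E) = (⟨a, haE⟩)⁻¹ := rfl
      rw [this, map_inv]
      exact inv_mem (iha haE)
  exact key x hx x.2

theorem Inv.sup {M N : Subgroup S} (hM : Inv A M) (hN : Inv A N) : Inv A (M ⊔ N) := by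
  have h1 : M ⊔ N = Subgroup.closure ((M : Set S) ∪ N) := (Subgroup.closure_union _ _).trans (by
    rw [Subgroup.closure_eq, Subgroup.closure_eq]) |>.symm
  rw [h1]
  refine Inv.of_closure ?_ ?_
  · rintro x (hx | hx)
    · exact hM.le hx
    · exact hN.le hx
  · rintro α hα x (hx | hx)
    · exact Subgroup.subset_closure (Or.inl (hM.inv α hα x hx))
    · exact Subgroup.subset_closure (Or.inr (hN.inv α hα x hx))

theorem Inv.comm {M N : Subgroup S} (hM : Inv A M) (hN : Inv A N) : Inv A ⁅M, N⁆ := by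
  rw [Subgroup.commutator_def]
  refine Inv.of_closure ?_ ?_
  · rintro _ ⟨a, ha, b, hb, rfl⟩
    rw [SetLike.mem_coe, commutatorElement_def]
    exact E.mul_mem (E.mul_mem (E.mul_mem (hM.le ha) (hN.le hb)) (E.inv_mem (hM.le ha))) (E.inv_mem (hN.le hb))
  · rintro α hα x ⟨a, ha, b, hb, hab⟩
    apply Subgroup.subset_closure
    refine ⟨α ⟨a, hM.le ha⟩, hM.inv α hα ⟨a, hM.le ha⟩ ha, α ⟨b, hN.le hb⟩, hN.inv α hα ⟨b, hN.le hb⟩ hb, ?_⟩
    have h1 : x = ⁅(⟨a, hM.le ha⟩ : E), ⟨b, hN.le hb⟩⁆ := Subtype.ext hab.symm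
    rw [h1, map_commutatorElement]
    rfl

/-- characteristic subgroups of invariant subgroups -/
theorem Inv.char {M : Subgroup S} (hM : Inv A M) (C : Subgroup M) [hC : C.Characteristic] : Inv A (C.map M.subtype) := by
  refine ⟨(Subgroup.map_subtype_le _).trans hM.le, ?_⟩
  intro α hα x hx
  obtain ⟨c, hc, hcx⟩ := hx
  -- the restriction of `α` to `M`
  let f : M →* M :=
    { toFun := fun m => ⟨α ⟨m, hM.le m.2⟩, hM.inv α hα ⟨m, hM.le m.2⟩ m.2⟩
      map_one' := Subtype.ext (by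
        show ((α (1 : E) : E) : S) = 1
        rw [map_one]
        rfl)
      map_mul' := fun a b => Subtype.ext (by
        show ((α ((⟨a, hM.le a.2⟩ : E) * ⟨b, hM.le b.2⟩) : E) : S) = _
        rw [map_mul]
        rfl) }
  have hf : Function.Bijective f := by
    have hi : Function.Injective f := by
      intro a b hab
      have h0 : ((α ⟨a, hM.le a.2⟩ : E) : S) = ((α ⟨b, hM.le b.2⟩ : E) : S) := congrArg (fun z : M => (z : S)) hab
      have h1 : α ⟨a, hM.le a.2⟩ = α ⟨b, hM.le b.2⟩ := Subtype.ext h0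
      have h2 := α.injective h1
      have h3 : (a : S) = (b : S) := congrArg (fun z : E => (z : S)) h2
      exact Subtype.ext h3
    exact (Finite.injective_iff_bijective).1 hi
  rw [Subgroup.characteristic_iff_map_le] at hC
  have h3 := hC (MulEquiv.ofBijective f hf) ⟨c, hc, rfl⟩
  refine ⟨f c, h3, ?_⟩
  show ((α ⟨c, hM.le c.2⟩ : E) : S) = α x
  have h4 : (⟨c, hM.le c.2⟩ : E) = x := Subtype.ext hcx
  rw [h4]

theorem Inv.Fr {M : Subgroup S} (hM : Inv A M) : Inv A (Fr M) := hM.char (frattini M)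

/-- the elements of `E` centralising `M` modulo `N` -/
def cmod (E M N : Subgroup S) (hN : N.Normal) : Subgroup S where
  carrier := {e | e ∈ E ∧ ∀ m ∈ M, ⁅e, m⁆ ∈ N}
  mul_mem' := by
    rintro a b ⟨ha, ha'⟩ ⟨hb, hb'⟩
    refine ⟨mul_mem ha hb, fun m hm => ?_⟩
    have e : ⁅a * b, m⁆ = a * ⁅b, m⁆ * a⁻¹ * ⁅a, m⁆ := by
      rw [commutatorElement_def, commutatorElement_def, commutatorElement_def]
      group
    rw [e]
    exact mul_mem (hN.conj_mem _ (hb' m hm) a) (ha' m hm)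
  one_mem' := ⟨one_mem _, fun m _ => by
    rw [commutatorElement_one_left]
    exact N.one_mem⟩
  inv_mem' := by
    rintro a ⟨ha, ha'⟩
    refine ⟨inv_mem ha, fun m hm => ?_⟩
    have e : ⁅a⁻¹, m⁆ = a⁻¹ * (⁅a, m⁆)⁻¹ * a⁻¹⁻¹ := by
      rw [commutatorElement_def, commutatorElement_def]
      group
    rw [e]
    exact hN.conj_mem _ (inv_mem (ha' m hm)) _

theorem mem_cmod {E M N : Subgroup S} {hN : N.Normal} {x : S} : x ∈ cmod E M N hN ↔ x ∈ E ∧ ∀ m ∈ M, ⁅x, m⁆ ∈ N := Iff.rfl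

theorem Inv.cmod {C M N : Subgroup S} (hC : Inv A C) (hM : Inv A M) (hN : Inv A N) (hn : N.Normal) :
    Inv A (cmod C M N hn) := by
  refine ⟨fun x hx => hC.le hx.1, ?_⟩
  rintro α hα x ⟨hx1, hx2⟩
  refine ⟨hC.inv α hα x hx1, fun m hm => ?_⟩
  have h1 : ((α⁻¹ ⟨m, hM.le hm⟩ : E) : S) ∈ M := hM.inv α⁻¹ (A.inv_mem hα) ⟨m, hM.le hm⟩ hm
  have h2 := hx2 _ h1
  have h3 := hN.inv α hα ⁅x, α⁻¹ ⟨m, hM.le hm⟩⁆ h2
  rw [map_commutatorElement, MulAut.apply_inv_self] at h3
  exact h3

/-- data of a maximal subgroup `E` of the `p`-group `S` with automorphism groups `A` of `E` and `B` of `S` -/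
structure EssData (p : ℕ) (E : Subgroup S) [hE : E.Normal] (A : Subgroup (MulAut E)) (B : Subgroup (MulAut S)) :
    Prop where
  index : E.index = p
  cent : ∀ s : S, (∀ e ∈ E, s * e = e * s) → s ∈ E
  conjA : ∀ s : S, MulAut.conjNormal (H := E) s ∈ A
  radical : ∀ N : Subgroup (MulAut E), N ≤ A → (∀ α ∈ A, ∀ n ∈ N, α * n * α⁻¹ ∈ N) → IsPGroup p N →
    ∀ n ∈ N, ∃ e ∈ E, n = MulAut.conjNormal (H := E) e
  sylow : ∀ Q : Subgroup (MulAut E), Q ≤ A → IsPGroup p Q → (MulAut.conjNormal (H := E)).range ≤ Q →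
    Q = (MulAut.conjNormal (H := E)).range
  ext : ∀ α ∈ A, (∀ s : S, ∃ s' : S, α * MulAut.conjNormal (H := E) s * α⁻¹ = MulAut.conjNormal (H := E) s') →
    ∃ β ∈ B, ∀ e : E, β e = α e
  res : ∀ β ∈ B, ∃ α ∈ A, ∀ e : E, ((α e : E) : S) = β e

/-- the rank hypothesis -/
def Rk (p : ℕ) (S : Type*) [Group S] : Prop :=
  ∀ N M : Subgroup S, N ≤ M → (∀ a ∈ M, ∀ b ∈ M, ⁅a, b⁆ ∈ N) → (∀ a ∈ M, a ^ p ∈ N) → N.relIndex M ≤ p ^ 3

variable [hE : E.Normal] {B : Subgroup (MulAut S)}

theorem Inv.normal (D : EssData p E A B) {M : Subgroup S} (hM : Inv A M) : M.Normal := by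
  refine ⟨fun m hm s => ?_⟩
  have h1 := hM.inv _ (D.conjA s) ⟨m, hM.le hm⟩ hm
  rwa [MulAut.conjNormal_apply] at h1

theorem Inv.map {M : Subgroup S} (D : EssData p E A B) (hM : Inv A M) {β : MulAut S} (hβ : β ∈ B) {m : S} (hm : m ∈ M) :
    β m ∈ M := by
  obtain ⟨α, hα, h⟩ := D.res β hβ
  have h1 := hM.inv α hα ⟨m, hM.le hm⟩ hm
  rwa [h] at h1

/-- generating `S` by `E` and `y` -/
theorem EssData.exists_zpow (D : EssData p E A B) {y : S} (hy : y ∉ E) (s : S) : ∃ (n : ℤ) (e : S), e ∈ E ∧ s = y ^ n * e := by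
  have hc : Nat.card (S ⧸ E) = p := D.index
  have : IsCyclic (S ⧸ E) := isCyclic_of_prime_card hc
  have h1 : (QuotientGroup.mk y : S ⧸ E) ≠ 1 := fun h => hy ((QuotientGroup.eq_one_iff y).1 h)
  have h2 : zpowers (QuotientGroup.mk y : S ⧸ E) = ⊤ := by
    apply Subgroup.eq_top_of_le_card
    rw [hc, Nat.card_zpowers]
    have h3 : orderOf (QuotientGroup.mk y : S ⧸ E) ∣ p := by
      rw [← hc]
      exact orderOf_dvd_natCard _
    rcases (Nat.dvd_prime hp.out).1 h3 with h4 | h4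
    · exact (h1 (orderOf_eq_one_iff.1 h4)).elim
    · exact h4.ge
  have h3 : (QuotientGroup.mk s : S ⧸ E) ∈ zpowers (QuotientGroup.mk y : S ⧸ E) := by rw [h2]; exact mem_top _
  obtain ⟨n, hn⟩ := h3
  simp only at hn
  rw [← QuotientGroup.mk_zpow, QuotientGroup.eq] at hn
  exact ⟨n, (y ^ n)⁻¹ * s, hn, by group⟩

theorem EssData.exists_notMem (D : EssData p E A B) : ∃ y : S, y ∉ E := by
  by_contra h
  push Not at h
  have h1 : E = ⊤ := by
    rw [eq_top_iff]
    exact fun x _ => h x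
  have h2 := D.index
  rw [h1, Subgroup.index_top] at h2
  exact hp.out.one_lt.ne h2

/-- conjugation is faithful modulo the centralizer -/
theorem EssData.conj_eq (D : EssData p E A B) {s t : S} (h : MulAut.conjNormal (H := E) s = MulAut.conjNormal (H := E) t) :
    s⁻¹ * t ∈ E := by
  apply D.cent
  intro e he
  have h1 := congrArg (fun α : MulAut E => ((α ⟨e, he⟩ : E) : S)) h
  simp only [MulAut.conjNormal_apply] at h1
  calc s⁻¹ * t * e = s⁻¹ * (t * e * t⁻¹) * t := by group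
    _ = s⁻¹ * (s * e * s⁻¹) * t := by rw [h1]
    _ = e * (s⁻¹ * t) := by group

end Cfsg.Agent.H767.TE
end

-- part: H767/TEStr
section
/-!
# The structure of a maximal subgroup with its automorphism group (helper767)
-/

set_option autoImplicit false
set_option linter.unusedSectionVars false
set_option linter.unusedVariables false

namespace Cfsg.Agent.H767.TE

open Subgroup
open scoped commutatorElement

variable {S : Type*} [Group S] [Finite S] {p : ℕ} [hp : Fact p.Prime]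

/-! ### The Frattini quotient -/

/-- `E/Φ(E)` -/
def FV (hS : IsPGroup p S) (E : Subgroup S) : Type _ := E ⧸ frattini E

noncomputable instance (hS : IsPGroup p S) (E : Subgroup S) : CommGroup (FV hS E) :=
  { (inferInstance : Group (E ⧸ frattini E)) with
    mul_comm := by
      intro a b
      induction a using QuotientGroup.induction_on with
      | H x =>
        induction b using QuotientGroup.induction_on with
        | H y =>
          show (QuotientGroup.mk (x * y) : E ⧸ frattini E) = QuotientGroup.mk (y * x)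
          rw [QuotientGroup.eq]
          have h := Cfsg.Agent.S0014.commutator_mem_frattini (hS.to_subgroup E) y⁻¹ x⁻¹
          have e : (x * y)⁻¹ * (y * x) = ⁅y⁻¹, x⁻¹⁆ := by
            rw [commutatorElement_def]
            group
          rw [e]
          exact h }

instance (hS : IsPGroup p S) (E : Subgroup S) : Finite (FV hS E) := inferInstanceAs (Finite (E ⧸ frattini E))

/-- the quotient map -/
noncomputable def mkV (hS : IsPGroup p S) (E : Subgroup S) : E →* FV hS E := QuotientGroup.mk' (frattini E)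

theorem mkV_surj (hS : IsPGroup p S) (E : Subgroup S) : Function.Surjective (mkV hS E) := QuotientGroup.mk'_surjective _

theorem mkV_one {hS : IsPGroup p S} {E : Subgroup S} (e : E) : mkV hS E e = 1 ↔ (e : S) ∈ Fr E := by
  rw [mem_Fr]
  exact QuotientGroup.eq_one_iff e

/-- the action of `Aut E` on `E/Φ(E)` -/
noncomputable def actV (hS : IsPGroup p S) (E : Subgroup S) : MulAut E →* MulAut (FV hS E) where
  toFun α := QuotientGroup.congr (frattini E) (frattini E) α (Subgroup.characteristic_iff_map_eq.1 inferInstance α)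
  map_one' := by
    ext q
    obtain ⟨e, rfl⟩ := mkV_surj hS E q
    rfl
  map_mul' α β := by
    ext q
    obtain ⟨e, rfl⟩ := mkV_surj hS E q
    rfl

theorem actV_mk (hS : IsPGroup p S) (E : Subgroup S) (α : MulAut E) (e : E) :
    actV hS E α (mkV hS E e) = mkV hS E (α e) := rfl

theorem card_FV (hS : IsPGroup p S) (E : Subgroup S) : Nat.card (FV hS E) = (Fr E).relIndex E := by
  have h : (Fr E).subgroupOf E = frattini E := by
    ext y
    rw [Subgroup.mem_subgroupOf]
    exact mem_Fr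
  rw [Subgroup.relIndex, h]
  rfl

/-- the subgroup of `S` corresponding to a subgroup of `E/Φ(E)` -/
noncomputable def lift {hS : IsPGroup p S} {E : Subgroup S} (U : Subgroup (FV hS E)) : Subgroup S :=
  (U.comap (mkV hS E)).map E.subtype

/-- the subgroup of `E/Φ(E)` corresponding to a subgroup of `S` -/
noncomputable def down (hS : IsPGroup p S) (E : Subgroup S) (M : Subgroup S) : Subgroup (FV hS E) :=
  (M.subgroupOf E).map (mkV hS E)

section lift

variable {hS : IsPGroup p S} {E : Subgroup S}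

theorem mem_lift {U : Subgroup (FV hS E)} (e : E) : (e : S) ∈ lift U ↔ mkV hS E e ∈ U := by
  constructor
  · rintro ⟨y, hy, hxy⟩
    have : y = e := Subtype.ext hxy
    rw [← this]
    exact hy
  · intro h
    exact ⟨e, h, rfl⟩

theorem lift_le (U : Subgroup (FV hS E)) : lift U ≤ E := Subgroup.map_subtype_le _

theorem Fr_le_lift (U : Subgroup (FV hS E)) : Fr E ≤ lift U := by
  intro x hx
  have h1 : ((⟨x, Fr_le E hx⟩ : E) : S) ∈ Fr E := hx
  have h2 := (mem_lift (U := U) ⟨x, Fr_le E hx⟩).2 (by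
    rw [(mkV_one (hS := hS) _).2 h1]
    exact U.one_mem)
  exact h2

theorem lift_relIndex (U W : Subgroup (FV hS E)) : (lift U).relIndex (lift W) = U.relIndex W := by
  unfold lift
  rw [Subgroup.relIndex_map_map_of_injective _ _ E.subtype_injective, Subgroup.relIndex_comap,
    Subgroup.map_comap_eq_self_of_surjective (mkV_surj hS E)]

theorem lift_top : lift (⊤ : Subgroup (FV hS E)) = E := by
  apply le_antisymm (lift_le _)
  intro x hx
  exact (mem_lift (U := (⊤ : Subgroup (FV hS E))) ⟨x, hx⟩).2 (mem_top _)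

theorem lift_bot : lift (⊥ : Subgroup (FV hS E)) = Fr E := by
  apply le_antisymm _ (Fr_le_lift _)
  rintro _ ⟨y, hy, rfl⟩
  exact (mkV_one y).1 hy

theorem lift_inf (U W : Subgroup (FV hS E)) : lift (U ⊓ W) = lift U ⊓ lift W := by
  unfold lift
  rw [Subgroup.comap_inf, Subgroup.map_inf _ _ _ E.subtype_injective]

theorem mem_down {M : Subgroup S} (hM : Fr E ≤ M) (e : E) : mkV hS E e ∈ down hS E M ↔ (e : S) ∈ M := by
  constructor
  · rintro ⟨y, hy, hye⟩
    have h1 : mkV hS E (y⁻¹ * e) = 1 := by rw [map_mul, map_inv, hye, inv_mul_cancel]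
    have h2 := hM ((mkV_one _).1 h1)
    have h3 := M.mul_mem (show (y : S) ∈ M from hy) h2
    have h4 : (y : S) * ((y⁻¹ * e : E) : S) = e := by
      rw [Subgroup.coe_mul, Subgroup.coe_inv, mul_inv_cancel_left]
    rwa [h4] at h3
  · intro h
    exact ⟨e, h, rfl⟩

theorem lift_down {M : Subgroup S} (h1 : Fr E ≤ M) (h2 : M ≤ E) : lift (down hS E M) = M := by
  ext x
  constructor
  · intro hx
    have hxE := lift_le _ hx
    exact (mem_down h1 ⟨x, hxE⟩).1 ((mem_lift ⟨x, hxE⟩).1 hx)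
  · intro hx
    exact (mem_lift ⟨x, h2 hx⟩).2 ((mem_down h1 ⟨x, h2 hx⟩).2 hx)

theorem down_lift (U : Subgroup (FV hS E)) : down hS E (lift U) = U := by
  ext q
  obtain ⟨e, rfl⟩ := mkV_surj hS E q
  rw [mem_down (Fr_le_lift U), mem_lift]

theorem lift_mono {U W : Subgroup (FV hS E)} (h : U ≤ W) : lift U ≤ lift W :=
  Subgroup.map_mono (Subgroup.comap_mono h)

theorem lift_sup (U W : Subgroup (FV hS E)) : lift (U ⊔ W) = lift U ⊔ lift W := by
  apply le_antisymm
  · have h1 : U ⊔ W ≤ down hS E (lift U ⊔ lift W) := by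
      refine sup_le ?_ ?_
      · intro q hq
        obtain ⟨e, rfl⟩ := mkV_surj hS E q
        rw [mem_down ((Fr_le_lift U).trans le_sup_left)]
        exact (le_sup_left : lift U ≤ _) ((mem_lift e).2 hq)
      · intro q hq
        obtain ⟨e, rfl⟩ := mkV_surj hS E q
        rw [mem_down ((Fr_le_lift U).trans le_sup_left)]
        exact (le_sup_right : lift W ≤ _) ((mem_lift e).2 hq)
    have h2 := lift_mono h1
    rwa [lift_down ((Fr_le_lift U).trans le_sup_left) (sup_le (lift_le U) (lift_le W))] at h2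
  · exact sup_le (lift_mono le_sup_left) (lift_mono le_sup_right)

end lift

/-! ### The basic data -/

section data

variable {E : Subgroup S} [hE : E.Normal] {A : Subgroup (MulAut E)} {B : Subgroup (MulAut S)}

/-- the action of `A` on `E/Φ(E)` -/
noncomputable abbrev rho (hS : IsPGroup p S) (A : Subgroup (MulAut E)) : A →* MulAut (FV hS E) := (actV hS E).comp A.subtype

/-- `Aut_S(E)` as a subgroup of `A` -/
abbrev QA (A : Subgroup (MulAut E)) : Subgroup A := ((MulAut.conjNormal (H := E)).range).subgroupOf A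

theorem rho_ker (hS : IsPGroup p S) : IsPGroup p (rho hS A).ker := by
  rintro ⟨a, ha⟩
  obtain ⟨k, m, hm, hkm⟩ := Nat.exists_eq_pow_mul_and_not_dvd (orderOf_pos (a : MulAut E)).ne' p (Fact.out : p.Prime).ne_one
  refine ⟨k, ?_⟩
  apply Subtype.ext
  apply Subtype.ext
  show (a : MulAut E) ^ p ^ k = 1
  have h1 : orderOf ((a : MulAut E) ^ p ^ k) = m := by
    rw [orderOf_pow' _ (pow_ne_zero k hp.out.ne_zero), hkm, Nat.gcd_eq_right (Dvd.intro m rfl),
      Nat.mul_div_cancel_left _ (pow_pos hp.out.pos k)]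
  apply Cfsg.Agent.H767.EssFrat.eq_one_of_mod_frattini (hS.to_subgroup E)
  · rw [h1]
    exact ((Nat.Prime.coprime_iff_not_dvd hp.out).2 hm).symm
  · intro x
    have h2 : actV hS E ((a : MulAut E) ^ p ^ k) = 1 := by
      have h3 : actV hS E (a : MulAut E) = 1 := ha
      rw [map_pow, h3, one_pow]
    have h3 : mkV hS E (((a : MulAut E) ^ p ^ k) x) = mkV hS E x := by
      rw [← actV_mk, h2, MulAut.one_apply]
    have h4 : mkV hS E (x⁻¹ * ((a : MulAut E) ^ p ^ k) x) = 1 := by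
      rw [map_mul, map_inv, h3, inv_mul_cancel]
    exact mem_Fr.1 ((mkV_one _).1 h4)

theorem inner_triv (hS : IsPGroup p S) {e : S} (he : e ∈ E) : actV hS E (MulAut.conjNormal (H := E) e) = 1 := by
  ext q
  obtain ⟨x, rfl⟩ := mkV_surj hS E q
  rw [actV_mk, MulAut.one_apply]
  have h1 : MulAut.conjNormal (H := E) e x = ⟨e, he⟩ * x * (⟨e, he⟩ : E)⁻¹ := Subtype.ext (MulAut.conjNormal_apply e x)
  rw [h1, map_mul, map_mul, map_inv, mul_comm (mkV hS E ⟨e, he⟩), mul_inv_cancel_right]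

theorem EssData.op (D : EssData p E A B) (N : Subgroup A) (hN : N.Normal) (hNp : IsPGroup p N) :
    ∀ n ∈ N, ∃ e ∈ E, (n : MulAut E) = MulAut.conjNormal (H := E) e := by
  intro n hn
  refine D.radical (N.map A.subtype) (Subgroup.map_subtype_le _) ?_ (hNp.map _) n ⟨n, hn, rfl⟩
  rintro α hα _ ⟨m, hm, rfl⟩
  exact ⟨⟨α, hα⟩ * m * (⟨α, hα⟩ : A)⁻¹, hN.conj_mem m hm ⟨α, hα⟩, rfl⟩

theorem EssData.rdata (D : EssData p E A B) (hS : IsPGroup p S) (h2 : p ≠ 2) (hR : Rk p S) {y : S} (hy : y ∉ E) :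
    RData p (rho hS A) (QA A) ⟨MulAut.conjNormal (H := E) y, D.conjA y⟩ := by
  refine ⟨?_, ?_, h2, rho_ker hS, ?_, ?_, ?_, ?_, ?_, ?_⟩
  · intro q
    obtain ⟨e, rfl⟩ := mkV_surj hS E q
    rw [← map_pow, mkV_one]
    exact pow_mem_Fr hS e.2
  · rw [card_FV]
    exact hR _ _ (Fr_le E) (fun a ha b hb => comm_mem_Fr hS ha hb) (fun a ha => pow_mem_Fr hS ha)
  · rintro ⟨⟨q, hq⟩, hq'⟩
    obtain ⟨s, hs⟩ := hq'
    obtain ⟨k, hk⟩ := hS s
    refine ⟨k, ?_⟩
    apply Subtype.ext
    apply Subtype.ext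
    show q ^ p ^ k = 1
    have h1 : MulAut.conjNormal (H := E) s = q := hs
    rw [← h1, ← map_pow, hk, map_one]
  · intro R hRp hQR
    have h1 := D.sylow (R.map A.subtype) (Subgroup.map_subtype_le _) (hRp.map _) (by
      rintro _ ⟨s, rfl⟩
      exact ⟨⟨_, D.conjA s⟩, hQR (show (⟨_, D.conjA s⟩ : A) ∈ QA A from ⟨s, rfl⟩), rfl⟩)
    refine le_antisymm (fun z hz => ?_) hQR
    rw [Subgroup.mem_subgroupOf, ← h1]
    exact ⟨z, hz, rfl⟩
  · exact ⟨y, rfl⟩
  · rintro ⟨q, hq⟩ ⟨s, hs⟩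
    obtain ⟨n, e, he, hse⟩ := D.exists_zpow hy s
    refine ⟨n, ?_⟩
    have h1 : MulAut.conjNormal (H := E) s = q := hs
    show actV hS E q = (actV hS E (MulAut.conjNormal (H := E) y)) ^ n
    rw [← h1, hse, map_mul, map_mul, inner_triv hS he, mul_one, map_zpow, map_zpow]
  · intro h1
    have h3 := D.op (rho hS A).ker inferInstance (rho_ker hS) _ (show _ ∈ (rho hS A).ker from h1)
    obtain ⟨e, he, h4⟩ := h3
    have h5 := D.conj_eq h4
    apply hy
    have h6 := E.mul_mem he (E.inv_mem h5)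
    have e1 : e * (y⁻¹ * e)⁻¹ = y := by group
    rwa [e1] at h6
  · intro N hN hNp n hn
    obtain ⟨e, he, h4⟩ := D.op N hN hNp n hn
    show actV hS E (n : MulAut E) = 1
    rw [h4]
    exact inner_triv hS he

/-- the elements of the normal closure act trivially on invariant sections centralised by `S` -/
theorem EssData.closure_triv (D : EssData p E A B) {M N : Subgroup S} (hM : Inv A M) (hN : Inv A N) (hc : ∀ m ∈ M, ∀ s, ⁅m, s⁆ ∈ N)
    {a : A} (ha : a ∈ Subgroup.normalClosure (QA A : Set A)) (m : E) (hm : (m : S) ∈ M) :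
    (((m⁻¹ : E) * (a : MulAut E) m : E) : S) ∈ N := by
  have hNn : N.Normal := hN.normal D
  let T : Subgroup A :=
    { carrier := {a | ∀ m : E, (m : S) ∈ M → (((m⁻¹ : E) * (a : MulAut E) m : E) : S) ∈ N}
      mul_mem' := by
        intro a b ha hb m hm
        have h1 := hb m hm
        have h2 : ((((b : MulAut E) m : E)) : S) ∈ M := hM.inv _ b.2 m hm
        have h3 := ha _ h2
        have e : (m⁻¹ : E) * ((a * b : A) : MulAut E) m = (m⁻¹ * (b : MulAut E) m) * (((b : MulAut E) m)⁻¹ * (a : MulAut E) ((b : MulAut E) m)) := by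
          rw [Subgroup.coe_mul, MulAut.mul_apply]
          group
        rw [e, Subgroup.coe_mul]
        exact N.mul_mem h1 h3
      one_mem' := by
        intro m hm
        have e : (m⁻¹ : E) * ((1 : A) : MulAut E) m = 1 := by
          rw [Subgroup.coe_one, MulAut.one_apply, inv_mul_cancel]
        rw [e]
        exact N.one_mem
      inv_mem' := by
        intro a ha m hm
        have h2 : (((((a⁻¹ : A) : MulAut E) m : E)) : S) ∈ M := hM.inv _ (a⁻¹).2 m hm
        have h3 := ha _ h2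
        have e : (m⁻¹ : E) * ((a⁻¹ : A) : MulAut E) m = ((((a⁻¹ : A) : MulAut E) m)⁻¹ * (a : MulAut E) (((a⁻¹ : A) : MulAut E) m))⁻¹ := by
          rw [Subgroup.coe_inv, MulAut.apply_inv_self]
          group
        rw [e, Subgroup.coe_inv]
        exact N.inv_mem h3 }
  have hT : T.Normal := by
    refine ⟨fun t ht a m hm => ?_⟩
    have h2 : (((((a⁻¹ : A) : MulAut E) m : E)) : S) ∈ M := hM.inv _ (a⁻¹).2 m hm
    have h3 := hN.inv _ a.2 _ (ht _ h2)
    have e : (a : MulAut E) ((((a⁻¹ : A) : MulAut E) m)⁻¹ * (t : MulAut E) (((a⁻¹ : A) : MulAut E) m)) = m⁻¹ * ((a * t * a⁻¹ : A) : MulAut E) m := by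
      rw [map_mul, map_inv, Subgroup.coe_mul, Subgroup.coe_mul, Subgroup.coe_inv, MulAut.apply_inv_self, MulAut.mul_apply, MulAut.mul_apply]
    rw [e] at h3
    exact h3
  have hQ : QA A ≤ T := by
    rintro ⟨q, hq⟩ ⟨s, hs⟩ m hm
    have h1 : MulAut.conjNormal (H := E) s = q := hs
    show (((m⁻¹ : E) * q m : E) : S) ∈ N
    rw [← h1, Subgroup.coe_mul, MulAut.conjNormal_apply, Subgroup.coe_inv]
    have h3 := hNn.conj_mem _ (N.inv_mem (hc m hm s)) ((m : S)⁻¹)
    have e : (m : S)⁻¹ * (⁅(m : S), s⁆)⁻¹ * ((m : S)⁻¹)⁻¹ = (m : S)⁻¹ * (s * m * s⁻¹) := by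
      rw [commutatorElement_def]
      group
    rwa [e] at h3
  exact Subgroup.normalClosure_le_normal hQ ha m hm

end data

end Cfsg.Agent.H767.TE
end

-- part: H767/TETypes
section
/-!
# The two types of maximal subgroups (helper767)
-/

set_option autoImplicit false
set_option linter.unusedSectionVars false
set_option linter.unusedVariables false

namespace Cfsg.Agent.H767.TE

open Subgroup
open scoped commutatorElement

variable {S : Type*} [Group S] [Finite S] {p : ℕ} [hp : Fact p.Prime]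

section data

variable {E : Subgroup S} [hE : E.Normal] {A : Subgroup (MulAut E)} {B : Subgroup (MulAut S)}

/-- The natural type -/
structure NT (p : ℕ) (E : Subgroup S) (A : Subgroup (MulAut E)) (B : Subgroup (MulAut S)) (K W : Subgroup S)
    (τ : MulAut S) : Prop where
  invK : Inv A K
  invW : Inv A W
  frK : Fr E ≤ K
  frW : Fr E ≤ W
  inf : K ⊓ W = Fr E
  sup : K ⊔ W = E
  idx : K.relIndex E = p ^ 2
  idxK : (Fr E).relIndex K ∣ p
  irr : ∀ U, Inv A U → K ≤ U → U = K ∨ U = E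
  irrW : ∀ U, Inv A U → Fr E ≤ U → U ≤ W → U = Fr E ∨ U = W
  mem : τ ∈ B
  sq : ∀ s, τ (τ s) = s
  quo : ∀ s, s⁻¹ * τ s ∈ E
  neg : ∀ w ∈ W, τ w * w ∈ Fr E
  pos : ∀ k ∈ K, k⁻¹ * τ k ∈ Fr E
  triv : ∀ M N, Inv A M → Inv A N → (∀ m ∈ M, ∀ s, ⁅m, s⁆ ∈ N) → ∀ m ∈ M, m⁻¹ * τ m ∈ N
  comm : ∀ α ∈ A, ∃ e ∈ E, ∀ x x' : E, (x' : S) = τ x → ((α x' : E) : S) = e * τ (α x : E) * e⁻¹

/-- The regular type -/
structure RT (p : ℕ) (E : Subgroup S) (A : Subgroup (MulAut E)) : Prop where
  idx : (Fr E).relIndex E = p ^ 3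
  irr : ∀ U, Inv A U → Fr E ≤ U → U ≤ E → U = Fr E ∨ U = E
  reg : ∀ y ∉ E, ∃ e ∈ E, ⁅y, ⁅y, e⁆⁆ ∉ Fr E

theorem mkV_comm {hS : IsPGroup p S} (y : S) (e : E) :
    dl (actV hS E (MulAut.conjNormal (H := E) y)) (mkV hS E e) = mkV hS E (MulAut.conjNormal (H := E) y e * e⁻¹) := by
  rw [dl_apply, actV_mk, map_mul, map_inv]

theorem mkV_comm2 {hS : IsPGroup p S} (y : S) (e : E) :
    actV hS E (MulAut.conjNormal (H := E) y) (dl (actV hS E (MulAut.conjNormal (H := E) y)) (mkV hS E e)) =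
      dl (actV hS E (MulAut.conjNormal (H := E) y)) (mkV hS E e) ↔ ⁅y, ⁅y, (e : S)⁆⁆ ∈ Fr E := by
  rw [mkV_comm, ← mul_inv_eq_one, ← dl_apply, mkV_comm, mkV_one]
  have e1 : ((MulAut.conjNormal (H := E) y (MulAut.conjNormal (H := E) y e * e⁻¹) * (MulAut.conjNormal (H := E) y e * e⁻¹)⁻¹ : E) : S)
      = ⁅y, ⁅y, (e : S)⁆⁆ := by
    rw [Subgroup.coe_mul, Subgroup.coe_inv, Subgroup.coe_mul, MulAut.conjNormal_apply, Subgroup.coe_mul, MulAut.conjNormal_apply,
      Subgroup.coe_inv, commutatorElement_def, commutatorElement_def]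
  rw [e1]

theorem inv_lift {hS : IsPGroup p S} {U : Subgroup (FV hS E)} (hU : ∀ x : A, ∀ v ∈ U, rho hS A x v ∈ U) : Inv A (lift U) := by
  refine ⟨lift_le U, fun α hα x hx => ?_⟩
  rw [mem_lift] at hx ⊢
  exact hU ⟨α, hα⟩ _ hx

theorem inv_down {hS : IsPGroup p S} {M : Subgroup S} (hM : Inv A M) (hF : Fr E ≤ M) :
    ∀ x : A, ∀ v ∈ down hS E M, rho hS A x v ∈ down hS E M := by
  rintro ⟨α, hα⟩ v hv
  obtain ⟨e, rfl⟩ := mkV_surj hS E v
  rw [mem_down hF] at hv
  exact (mem_down hF (α e)).2 (hM.inv α hα e hv)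

theorem down_inf {hS : IsPGroup p S} {M N : Subgroup S} (hM : Fr E ≤ M) (hN : Fr E ≤ N) :
    down hS E (M ⊓ N) = down hS E M ⊓ down hS E N := by
  ext q
  obtain ⟨e, rfl⟩ := mkV_surj hS E q
  rw [mem_down (le_inf hM hN), Subgroup.mem_inf, Subgroup.mem_inf, mem_down hM, mem_down hN]

/-- **The natural type.** -/
theorem EssData.nat (D : EssData p E A B) (hS : IsPGroup p S) (h2 : p ≠ 2) (hR : Rk p S) {y : S} (hy : y ∉ E)
    (hq : ∀ e ∈ E, ⁅y, ⁅y, e⁆⁆ ∈ Fr E) : ∃ (K W : Subgroup S) (τ : MulAut S), NT p E A B K W τ := by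
  have RD := D.rdata hS h2 hR hy
  have QD : QData p (rho hS A) (QA A) ⟨MulAut.conjNormal (H := E) y, D.conjA y⟩ :=
    ⟨RD.exp, RD.card, RD.odd, RD.ker, RD.pQ, RD.max, RD.gQ, RD.gen, RD.ne, by
      intro v
      obtain ⟨e, rfl⟩ := mkV_surj hS E v
      exact (mkV_comm2 y e).2 (hq e e.2)⟩
  obtain ⟨x, -, hx⟩ := RD.exists_conj
  obtain ⟨V0, V1, τ0, N⟩ := QD.main ⟨x, hx⟩
  have hV : ∀ v : FV hS E, ∃ v0 ∈ V0, ∃ v1 ∈ V1, v0 * v1 = v := by
    intro v
    have h1 : v ∈ V0 ⊔ V1 := by rw [N.sup]; exact mem_top v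
    exact Subgroup.mem_sup.1 h1
  have hcomm : ∀ a : A, rho hS A a * rho hS A τ0 = rho hS A τ0 * rho hS A a := by
    intro a
    ext v
    obtain ⟨v0, h0, v1, h1, rfl⟩ := hV v
    rw [MulAut.mul_apply, MulAut.mul_apply, map_mul, map_mul, map_mul, map_mul, N.neg v0 h0, N.pos v1 h1,
      N.neg _ (N.inv0 a v0 h0), N.pos _ (N.inv1 a v1 h1), map_inv]
  have hsq : rho hS A τ0 * rho hS A τ0 = 1 := by
    ext v
    obtain ⟨v0, h0, v1, h1, rfl⟩ := hV v
    rw [MulAut.mul_apply, map_mul, map_mul, N.neg v0 h0, N.pos v1 h1, N.pos v1 h1, map_inv, N.neg v0 h0, inv_inv, MulAut.one_apply]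
  have hinner : ∀ (a t : A), rho hS A t = rho hS A τ0 → ∃ e ∈ E,
      (a : MulAut E) * t * (a : MulAut E)⁻¹ * (t : MulAut E)⁻¹ = MulAut.conjNormal (H := E) e := by
    intro a t ht
    have h1 : a * t * a⁻¹ * t⁻¹ ∈ (rho hS A).ker := by
      rw [MonoidHom.mem_ker, map_mul, map_mul, map_mul, map_inv, map_inv, ht, hcomm]
      group
    obtain ⟨e, he, h3⟩ := D.op (rho hS A).ker inferInstance (rho_ker hS) _ h1
    exact ⟨e, he, h3⟩
  obtain ⟨β, hβ, hβE⟩ := D.ext τ0 τ0.2 (fun s => by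
    obtain ⟨e, he, h3⟩ := hinner ⟨_, D.conjA s⟩ τ0 rfl
    refine ⟨e⁻¹ * s, ?_⟩
    rw [map_mul, map_inv, ← h3]
    simp only [mul_inv_rev, inv_inv, mul_assoc, inv_mul_cancel, mul_one])
  have hβc : ∀ s, MulAut.conjNormal (H := E) (β s) = τ0 * MulAut.conjNormal (H := E) s * (τ0 : MulAut E)⁻¹ := by
    intro s
    ext x
    rw [MulAut.conjNormal_apply, MulAut.mul_apply, MulAut.mul_apply, ← hβE, MulAut.conjNormal_apply, map_mul, map_mul, map_inv,
      hβE, MulAut.apply_inv_self]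
  have hβq : ∀ s, s⁻¹ * β s ∈ E := by
    intro s
    obtain ⟨e, he, h3⟩ := hinner ⟨_, D.conjA s⟩ τ0 rfl
    have h4 : MulAut.conjNormal (H := E) (e⁻¹ * s) = MulAut.conjNormal (H := E) (β s) := by
      rw [hβc, map_mul, map_inv, ← h3]
      simp only [mul_inv_rev, inv_inv, mul_assoc, inv_mul_cancel, mul_one]
    have h5 := D.conj_eq h4
    have h6 := E.mul_mem (hE.conj_mem _ (E.inv_mem he) s⁻¹) h5
    have e1 : s⁻¹ * e⁻¹ * s⁻¹⁻¹ * ((e⁻¹ * s)⁻¹ * β s) = s⁻¹ * β s := by group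
    rwa [e1] at h6
  have hβn : ∀ (n : ℕ) (s : S), s⁻¹ * (β ^ n) s ∈ E := by
    intro n
    induction n with
    | zero => intro s; rw [pow_zero, MulAut.one_apply, inv_mul_cancel]; exact E.one_mem
    | succ n ih =>
      intro s
      have h6 := E.mul_mem (ih s) (hβq ((β ^ n) s))
      have e1 : s⁻¹ * (β ^ n) s * (((β ^ n) s)⁻¹ * β ((β ^ n) s)) = s⁻¹ * (β ^ (n + 1)) s := by
        rw [pow_succ', MulAut.mul_apply]
        group
      rwa [e1] at h6
  have hβnE : ∀ (n : ℕ) (e : E), (β ^ n) e = (((τ0 : MulAut E) ^ n) e : E) := by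
    intro n
    induction n with
    | zero => intro e; rfl
    | succ n ih =>
      intro e
      rw [pow_succ', MulAut.mul_apply, ih, hβE, pow_succ', MulAut.mul_apply]
  obtain ⟨k, hk⟩ : ∃ k, β ^ (2 * p ^ k) = 1 := by
    obtain ⟨k, m, hm, hkm⟩ := Nat.exists_eq_pow_mul_and_not_dvd (orderOf_pos (β ^ 2)).ne' p (Fact.out : p.Prime).ne_one
    refine ⟨k, ?_⟩
    have hγm : (β ^ (2 * p ^ k)) ^ m = 1 := by
      rw [← pow_mul, mul_assoc, ← hkm, pow_mul, pow_orderOf_eq_one]
    have hcop : Nat.Coprime m p := ((Nat.Prime.coprime_iff_not_dvd hp.out).2 hm).symm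
    have h1 : ((τ0 : MulAut E) ^ (2 * p ^ k)) = 1 := by
      apply Cfsg.Agent.H767.EssFrat.eq_one_of_mod_frattini (hS.to_subgroup E)
      · have h3 : orderOf ((τ0 : MulAut E) ^ (2 * p ^ k)) ∣ m := by
          apply orderOf_dvd_of_pow_eq_one
          ext e
          rw [← pow_mul, ← hβnE, pow_mul, hγm]
          rfl
        exact Nat.Coprime.coprime_dvd_left h3 hcop
      · intro x
        have h3 : actV hS E ((τ0 : MulAut E) ^ (2 * p ^ k)) = 1 := by
          have h4 : actV hS E (τ0 : MulAut E) * actV hS E (τ0 : MulAut E) = 1 := hsq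
          rw [map_pow, pow_mul, pow_two, h4, one_pow]
        have h5 : mkV hS E (((τ0 : MulAut E) ^ (2 * p ^ k)) x) = mkV hS E x := by
          rw [← actV_mk, h3, MulAut.one_apply]
        have h6 : mkV hS E (x⁻¹ * ((τ0 : MulAut E) ^ (2 * p ^ k)) x) = 1 := by
          rw [map_mul, map_inv, h5, inv_mul_cancel]
        exact mem_Fr.1 ((mkV_one _).1 h6)
    ext s
    rw [MulAut.one_apply]
    set γ := β ^ (2 * p ^ k) with hγ
    set n := s⁻¹ * γ s with hn
    have hnE : n ∈ E := hβn _ s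
    have hγn : γ n = n := by
      have := hβnE (2 * p ^ k) ⟨n, hnE⟩
      rw [h1] at this
      exact this
    have hγs : γ s = s * n := by rw [hn]; group
    have hj : ∀ j : ℕ, (γ ^ j) s = s * n ^ j := by
      intro j
      induction j with
      | zero => simp
      | succ j ih => rw [pow_succ', MulAut.mul_apply, ih, map_mul, map_pow, hγn, hγs, pow_succ', mul_assoc]
    have h3 := hj m
    rw [hγm, MulAut.one_apply] at h3
    have h4 : n ^ m = 1 := by
      have := congrArg (fun z => s⁻¹ * z) h3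
      simp only [inv_mul_cancel, inv_mul_cancel_left] at this
      exact this.symm
    have h5 : n = 1 := by
      obtain ⟨j, hj2⟩ := hS n
      have h6 : orderOf n ∣ Nat.gcd m (p ^ j) := Nat.dvd_gcd (orderOf_dvd_of_pow_eq_one h4) (orderOf_dvd_of_pow_eq_one hj2)
      rw [Nat.Coprime.gcd_eq_one (hcop.pow_right j)] at h6
      exact orderOf_eq_one_iff.1 (Nat.dvd_one.1 h6)
    rw [hγs, h5, mul_one]
  -- the involution
  set t : A := τ0 ^ p ^ k with ht
  have hodd : Odd (p ^ k) := Odd.pow (hp.out.odd_of_ne_two h2)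
  have hρt : rho hS A t = rho hS A τ0 := by
    obtain ⟨j, hj⟩ := hodd
    rw [ht, hj, map_pow, pow_succ, pow_mul, pow_two, hsq, one_pow, one_mul]
  have htn : t ∈ Subgroup.normalClosure (QA A : Set A) := by
    rw [ht]
    exact pow_mem N.mem _
  have hτE : ∀ e : E, (β ^ p ^ k) e = (((t : MulAut E)) e : E) := by
    intro e
    rw [hβnE, ht, Subgroup.coe_pow]
  have hτV : ∀ e : E, mkV hS E ((t : MulAut E) e) = rho hS A τ0 (mkV hS E e) := by
    intro e
    rw [← hρt]
    rfl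
  have hcard : V1.index = p ^ 2 := by
    have h1 : V1.relIndex (V0 ⊔ V1) = V1.relIndex V0 := Subgroup.relIndex_sup_right V0 V1
    rw [N.sup, Subgroup.relIndex_top_right, ← Subgroup.inf_relIndex_right, inf_comm, N.inf, Subgroup.relIndex_bot_left, N.card] at h1
    exact h1
  have hVe : ∀ v : FV hS E, v ^ p = 1 := QD.exp
  have hcard1 : Nat.card V1 ∣ p := by
    apply card_dvd_of_le hVe
    have h1 := V1.card_mul_index
    rw [hcard] at h1
    have h3 := QD.card
    rw [← h1] at h3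
    have h4 : Nat.card V1 * p ^ 2 ≤ p * p ^ 2 := by
      calc Nat.card V1 * p ^ 2 ≤ p ^ 3 := h3
        _ = p * p ^ 2 := by ring
    exact Nat.le_of_mul_le_mul_right h4 (pow_pos hp.out.pos 2)
  refine ⟨lift V1, lift V0, β ^ p ^ k, ?_⟩
  have iK : Inv A (lift V1) := inv_lift N.inv1
  have iW : Inv A (lift V0) := inv_lift N.inv0
  have hKn : (lift V1).Normal := iK.normal D
  have hWn : (lift V0).Normal := iW.normal D
  refine ⟨iK, iW, Fr_le_lift _, Fr_le_lift _, ?_, ?_, ?_, ?_, ?_, ?_, pow_mem hβ _, ?_, ?_, ?_, ?_, ?_, ?_⟩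
  · rw [← lift_inf, inf_comm, N.inf, lift_bot]
  · rw [← lift_sup, sup_comm, N.sup, lift_top]
  · have h1 := lift_relIndex V1 (⊤ : Subgroup (FV hS E))
    rw [lift_top, Subgroup.relIndex_top_right, hcard] at h1
    exact h1
  · have h1 := lift_relIndex (⊥ : Subgroup (FV hS E)) V1
    rw [lift_bot, Subgroup.relIndex_bot_left] at h1
    rw [h1]
    exact hcard1
  · intro U hU hKU
    have hFU : Fr E ≤ U := (Fr_le_lift V1).trans hKU
    have hFW : Fr E ≤ U ⊓ lift V0 := le_inf hFU (Fr_le_lift _)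
    rcases N.irr (down hS E (U ⊓ lift V0)) (by
      intro v hv
      obtain ⟨e, rfl⟩ := mkV_surj hS E v
      rw [mem_down hFW] at hv
      exact (mem_lift e).1 hv.2) (inv_down (hU.inf iW) hFW) with h | h
    · left
      have h3 : U ⊓ lift V0 = Fr E := by
        have := lift_down (hS := hS) hFW (inf_le_left.trans hU.le)
        rw [← this, h, lift_bot]
      apply le_antisymm _ hKU
      intro u hu
      have h4 : u ∈ lift V1 ⊔ lift V0 := by
        rw [← lift_sup, sup_comm, N.sup, lift_top]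
        exact hU.le hu
      obtain ⟨a, ha, b, hb, rfl⟩ := Subgroup.mem_sup_of_normal_left.1 h4
      have hb' : b ∈ U ⊓ lift V0 := by
        refine ⟨?_, hb⟩
        have := U.mul_mem (U.inv_mem (hKU ha)) hu
        rwa [inv_mul_cancel_left] at this
      rw [h3] at hb'
      exact (lift V1).mul_mem ha (Fr_le_lift V1 hb')
    · right
      apply le_antisymm hU.le
      have h3 : lift V0 ≤ U := by
        have := lift_down (hS := hS) hFW (inf_le_left.trans hU.le)
        rw [h] at this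
        rw [this]
        exact inf_le_left
      rw [← lift_top (hS := hS) (E := E), ← N.sup, lift_sup]
      exact sup_le h3 hKU
  · intro U hU hFU hUW
    rcases N.irr (down hS E U) (by
      intro v hv
      obtain ⟨e, rfl⟩ := mkV_surj hS E v
      rw [mem_down hFU] at hv
      exact (mem_lift e).1 (hUW hv)) (inv_down hU hFU) with h | h
    · left
      rw [← lift_down (hS := hS) hFU hU.le, h, lift_bot]
    · right
      rw [← lift_down (hS := hS) hFU hU.le, h]
  · intro s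
    rw [← MulAut.mul_apply, ← pow_add, ← two_mul, hk, MulAut.one_apply]
  · exact hβn _
  · intro w hw
    have hwE := lift_le _ hw
    have h1 := (mem_lift (U := V0) ⟨w, hwE⟩).1 hw
    have h3 := hτE ⟨w, hwE⟩
    simp only at h3
    rw [h3]
    have h4 : mkV hS E ((t : MulAut E) ⟨w, hwE⟩ * ⟨w, hwE⟩) = 1 := by
      rw [map_mul, hτV, N.neg _ h1, inv_mul_cancel]
    exact (mkV_one _).1 h4
  · intro w hw
    have hwE := lift_le _ hw
    have h1 := (mem_lift (U := V1) ⟨w, hwE⟩).1 hw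
    have h3 := hτE ⟨w, hwE⟩
    simp only at h3
    rw [h3]
    have h4 : mkV hS E ((⟨w, hwE⟩ : E)⁻¹ * (t : MulAut E) ⟨w, hwE⟩) = 1 := by
      rw [map_mul, hτV, N.pos _ h1, map_inv, inv_mul_cancel]
    exact (mkV_one _).1 h4
  · intro M N' hM hN' hc m hm
    have h1 := D.closure_triv hM hN' hc htn ⟨m, hM.le hm⟩ hm
    have h3 := hτE ⟨m, hM.le hm⟩
    simp only at h3
    rw [h3]
    exact h1
  · intro α hα
    obtain ⟨e, he, h3⟩ := hinner ⟨α, hα⟩ t hρt
    refine ⟨e, he, fun x x' hx' => ?_⟩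
    have h4 : x' = (t : MulAut E) x := by
      apply Subtype.ext
      rw [hx', hτE]
    have h5 : α * (t : MulAut E) = MulAut.conjNormal (H := E) e * (t : MulAut E) * α := by
      rw [← h3]
      simp only [mul_assoc, inv_mul_cancel, mul_one]
    rw [h4, ← MulAut.mul_apply, h5, MulAut.mul_apply, MulAut.mul_apply, MulAut.conjNormal_apply, hτE]

/-- **The regular type.** -/
theorem EssData.regular (D : EssData p E A B) (hS : IsPGroup p S) (h2 : p ≠ 2) (hR : Rk p S) {y : S} (hy : y ∉ E)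
    (hq : ¬ ∀ e ∈ E, ⁅y, ⁅y, e⁆⁆ ∈ Fr E) : RT p E A := by
  have RD := D.rdata hS h2 hR hy
  have hreg : ∀ y' : S, (∃ e ∈ E, ⁅y', ⁅y', e⁆⁆ ∉ Fr E) ↔
      ∃ v, actV hS E (MulAut.conjNormal (H := E) y') (dl (actV hS E (MulAut.conjNormal (H := E) y')) v) ≠
        dl (actV hS E (MulAut.conjNormal (H := E) y')) v := by
    intro y'
    constructor
    · rintro ⟨e, he, h⟩
      exact ⟨mkV hS E ⟨e, he⟩, fun h' => h ((mkV_comm2 y' ⟨e, he⟩).1 h')⟩
    · rintro ⟨v, hv⟩
      obtain ⟨e, rfl⟩ := mkV_surj hS E v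
      exact ⟨e, e.2, fun h' => hv ((mkV_comm2 y' e).2 h')⟩
  push Not at hq
  have hyr := (hreg y).1 hq
  refine ⟨?_, ?_, ?_⟩
  · rw [← card_FV hS]
    have hpV : IsPGroup p (FV hS E) := isPGroup_of_exp RD.exp
    obtain ⟨k, hk⟩ := IsPGroup.iff_card.1 hpV
    have h1 := RD.card
    rw [hk] at h1 ⊢
    have h3 : k ≤ 3 := (Nat.pow_le_pow_iff_right hp.out.one_lt).1 h1
    rcases h3.lt_or_eq with h4 | h4
    · exfalso
      obtain ⟨v, hv⟩ := hyr
      obtain ⟨j, hj⟩ := RD.gpow
      have hj' : (actV hS E (MulAut.conjNormal (H := E) y)) ^ p ^ j = 1 := hj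
      exact hv (quad_of_card_le RD.exp _ hj' ⊤ (fun _ _ => mem_top _)
        (by rw [Subgroup.card_top, hk]; exact Nat.pow_le_pow_right hp.out.pos (by omega)) v (mem_top v))
    · rw [h4]
  · intro U hU hFU hUE
    rcases RD.irr hyr (down hS E U) (inv_down hU hFU) with h | h
    · left
      rw [← lift_down (hS := hS) hFU hUE, h, lift_bot]
    · right
      rw [← lift_down (hS := hS) hFU hUE, h, lift_top]
  · intro y' hy'
    rw [hreg]
    by_contra hcon
    push Not at hcon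
    obtain ⟨v, hv⟩ := hyr
    apply hv
    obtain ⟨n, e, he, hne⟩ := D.exists_zpow hy' y
    have h1 : actV hS E (MulAut.conjNormal (H := E) y) = (actV hS E (MulAut.conjNormal (H := E) y')) ^ n := by
      rw [hne, map_mul, map_mul, inner_triv hS he, mul_one, map_zpow, map_zpow]
    have h3 := zpow_apply (actV hS E (MulAut.conjNormal (H := E) y')) (apply_eq _ v) (hcon v) n
    have h4 : dl (actV hS E (MulAut.conjNormal (H := E) y)) v = (dl (actV hS E (MulAut.conjNormal (H := E) y')) v) ^ n := by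
      rw [dl_apply, h1, h3, mul_comm v, mul_inv_cancel_right]
    rw [h4, h1, map_zpow]
    have h5 := zpow_apply (actV hS E (MulAut.conjNormal (H := E) y')) (v := dl (actV hS E (MulAut.conjNormal (H := E) y')) v) (a := 1)
      (by rw [mul_one]; exact hcon v) (map_one _) n
    rw [one_zpow, mul_one] at h5
    rw [h5]

end data

end Cfsg.Agent.H767.TE
end
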