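import Cfsg.Agent.H767.TEReg
import Cfsg.Agent.H765.Sec
import Cfsg.Agent.PLocal.QdSection
import Cfsg.Agent.Lib.PGroupFixedVector
import Cfsg.Agent.H767.TETypes
import Cfsg.Agent.H767.TEElimW
import Cfsg.Agent.H30.SlFree
import Cfsg.Agent.H40.ZJFunctor
import Cfsg.Agent.S0664
import Cfsg.Agent.Lib.Involves
import Cfsg.Prelude.Def_FusionSystem
import Cfsg.Agent.H802.FusNorm
import Cfsg.Agent.H802.FusEss
import Cfsg.Agent.H765.Ess
import Cfsg.Prelude.Def_CaseTheorems
import Cfsg.Agent.H771.ModelUnique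
import Cfsg.Agent.H782.NormSys
import Cfsg.Agent.H781.NormSys
set_option linter.all false

-- part: H767/TESL
section
/-!
# Regular unipotent elements and sections `SL₂(p)` (helper767)
-/

set_option autoImplicit false
set_option linter.unusedSectionVars false
set_option linter.unusedVariables false

namespace Cfsg.Agent.H767.TE

open Subgroup
open scoped Matrix
open Cfsg.Agent.PLocal.QdSection (S2)
open scoped commutatorElement

section SL2

variable {p : ℕ} [hp : Fact p.Prime]

/-- upper unitriangular elements -/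
def up (p : ℕ) : S2 p := ⟨!![1, 1; 0, 1], by simp [Matrix.det_fin_two]⟩

/-- lower unitriangular elements -/
def lo (p : ℕ) : S2 p := ⟨!![1, 0; 1, 1], by simp [Matrix.det_fin_two]⟩

theorem up_pow (n : ℕ) : ((up p ^ n : S2 p) : Matrix (Fin 2) (Fin 2) (ZMod p)) = !![1, (n : ZMod p); 0, 1] := by
  induction n with
  | zero =>
    ext i j
    fin_cases i <;> fin_cases j <;> simp
  | succ n ih =>
    rw [pow_succ, Matrix.SpecialLinearGroup.coe_mul, ih]
    ext i j
    fin_cases i <;> fin_cases j <;> simp [up, Matrix.mul_apply, Fin.sum_univ_two, add_comm]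

theorem lo_pow (n : ℕ) : ((lo p ^ n : S2 p) : Matrix (Fin 2) (Fin 2) (ZMod p)) = !![1, 0; (n : ZMod p), 1] := by
  induction n with
  | zero =>
    ext i j
    fin_cases i <;> fin_cases j <;> simp
  | succ n ih =>
    rw [pow_succ, Matrix.SpecialLinearGroup.coe_mul, ih]
    ext i j
    fin_cases i <;> fin_cases j <;> simp [lo, Matrix.mul_apply, Fin.sum_univ_two, add_comm]

theorem up_p : up p ^ p = 1 := by
  apply Subtype.ext
  rw [up_pow]
  ext i j
  fin_cases i <;> fin_cases j <;> simp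

theorem lo_p : lo p ^ p = 1 := by
  apply Subtype.ext
  rw [lo_pow]
  ext i j
  fin_cases i <;> fin_cases j <;> simp

theorem up_ne : up p ≠ 1 := by
  intro h
  have h1 := congrArg (fun A : S2 p => (A : Matrix (Fin 2) (Fin 2) (ZMod p)) 0 1) h
  simp [up] at h1

/-- the vectors fixed by a `p`-group normalised by ... -/
theorem exists_fix (P : Subgroup (S2 p)) (hP : IsPGroup p P) : ∃ v : Fin 2 → ZMod p, v ≠ 0 ∧
    ∀ A ∈ P, (A : Matrix (Fin 2) (Fin 2) (ZMod p)).mulVec v = v := by
  let _ : MulAction P (Fin 2 → ZMod p) :=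
    { smul := fun A v => ((A : S2 p) : Matrix (Fin 2) (Fin 2) (ZMod p)).mulVec v
      one_smul := fun v => by
        show (((1 : P) : S2 p) : Matrix (Fin 2) (Fin 2) (ZMod p)).mulVec v = v
        simp
      mul_smul := fun A B v => by
        show (((A * B : P) : S2 p) : Matrix (Fin 2) (Fin 2) (ZMod p)).mulVec v = _
        rw [Subgroup.coe_mul, Matrix.SpecialLinearGroup.coe_mul, ← Matrix.mulVec_mulVec]
        rfl }
  have hdvd : p ∣ Nat.card (Fin 2 → ZMod p) := by
    rw [Nat.card_fun, Nat.card_zmod, Nat.card_fin]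
    exact dvd_pow_self p (by norm_num)
  have h0 : (0 : Fin 2 → ZMod p) ∈ MulAction.fixedPoints P (Fin 2 → ZMod p) := fun A => by
    show ((A : S2 p) : Matrix (Fin 2) (Fin 2) (ZMod p)).mulVec 0 = 0
    simp
  obtain ⟨v, hv, hne⟩ := hP.exists_fixed_point_of_prime_dvd_card_of_fixed_point (Fin 2 → ZMod p) hdvd h0
  exact ⟨v, hne.symm, fun A hA => hv ⟨A, hA⟩⟩

theorem up_fix {v : Fin 2 → ZMod p} (h : (up p : Matrix (Fin 2) (Fin 2) (ZMod p)).mulVec v = v) : v 1 = 0 := by
  have h1 := congrFun h 0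
  simp [up, Matrix.mulVec, dotProduct, Fin.sum_univ_two] at h1
  exact h1

theorem lo_fix {v : Fin 2 → ZMod p} (h : (lo p : Matrix (Fin 2) (Fin 2) (ZMod p)).mulVec v = v) : v 0 = 0 := by
  have h1 := congrFun h 1
  simp [lo, Matrix.mulVec, dotProduct, Fin.sum_univ_two] at h1
  exact h1

/-- `SL₂(p)` has no nontrivial normal `p`-subgroup. -/
theorem normal_eq_bot (P : Subgroup (S2 p)) (hPn : P.Normal) (hP : IsPGroup p P) : P = ⊥ := by
  have key : ∀ u : S2 p, u ^ p = 1 → ∃ v : Fin 2 → ZMod p, v ≠ 0 ∧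
      (∀ A ∈ P, (A : Matrix (Fin 2) (Fin 2) (ZMod p)).mulVec v = v) ∧ (u : Matrix (Fin 2) (Fin 2) (ZMod p)).mulVec v = v := by
    intro u hu
    have hU : IsPGroup p (zpowers u) := by
      rintro ⟨_, n, rfl⟩
      refine ⟨1, Subtype.ext ?_⟩
      show (u ^ n) ^ p ^ 1 = 1
      rw [pow_one, ← zpow_natCast, ← _root_.zpow_mul, mul_comm, _root_.zpow_mul, zpow_natCast, hu, one_zpow]
    have hs : IsPGroup p (zpowers u ⊔ P : Subgroup (S2 p)) := hU.to_sup_of_normal_right hP
    obtain ⟨v, hv, hf⟩ := exists_fix _ hs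
    exact ⟨v, hv, fun A hA => hf A ((le_sup_right : P ≤ _) hA), hf u ((le_sup_left : zpowers u ≤ _) (mem_zpowers u))⟩
  obtain ⟨v, hv, hvP, hvu⟩ := key (up p) up_p
  obtain ⟨w, hw, hwP, hwl⟩ := key (lo p) lo_p
  have hv1 := up_fix hvu
  have hw0 := lo_fix hwl
  have hv0 : v 0 ≠ 0 := fun h => hv (by ext i; fin_cases i <;> simp [h, hv1])
  have hw1 : w 1 ≠ 0 := fun h => hw (by ext i; fin_cases i <;> simp [h, hw0])
  rw [eq_bot_iff]
  intro A hA
  rw [Subgroup.mem_bot]
  have e0 := congrFun (hvP A hA) 0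
  have e1 := congrFun (hvP A hA) 1
  have f0 := congrFun (hwP A hA) 0
  have f1 := congrFun (hwP A hA) 1
  simp only [Matrix.mulVec, dotProduct, Fin.sum_univ_two, hv1, hw0, mul_zero, add_zero, zero_add] at e0 e1 f0 f1
  have a00 : (A : Matrix (Fin 2) (Fin 2) (ZMod p)) 0 0 = 1 := mul_right_cancel₀ hv0 (by rw [one_mul]; exact e0)
  have a10 : (A : Matrix (Fin 2) (Fin 2) (ZMod p)) 1 0 = 0 := by
    rcases mul_eq_zero.1 e1 with h | h
    · exact h
    · exact (hv0 h).elim
  have a01 : (A : Matrix (Fin 2) (Fin 2) (ZMod p)) 0 1 = 0 := by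
    rcases mul_eq_zero.1 f0 with h | h
    · exact h
    · exact (hw1 h).elim
  have a11 : (A : Matrix (Fin 2) (Fin 2) (ZMod p)) 1 1 = 1 := mul_right_cancel₀ hw1 (by rw [one_mul]; exact f1)
  ext i j
  fin_cases i <;> fin_cases j <;> simp [a00, a01, a10, a11]

/-- `-1` is a commutator in `SL₂(p)` -/
theorem neg_one_comm (p : ℕ) [Fact p.Prime] : ∃ a b : S2 p, ⁅a, b⁆ = -1 := by
  obtain ⟨x, y, hxy⟩ := ZMod.sq_add_sq p (-1)
  let a : S2 p := ⟨!![0, 1; -1, 0], by simp [Matrix.det_fin_two]⟩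
  let b : S2 p := ⟨!![x, y; y, -x], by
    rw [Matrix.det_fin_two_of]
    linear_combination -hxy⟩
  refine ⟨a, b, ?_⟩
  have h1 : a * b = -1 * (b * a) := by
    apply Subtype.ext
    rw [Matrix.SpecialLinearGroup.coe_mul, Matrix.SpecialLinearGroup.coe_mul, Matrix.SpecialLinearGroup.coe_mul]
    show !![(0 : ZMod p), 1; -1, 0] * !![x, y; y, -x] = _ * (!![x, y; y, -x] * !![(0 : ZMod p), 1; -1, 0])
    ext i j
    fin_cases i <;> fin_cases j <;> simp [Matrix.mul_apply, Fin.sum_univ_two]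
  rw [commutatorElement_def, h1]
  group

theorem neg_one_ne (h2 : p ≠ 2) : (-1 : S2 p) ≠ 1 := by
  intro h
  have h1 := congrArg (fun A : S2 p => (A : Matrix (Fin 2) (Fin 2) (ZMod p)) 0 0) h
  simp at h1
  have : Fact (2 < p) := ⟨lt_of_le_of_ne hp.out.two_le (Ne.symm h2)⟩
  exact (ZMod.neg_one_ne_one (n := p)) h1

theorem dvd_card_S2 : p ∣ Nat.card (S2 p) := by
  have h1 : orderOf (up p) = p := orderOf_eq_prime up_p up_ne
  have h2 : orderOf (up p) ∣ Nat.card (S2 p) := orderOf_dvd_natCard _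
  rwa [h1] at h2

end SL2

section main

variable {X V : Type*} [Group X] [Finite X] [CommGroup V] [Finite V] {p : ℕ} [hp : Fact p.Prime]
variable {ρ : X →* MulAut V} {Q : Subgroup X} {g : X}

/-- unipotent elements of `GL₃` have order `p` -/
theorem pow_p_eq_one (hexp : ∀ v : V, v ^ p = 1) (hcard : Nat.card V ≤ p ^ 3) (h2 : p ≠ 2) (α : MulAut V) {k : ℕ}
    (hk : α ^ p ^ k = 1) : α ^ p = 1 := by
  by_cases hV : Nontrivial V
  · obtain ⟨z, hz, hz1, hfz⟩ := exists_fixed hexp α hk ⊤ (fun _ _ => mem_top _) (by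
      intro h
      have : Subsingleton V := (Subgroup.subsingleton_iff).1 ((subsingleton_iff_bot_eq_top).1 h.symm)
      exact not_subsingleton V this)
    have hU : Nat.card (dl α).range ≤ p ^ 2 := by
      have h1 := (dl α).ker.card_mul_index
      rw [Subgroup.index_ker] at h1
      have hzk : z ∈ (dl α).ker := by
        rw [MonoidHom.mem_ker, dl_apply, hfz, mul_inv_cancel]
      have h3 : p ≤ Nat.card (dl α).ker := by
        have h4 : orderOf z = p := orderOf_eq_prime (hexp z) hz1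
        rw [← h4]
        exact Nat.le_of_dvd Nat.card_pos (Subgroup.orderOf_dvd_natCard _ hzk)
      have h5 : p * Nat.card (dl α).range ≤ p * p ^ 2 := by
        calc p * Nat.card (dl α).range ≤ Nat.card (dl α).ker * Nat.card (dl α).range := Nat.mul_le_mul_right _ h3
          _ = Nat.card V := h1
          _ ≤ p ^ 3 := hcard
          _ = p * p ^ 2 := by ring
      exact Nat.le_of_mul_le_mul_left h5 hp.out.pos
    have hq := quad_of_card_le hexp α hk (dl α).range (by
      rintro _ ⟨v, rfl⟩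
      exact ⟨α v, by rw [dl_apply, dl_apply, map_mul, map_inv]⟩) hU
    ext v
    have e := pow_apply_choose α (v := v) (a := dl α v) (b := dl α (dl α v)) (apply_eq _ _) (apply_eq _ _)
      (hq _ ⟨v, rfl⟩) p
    have hdvd : p ∣ p.choose 2 := hp.out.dvd_choose_self (by norm_num) (lt_of_le_of_ne hp.out.two_le (Ne.symm h2))
    obtain ⟨m, hm⟩ := hdvd
    rw [hexp, mul_one, hm, pow_mul, hexp, one_pow, mul_one] at e
    exact e
  · ext v
    rw [not_nontrivial_iff_subsingleton] at hV
    exact Subsingleton.elim _ _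

/-- quadratic elements: powers -/
theorem quad_pow {α : MulAut V} (h : ∀ v, α (dl α v) = dl α v) (n : ℤ) : ∀ v, (α ^ n) (dl (α ^ n) v) = dl (α ^ n) v := by
  intro v
  have h1 := zpow_apply α (apply_eq _ v) (h v) n
  have h2 : dl (α ^ n) v = (dl α v) ^ n := by
    rw [dl_apply, h1, mul_comm v, mul_inv_cancel_right]
  rw [h2, map_zpow]
  have h5 := zpow_apply α (v := dl α v) (a := 1) (by rw [mul_one]; exact h v) (map_one _) n
  rw [one_zpow, mul_one] at h5
  rw [h5]

/-- An involution with determinant one is not `-1` on a group of order `p³`. -/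
theorem not_neg (hexp : ∀ v : V, v ^ p = 1) (hcard : Nat.card V = p ^ 3) (h2 : p ≠ 2) (H : Subgroup (MulAut V))
    (β : MulAut V) (hβ : β ∈ ⁅H, H⁆) (hneg : ∀ v, β v = v⁻¹) : False := by
  obtain ⟨i3, r, hr⟩ := Cfsg.Agent.H765.exists_rep_aux (A := Additive V) (p := p) (fun q => by
      apply Additive.toMul.injective
      exact hexp (Additive.toMul q))
    (fun x : MulAut V => MonoidHom.toAdditive (x : V ≃* V).toMonoidHom) (fun q => rfl) (fun x y q => rfl)
  have h1 : ∀ x ∈ ⁅H, H⁆, (LinearEquiv.det (r x)) = 1 := by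
    have h3 : ⁅H, H⁆ ≤ ((LinearEquiv.det (R := ZMod p) (M := Additive V)).comp r).ker := by
      rw [Subgroup.commutator_le]
      intro a _ b _
      rw [MonoidHom.mem_ker, map_commutatorElement, commutatorElement_eq_one_iff_mul_comm]
      exact mul_comm _ _
    intro x hx
    exact h3 hx
  have h3 := h1 β hβ
  have h4 : ((LinearEquiv.det (r β) : (ZMod p)ˣ) : ZMod p) = (-1) ^ Module.finrank (ZMod p) (Additive V) := by
    rw [LinearEquiv.coe_det]
    have h5 : ((r β : Additive V ≃ₗ[ZMod p] Additive V) : Additive V →ₗ[ZMod p] Additive V) = (-1 : ZMod p) • LinearMap.id := by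
      ext q
      show r β q = (-1 : ZMod p) • q
      rw [hr, neg_smul, one_smul]
      exact congrArg Additive.ofMul (hneg (Additive.toMul q))
    rw [h5, LinearMap.det_smul, LinearMap.det_id, mul_one]
  have h5 : Module.finrank (ZMod p) (Additive V) = 3 := by
    have h6 : Nat.card (Additive V) = Nat.card (ZMod p) ^ Module.finrank (ZMod p) (Additive V) := Module.natCard_eq_pow_finrank
    have h7 : Nat.card (Additive V) = p ^ 3 := hcard
    rw [h7, Nat.card_zmod] at h6
    exact (Nat.pow_right_injective hp.out.two_le h6).symm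
  rw [h3, h5, Units.val_one] at h4
  have : Fact (2 < p) := ⟨lt_of_le_of_ne hp.out.two_le (Ne.symm h2)⟩
  apply ZMod.neg_one_ne_one (n := p)
  have h6 : ((-1 : ZMod p)) ^ 3 = -1 := by norm_num
  rw [← h6, ← h4]

/-- **No `SL₂(p)`-section** in a group containing a regular unipotent element generating the Sylow `p`-subgroup. -/
theorem RData.no_SL2 (D : RData p ρ Q g) (hreg : ∃ v, ρ g (dl (ρ g) v) ≠ dl (ρ g) v) (M : Subgroup X) (π : M →* S2 p)
    (hπ : Function.Surjective π) : False := by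
  classical
  set α := ρ g with hα
  obtain ⟨k, hk⟩ := D.gpow
  have hαp : α ^ p = 1 := pow_p_eq_one D.exp D.card D.odd α hk
  have hαne : α ≠ 1 := D.ne
  -- the order of `V`
  have hcard : Nat.card V = p ^ 3 := by
    have hpV : IsPGroup p V := isPGroup_of_exp D.exp
    obtain ⟨k', hk'⟩ := IsPGroup.iff_card.1 hpV
    have h1 := D.card
    rw [hk'] at h1 ⊢
    have h3 : k' ≤ 3 := (Nat.pow_le_pow_iff_right hp.out.one_lt).1 h1
    rcases h3.lt_or_eq with h4 | h4
    · exfalso
      obtain ⟨v, hv⟩ := hreg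
      exact hv (quad_of_card_le D.exp α hk ⊤ (fun _ _ => mem_top _)
        (by rw [Subgroup.card_top, hk']; exact Nat.pow_le_pow_right hp.out.pos (by omega)) v (mem_top v))
    · rw [h4]
  -- the image of `M`
  let Y : M →* MulAut V := ρ.comp M.subtype
  have hYk : Y.ker ≤ π.ker := by
    have h1 : IsPGroup p Y.ker := by
      rintro ⟨⟨y, hyM⟩, hy⟩
      obtain ⟨j, hj⟩ := D.ker ⟨y, hy⟩
      refine ⟨j, ?_⟩
      apply Subtype.ext
      apply Subtype.ext
      have h3 : y ^ p ^ j = 1 := congrArg Subtype.val hj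
      exact h3
    have h3 : (Y.ker.map π).Normal := (inferInstance : Y.ker.Normal).map π hπ
    have h4 := normal_eq_bot _ h3 (h1.map π)
    rw [Subgroup.map_eq_bot_iff] at h4
    exact h4
  have hYs : Function.Surjective Y.rangeRestrict := Y.rangeRestrict_surjective
  have hYk' : Y.rangeRestrict.ker ≤ π.ker := by rwa [MonoidHom.ker_rangeRestrict]
  let π' : Y.range →* S2 p := Y.rangeRestrict.liftOfSurjective hYs ⟨π, hYk'⟩
  have hπ' : ∀ m : M, π' (Y.rangeRestrict m) = π m := fun m =>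
    MonoidHom.liftOfRightInverse_comp_apply _ _ _ ⟨π, hYk'⟩ m
  have hπ's : Function.Surjective π' := by
    intro A
    obtain ⟨m, rfl⟩ := hπ A
    exact ⟨Y.rangeRestrict m, hπ' m⟩
  -- the Sylow `p`-subgroup of `ρ(X)`
  have hQS : ∀ R : Subgroup X, IsPGroup p R → Q ≤ R → R = Q := D.max
  let QS : Sylow p X := ⟨Q, D.pQ, fun {R} hR hQR => hQS R hR hQR⟩
  have hρs : Function.Surjective ρ.rangeRestrict := ρ.rangeRestrict_surjective
  let PS : Sylow p ρ.range := QS.mapSurjective hρs
  have hPSmem : ∀ x ∈ (PS : Subgroup ρ.range), ∃ n : ℤ, (x : MulAut V) = α ^ n := by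
    rintro x ⟨q, hq, rfl⟩
    obtain ⟨n, hn⟩ := D.gen q hq
    exact ⟨n, hn⟩
  have hPScard : Nat.card (PS : Subgroup ρ.range) ≤ p := by
    have h1 : (PS : Subgroup ρ.range).map ρ.range.subtype ≤ zpowers α := by
      rintro _ ⟨x, hx, rfl⟩
      obtain ⟨n, hn⟩ := hPSmem x hx
      exact ⟨n, hn.symm⟩
    have h3 := Subgroup.card_le_of_le h1
    rw [Subgroup.card_map_of_injective ρ.range.subtype_injective, Nat.card_zpowers] at h3
    exact h3.trans (Nat.le_of_dvd hp.out.pos (orderOf_dvd_of_pow_eq_one hαp))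
  have hnsq : ¬ p ^ 2 ∣ Nat.card ρ.range := by
    intro h
    have h1 := PS.pow_dvd_card_of_pow_dvd_card h
    have h3 := Nat.le_of_dvd Nat.card_pos h1
    have h4 : p < p ^ 2 := by
      rw [pow_two]
      calc p = p * 1 := (mul_one p).symm
        _ < p * p := Nat.mul_lt_mul_of_pos_left hp.out.one_lt hp.out.pos
    omega
  have hYρ : Y.range ≤ ρ.range := by
    rintro _ ⟨m, rfl⟩
    exact ⟨m, rfl⟩
  have hcardY : Nat.card Y.range ∣ Nat.card ρ.range := by
    have h1 : Nat.card Y.range = Nat.card (Y.range.subgroupOf ρ.range) :=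
      Nat.card_congr (Subgroup.subgroupOfEquivOfLe hYρ).symm.toEquiv
    rw [h1]
    exact Subgroup.card_subgroup_dvd_card _
  have hNker : ¬ p ∣ Nat.card π'.ker := by
    intro h
    apply hnsq
    have h1 := π'.ker.card_mul_index
    have h3 : π'.ker.index = Nat.card (S2 p) := by
      rw [Subgroup.index_ker, MonoidHom.range_eq_top.2 hπ's, Subgroup.card_top]
    rw [h3] at h1
    have h4 : p ^ 2 ∣ Nat.card Y.range := by
      rw [← h1, pow_two]
      exact Nat.mul_dvd_mul h dvd_card_S2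
    exact h4.trans hcardY
  -- an element of order `p`
  have hdY : p ∣ Nat.card Y.range := by
    have h1 := π'.ker.card_mul_index
    have h3 : π'.ker.index = Nat.card (S2 p) := by
      rw [Subgroup.index_ker, MonoidHom.range_eq_top.2 hπ's, Subgroup.card_top]
    rw [h3] at h1
    rw [← h1]
    exact dvd_card_S2.mul_left _
  obtain ⟨γ, hγ⟩ := exists_prime_orderOf_dvd_card' p hdY
  have hγp : (γ : MulAut V) ^ p = 1 := by
    have := congrArg Subtype.val (hγ ▸ pow_orderOf_eq_one γ)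
    exact this
  have hγne : (γ : MulAut V) ≠ 1 := by
    intro h
    have h1 : γ = 1 := Subtype.ext h
    rw [h1, orderOf_one] at hγ
    exact hp.out.one_lt.ne hγ
  have hγnq : ¬ ∀ v, (γ : MulAut V) (dl (γ : MulAut V) v) = dl (γ : MulAut V) v := by
    intro hq
    -- conjugate into the Sylow subgroup
    have hzp : IsPGroup p (zpowers (⟨(γ : MulAut V), hYρ γ.2⟩ : ρ.range)) := by
      apply IsPGroup.of_card (n := 1)
      rw [Nat.card_zpowers, pow_one]
      apply orderOf_eq_prime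
      · exact Subtype.ext hγp
      · intro h
        exact hγne (congrArg Subtype.val h)
    obtain ⟨P', hP'⟩ := hzp.exists_le_sylow
    obtain ⟨c, hc⟩ := MulAction.exists_smul_eq ρ.range P' PS
    have h1 : c * ⟨(γ : MulAut V), hYρ γ.2⟩ * c⁻¹ ∈ (PS : Subgroup ρ.range) := by
      rw [← hc]
      exact Subgroup.smul_mem_pointwise_smul _ (MulAut.conj c) (P' : Subgroup ρ.range) (hP' (mem_zpowers _))
    obtain ⟨n, hn⟩ := hPSmem _ h1
    have hn' : (c : MulAut V) * (γ : MulAut V) * (c : MulAut V)⁻¹ = α ^ n := hn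
    -- `α ^ n` is quadratic
    have hqn : ∀ v, (α ^ n) (dl (α ^ n) v) = dl (α ^ n) v := by
      intro v
      rw [← hn']
      have e1 : ∀ w, dl ((c : MulAut V) * (γ : MulAut V) * (c : MulAut V)⁻¹) w = (c : MulAut V) (dl (γ : MulAut V) ((c : MulAut V)⁻¹ w)) := by
        intro w
        rw [dl_apply, dl_apply, MulAut.mul_apply, MulAut.mul_apply, map_mul, map_inv, MulAut.apply_inv_self]
      rw [e1, MulAut.mul_apply, MulAut.mul_apply, MulAut.inv_apply_self, hq]
    have hαn : α ^ n ≠ 1 := by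
      intro h
      rw [h] at hn'
      apply hγne
      have h3 : (γ : MulAut V) = (c : MulAut V)⁻¹ * ((c : MulAut V) * (γ : MulAut V) * (c : MulAut V)⁻¹) * (c : MulAut V) := by group
      rw [h3, hn', mul_one, inv_mul_cancel]
    -- `α` is a power of `α ^ n`
    have hαo : orderOf α = p := orderOf_eq_prime hαp hαne
    have h3 : zpowers (α ^ n) = zpowers α := by
      apply Subgroup.eq_of_le_of_card_ge (Subgroup.zpowers_le.2 (show α ^ n ∈ zpowers α from ⟨n, rfl⟩))
      rw [Nat.card_zpowers, Nat.card_zpowers, hαo]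
      have h4 : orderOf (α ^ n) = p := orderOf_eq_prime (by rw [← zpow_natCast, ← _root_.zpow_mul, mul_comm, _root_.zpow_mul, zpow_natCast, hαp, one_zpow]) hαn
      rw [h4]
    have h4 : α ∈ zpowers (α ^ n) := by rw [h3]; exact mem_zpowers α
    obtain ⟨m, hm⟩ := h4
    obtain ⟨v, hv⟩ := hreg
    apply hv
    have h5 := quad_pow hqn m v
    have hm' : (α ^ n) ^ m = α := hm
    rw [hm'] at h5
    exact h5
  -- an element above `-1` in the commutator subgroup, commuting with `γ`
  obtain ⟨a, b, hab⟩ := neg_one_comm p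
  obtain ⟨a', ha'⟩ := hπ's a
  obtain ⟨b', hb'⟩ := hπ's b
  set C : Subgroup Y.range := ⁅(⊤ : Subgroup Y.range), (⊤ : Subgroup Y.range)⁆ with hC
  have hCn : C.Normal := inferInstance
  let T : Set Y.range := {c | c ∈ C ∧ π' c = -1}
  let c0 : Y.range := ⁅a', b'⁆
  have hc0C : c0 ∈ C := Subgroup.commutator_mem_commutator (mem_top _) (mem_top _)
  have hc0π : π' c0 = -1 := by
    show π' ⁅a', b'⁆ = -1
    rw [map_commutatorElement, ha', hb', hab]
  have hTcard : Nat.card T = Nat.card (C ⊓ π'.ker : Subgroup Y.range) := by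
    refine Nat.card_congr
      { toFun := fun c => ⟨c0⁻¹ * c, C.mul_mem (C.inv_mem hc0C) c.2.1, by
          show π' (c0⁻¹ * (c : Y.range)) = 1
          rw [map_mul, map_inv, hc0π, c.2.2, inv_mul_cancel]⟩
        invFun := fun c => ⟨c0 * c, C.mul_mem hc0C c.2.1, by
          have h1 : π' (c : Y.range) = 1 := c.2.2
          rw [map_mul, hc0π, h1, mul_one]⟩
        left_inv := fun c => Subtype.ext (mul_inv_cancel_left _ _)
        right_inv := fun c => Subtype.ext (inv_mul_cancel_left _ _) }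
  have hTnd : ¬ p ∣ Nat.card T := by
    intro h
    rw [hTcard] at h
    apply hNker
    have h1 : Nat.card (C ⊓ π'.ker : Subgroup Y.range) ∣ Nat.card π'.ker := Subgroup.card_dvd_of_le inf_le_right
    exact h.trans h1
  have hneg : ∀ A : S2 p, A * (-1) * A⁻¹ = -1 := by
    intro A
    rw [mul_neg, mul_one, neg_mul, mul_inv_cancel]
  let act : MulAction (zpowers γ) T :=
    { smul := fun z c => ⟨z * c * (z : Y.range)⁻¹, hCn.conj_mem _ c.2.1 _, by
        rw [map_mul, map_mul, map_inv, c.2.2]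
        exact hneg _⟩
      one_smul := fun c => Subtype.ext (by
        show ((1 : zpowers γ) : Y.range) * c * ((1 : zpowers γ) : Y.range)⁻¹ = c
        rw [Subgroup.coe_one, one_mul, inv_one, mul_one])
      mul_smul := fun z w c => Subtype.ext (by
        show ((z * w : zpowers γ) : Y.range) * c * ((z * w : zpowers γ) : Y.range)⁻¹ = z * (w * c * (w : Y.range)⁻¹) * (z : Y.range)⁻¹
        rw [Subgroup.coe_mul]
        group) }
  have hzγ : IsPGroup p (zpowers γ) := by
    apply IsPGroup.of_card (n := 1)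
    rw [Nat.card_zpowers, pow_one, hγ]
  obtain ⟨u, hu⟩ := hzγ.nonempty_fixed_point_of_prime_not_dvd_card T hTnd
  have huγ : γ * (u : Y.range) * γ⁻¹ = u := congrArg Subtype.val (hu ⟨γ, mem_zpowers γ⟩)
  have huγ' : Commute γ (u : Y.range) := by
    have : γ * (u : Y.range) = u * γ := by
      calc γ * (u : Y.range) = (γ * u * γ⁻¹) * γ := by group
        _ = u * γ := by rw [huγ]
    exact this
  -- the involution
  have h2u : 2 ∣ orderOf (u : Y.range) := by
    have h1 : orderOf (π' (u : Y.range)) = 2 := by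
      rw [u.2.2]
      apply orderOf_eq_prime
      · rw [pow_two, neg_mul_neg, one_mul]
      · exact neg_one_ne D.odd
    rw [← h1]
    exact orderOf_map_dvd π' _
  obtain ⟨m, hm⟩ := h2u
  have hupos : 0 < orderOf (u : Y.range) := orderOf_pos _
  have hmpos : 0 < m := by
    rcases Nat.eq_zero_or_pos m with h | h
    · rw [hm, h] at hupos
      omega
    · exact h
  set β : MulAut V := ((u : Y.range) : MulAut V) ^ m with hβ
  have hβ2 : β * β = 1 := by
    have h1 : ((u : Y.range) : MulAut V) ^ orderOf (u : Y.range) = 1 := by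
      have := congrArg Subtype.val (pow_orderOf_eq_one (u : Y.range))
      exact this
    rw [hβ, ← pow_add, ← two_mul, ← hm, h1]
  have hβ1 : β ≠ 1 := by
    intro h
    have h1 : (u : Y.range) ^ m = 1 := Subtype.ext h
    have h3 := orderOf_dvd_of_pow_eq_one h1
    have h4 := Nat.le_of_dvd hmpos h3
    omega
  have hβγ : Commute (γ : MulAut V) β := by
    have h1 : Commute (γ : MulAut V) ((u : Y.range) : MulAut V) := congrArg Subtype.val huγ'.eq
    exact h1.pow_right m
  have hβC : β ∈ ⁅Y.range, Y.range⁆ := by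
    have h1 : C.map Y.range.subtype = ⁅Y.range, Y.range⁆ := by
      rw [hC, Subgroup.map_commutator]
      congr 1 <;> rw [← MonoidHom.range_eq_map, Subgroup.range_subtype]
    rw [← h1]
    exact ⟨(u : Y.range) ^ m, C.pow_mem u.2.1 m, rfl⟩
  have hββ : ∀ v, β (β v) = v := by
    intro v
    rw [← MulAut.mul_apply, hβ2, MulAut.one_apply]
  obtain ⟨w, hw⟩ : ∃ w, β w ≠ w := by
    by_contra hcon
    push Not at hcon
    exact hβ1 (by ext v; exact hcon v)
  have hinv : ∃ m', m' ≠ 1 ∧ β m' = m'⁻¹ := by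
    refine ⟨w⁻¹ * β w, ?_, ?_⟩
    · intro h
      exact hw (inv_mul_eq_one.1 h).symm
    · rw [map_mul, map_inv, hββ, mul_inv_rev, inv_inv, mul_comm]
  by_cases hfix : ∃ m', m' ≠ 1 ∧ β m' = m'
  · apply hγnq
    refine quad_of_commute D.exp D.odd D.card (γ : MulAut V) β (k := 1) (by rw [pow_one]; exact hγp) ?_ hββ hfix hinv
    intro v
    rw [← MulAut.mul_apply, ← MulAut.mul_apply, hβγ.eq]
  · push Not at hfix
    refine not_neg D.exp hcard D.odd Y.range β hβC ?_
    intro v
    have h1 : β (v * β v) = v * β v := by rw [map_mul, hββ, mul_comm]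
    by_contra hcon
    refine hfix (v * β v) ?_ h1
    intro h
    exact hcon (eq_inv_of_mul_eq_one_right h)

end main

end Cfsg.Agent.H767.TE
end

-- part: H767/TERR
section
/-!
# The regular/regular case (helper767)
-/

set_option autoImplicit false
set_option linter.unusedSectionVars false
set_option linter.unusedVariables false

namespace Cfsg.Agent.H767.TE

open Subgroup
open scoped commutatorElement

universe u

/-- a model of `(S, E, A)` -/
structure Mdl {S : Type u} [Group S] (p : ℕ) (E : Subgroup S) [E.Normal] (A : Subgroup (MulAut E)) {G : Type u} [Group G]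
    (ι : S →* G) : Prop where
  inj : Function.Injective ι
  syl : ∃ P : Sylow p G, (P : Subgroup G) = ι.range
  cent : ∀ g : G, (∀ e ∈ E, g * ι e = ι e * g) → ∃ e ∈ E, ι e = g
  act : ∀ g : G, ∃ α ∈ A, ∀ e : E, ι (α e : E) = g * ι e * g⁻¹
  surj : ∀ α ∈ A, ∃ g : G, ∀ e : E, ι (α e : E) = g * ι e * g⁻¹

variable {S : Type u} [Group S] [Finite S] {p : ℕ} [hp : Fact p.Prime]
variable {E : Subgroup S} [hE : E.Normal] {A : Subgroup (MulAut E)} {B : Subgroup (MulAut S)}
variable {G : Type u} [Group G] {ι : S →* G}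

theorem Mdl.normal_of_inv (M : Mdl p E A ι) {T : Subgroup S} (hT : Inv A T) : (T.map ι).Normal := by
  refine ⟨?_⟩
  rintro _ ⟨t, ht, rfl⟩ g
  obtain ⟨α, hα, h⟩ := M.act g
  refine ⟨(α ⟨t, hT.le ht⟩ : E), hT.inv α hα _ ht, ?_⟩
  exact h ⟨t, hT.le ht⟩

theorem Mdl.unique (M : Mdl p E A ι) {α β : MulAut E} {g : G} (h : ∀ e : E, ι (α e : E) = g * ι e * g⁻¹)
    (h' : ∀ e : E, ι (β e : E) = g * ι e * g⁻¹) : α = β := by
  ext e
  exact M.inj ((h e).trans (h' e).symm)

/-- the action homomorphism -/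
theorem Mdl.exists_hom (M : Mdl p E A ι) : ∃ ψ : G →* A, ∀ (g : G) (e : E), ι ((ψ g : MulAut E) e : E) = g * ι e * g⁻¹ := by
  choose f hf hf' using M.act
  refine ⟨MonoidHom.mk' (fun g => ⟨f g, hf g⟩) ?_, fun g e => hf' g e⟩
  intro g h
  apply Subtype.ext
  show f (g * h) = f g * f h
  apply M.unique (hf' (g * h))
  intro e
  show ι ((f g (f h e) : E)) = _
  rw [hf', hf']
  group

theorem Mdl.le_and_inv (M : Mdl p E A ι) (D : EssData p E A B) (hS : IsPGroup p S) {R : Subgroup S} (hR : (R.map ι).Normal) :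
    R ≤ E ∧ Inv A R := by
  have hconj : ∀ (r : S) (e : E), ι (MulAut.conjNormal (H := E) r e : E) = ι r * ι e * (ι r)⁻¹ := by
    intro r e
    rw [MulAut.conjNormal_apply, map_mul, map_mul, map_inv]
  have hRE : R ≤ E := by
    intro r hr
    have h1 := D.radical (R.map (MulAut.conjNormal (H := E))) (by
      rintro _ ⟨r, hr, rfl⟩
      exact D.conjA r) (by
      rintro α hα _ ⟨r, hr, rfl⟩
      obtain ⟨g, hg⟩ := M.surj α hα
      obtain ⟨r', hr', h⟩ := hR.conj_mem _ ⟨r, hr, rfl⟩ g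
      refine ⟨r', hr', ?_⟩
      apply M.unique (g := ι r') (hconj r')
      intro e
      rw [MulAut.mul_apply, MulAut.mul_apply, hg, hconj, h]
      have h3 : ι (α⁻¹ e : E) = g⁻¹ * ι e * g := by
        have h4 := hg (α⁻¹ e)
        rw [MulAut.apply_inv_self] at h4
        rw [h4]
        group
      rw [h3]
      group) ((hS.to_subgroup R).map _) _ ⟨r, hr, rfl⟩
    obtain ⟨e, he, h⟩ := h1
    have h5 := D.conj_eq h
    have h6 := E.mul_mem he (E.inv_mem h5)
    have e1 : e * (r⁻¹ * e)⁻¹ = r := by group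
    rwa [e1] at h6
  refine ⟨hRE, hRE, ?_⟩
  intro α hα x hx
  obtain ⟨g, hg⟩ := M.surj α hα
  obtain ⟨r', hr', h⟩ := hR.conj_mem _ ⟨x, hx, rfl⟩ g
  rw [← hg] at h
  rw [← M.inj h]
  exact hr'

theorem Mdl.finite (M : Mdl p E A ι) (hfin : Finite G) : Finite G := hfin

section quo

variable [Finite G]

/-- the centraliser condition in the quotient -/
theorem Mdl.cent_quo (M : Mdl p E A ι) (D : EssData p E A B) (hS : IsPGroup p S) {T : Subgroup S} (hT : Inv A T)
    (hTF : T ≤ Fr E) [hn : (T.map ι).Normal] :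
    Subgroup.centralizer ((Cfsg.pCore p (G ⧸ T.map ι) : Subgroup (G ⧸ T.map ι)) : Set (G ⧸ T.map ι)) ≤
      Cfsg.pCore p (G ⧸ T.map ι) := by
  have hEn : (E.map ι).Normal := M.normal_of_inv Inv.self
  have hEq : ((E.map ι).map (QuotientGroup.mk' (T.map ι))).Normal := hEn.map _ (QuotientGroup.mk'_surjective _)
  have hEp : IsPGroup p ((E.map ι).map (QuotientGroup.mk' (T.map ι))) := ((hS.to_subgroup E).map ι).map _
  have hEle : (E.map ι).map (QuotientGroup.mk' (T.map ι)) ≤ Cfsg.pCore p (G ⧸ T.map ι) := le_sSup ⟨hEq, hEp⟩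
  obtain ⟨ψ, hψ⟩ := M.exists_hom
  intro x hx
  induction x using QuotientGroup.induction_on with
  | H x =>
    apply hEle
    have h1 : ∀ e : E, (((ψ x : MulAut E) e * e⁻¹ : E) : S) ∈ T := by
      intro e
      have h2 := (Subgroup.mem_centralizer_iff.1 hx) (QuotientGroup.mk (ι e)) (hEle ⟨ι e, ⟨e, e.2, rfl⟩, rfl⟩)
      have h3 : (QuotientGroup.mk (x * ι e * x⁻¹ * (ι e)⁻¹) : G ⧸ T.map ι) = 1 := by
        rw [QuotientGroup.mk_mul, QuotientGroup.mk_mul, QuotientGroup.mk_mul, QuotientGroup.mk_inv, QuotientGroup.mk_inv, ← h2,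
          mul_inv_cancel_right, mul_inv_cancel]
      rw [QuotientGroup.eq_one_iff, ← hψ, ← map_inv, ← map_mul] at h3
      obtain ⟨t, ht, h⟩ := h3
      have h4 := M.inj h
      rw [Subgroup.coe_mul, Subgroup.coe_inv, ← h4]
      exact ht
    have h2 : ψ x ∈ (rho hS A).ker := by
      rw [MonoidHom.mem_ker]
      ext q
      obtain ⟨e, rfl⟩ := mkV_surj hS E q
      show actV hS E (ψ x : MulAut E) (mkV hS E e) = mkV hS E e
      rw [actV_mk, ← mul_inv_eq_one, ← map_inv, ← map_mul, mkV_one]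
      exact hTF (h1 e)
    obtain ⟨e, he, h3⟩ := D.op (rho hS A).ker inferInstance (rho_ker hS) _ h2
    obtain ⟨e', he', h4⟩ := M.cent ((ι e)⁻¹ * x) (by
      intro z hz
      have h5 := hψ x ⟨z, hz⟩
      rw [h3, MulAut.conjNormal_apply, map_mul, map_mul, map_inv] at h5
      have h6 : ι e * ι z = x * ι z * x⁻¹ * ι e := by
        rw [← h5]
        group
      calc (ι e)⁻¹ * x * ι z = (ι e)⁻¹ * (x * ι z * x⁻¹) * x := by group
        _ = (ι e)⁻¹ * (ι e * ι z * (ι e)⁻¹) * x := by rw [h5]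
        _ = ι z * ((ι e)⁻¹ * x) := by group)
    refine ⟨x, ⟨e * e', E.mul_mem he he', ?_⟩, rfl⟩
    rw [map_mul, h4, mul_inv_cancel_left]

/-- no `Qd(p)` in the quotient -/
theorem Mdl.no_qd (M : Mdl p E A ι) (D : EssData p E A B) (hS : IsPGroup p S) (h2 : p ≠ 2) (hR : Rk p S)
    (R : RT p E A) {N : Subgroup G} [hn : N.Normal] :
    ¬ Cfsg.Agent.Lib.Involves.Involves (G ⧸ N) ↥(Cfsg.qd p) := by
  intro h
  have h1 := Cfsg.Agent.Lib.Involves.of_quotient h
  have h3 := Cfsg.Agent.Lib.Involves.trans h1 (Cfsg.Agent.Lib.Involves.of_surjective (Cfsg.Agent.H30.SlFree.rho p)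
    Cfsg.Agent.H30.SlFree.rho_surjective)
  obtain ⟨H, π, hπ⟩ := h3
  obtain ⟨ψ, hψ⟩ := M.exists_hom
  -- the kernel is a `p`-group
  have hker : (ψ.comp H.subtype).ker ≤ π.ker := by
    have hp1 : IsPGroup p (ψ.comp H.subtype).ker := by
      rintro ⟨⟨x, hxH⟩, hx⟩
      have hx' : ψ x = 1 := hx
      obtain ⟨e, he, h4⟩ := M.cent x (by
        intro z hz
        have h5 := hψ x ⟨z, hz⟩
        rw [hx'] at h5
        have h6 : ι z = x * ι z * x⁻¹ := h5
        calc x * ι z = (x * ι z * x⁻¹) * x := by group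
          _ = ι z * x := by rw [← h6])
      obtain ⟨k, hk⟩ := hS e
      refine ⟨k, ?_⟩
      apply Subtype.ext
      apply Subtype.ext
      show x ^ p ^ k = 1
      rw [← h4, ← map_pow, hk, map_one]
    have h3 : ((ψ.comp H.subtype).ker.map π).Normal := (inferInstance : (ψ.comp H.subtype).ker.Normal).map π hπ
    have h4 := normal_eq_bot _ h3 (hp1.map π)
    rw [Subgroup.map_eq_bot_iff] at h4
    exact h4
  obtain ⟨M', π', hπ'⟩ := Cfsg.Agent.Lib.Involves.of_ker_le (ψ.comp H.subtype) π hπ hker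
  obtain ⟨y, hy⟩ := D.exists_notMem
  have RD := D.rdata hS h2 hR hy
  refine RD.no_SL2 ?_ M' π' hπ'
  obtain ⟨e, he, hne⟩ := R.reg y hy
  refine ⟨mkV hS E ⟨e, he⟩, ?_⟩
  intro h5
  exact hne ((mkV_comm2 (hS := hS) y ⟨e, he⟩).1 h5)

/-- **the ZJ step** -/
theorem Mdl.step (M : Mdl p E A ι) (D : EssData p E A B) (hS : IsPGroup p S) (h2 : p ≠ 2) (hR : Rk p S)
    (R : RT p E A) {T : Subgroup S} (hT : Inv A T) (hTF : T ≤ Fr E) [hTn : T.Normal] :
    Inv A ((Cfsg.Agent.H40.ZJFunctor.zj (S ⧸ T)).comap (QuotientGroup.mk' T)) := by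
  have hn : (T.map ι).Normal := M.normal_of_inv hT
  have hc := M.cent_quo D hS hT hTF
  have hi : ¬ Cfsg.Agent.Lib.Involves.Involves (G ⧸ T.map ι) ↥(Cfsg.qd p) := M.no_qd D hS h2 hR R
  obtain ⟨P, hP⟩ := M.syl
  -- the map to the quotient
  let κ : S ⧸ T →* G ⧸ T.map ι := QuotientGroup.map T (T.map ι) ι (Subgroup.le_comap_map ι T)
  have hκ : Function.Injective κ := by
    rw [injective_iff_map_eq_one]
    intro x hx
    induction x using QuotientGroup.induction_on with
    | H x =>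
      have h1 : (QuotientGroup.mk (ι x) : G ⧸ T.map ι) = 1 := hx
      rw [QuotientGroup.eq_one_iff] at h1 ⊢
      obtain ⟨t, ht, h⟩ := h1
      rw [← M.inj h]
      exact ht
  let PQ : Sylow p (G ⧸ T.map ι) := P.mapSurjective (QuotientGroup.mk'_surjective (T.map ι))
  have hPQ : (PQ : Subgroup (G ⧸ T.map ι)) = κ.range := by
    have h1 : (PQ : Subgroup (G ⧸ T.map ι)) = (P : Subgroup G).map (QuotientGroup.mk' (T.map ι)) := rfl
    rw [h1, hP]
    ext x
    constructor
    · rintro ⟨_, ⟨s, rfl⟩, rfl⟩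
      exact ⟨QuotientGroup.mk s, rfl⟩
    · rintro ⟨s, rfl⟩
      induction s using QuotientGroup.induction_on with
      | H s => exact ⟨ι s, ⟨s, rfl⟩, rfl⟩
  have h1 := Cfsg.Agent.S0664.result h2 (fun h => hi (Cfsg.Agent.Lib.Involves.involves_iff.2 h)) hc PQ
  rw [← Cfsg.Agent.H40.ZJFunctor.induced_zj] at h1
  -- transport
  have h3 : (Cfsg.Agent.H40.ZJFunctor.zj (S ⧸ T)).map κ =
      (Cfsg.Agent.H40.ZJFunctor.zj ↥(PQ : Subgroup (G ⧸ T.map ι))).map (PQ : Subgroup (G ⧸ T.map ι)).subtype := by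
    have key : ∀ (R : Subgroup (G ⧸ T.map ι)), κ.range = R →
        (Cfsg.Agent.H40.ZJFunctor.zj (S ⧸ T)).map κ = (Cfsg.Agent.H40.ZJFunctor.zj ↥R).map R.subtype := by
      rintro _ rfl
      have h4 := (Cfsg.Agent.H40.ZJFunctor.isCharPFunctor_zj p).2 (S ⧸ T) κ.range (hS.to_quotient T) (MonoidHom.ofInjective hκ)
      rw [← h4, Subgroup.map_map]
      rfl
    exact key _ hPQ.symm
  have h5 : ((Cfsg.Agent.H40.ZJFunctor.zj (S ⧸ T)).map κ).Normal := by
    rw [h3]
    exact h1
  refine (M.le_and_inv D hS ?_).2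
  refine ⟨?_⟩
  rintro _ ⟨r, hr, rfl⟩ g
  have h6 : (QuotientGroup.mk (ι r) : G ⧸ T.map ι) ∈ (Cfsg.Agent.H40.ZJFunctor.zj (S ⧸ T)).map κ :=
    ⟨QuotientGroup.mk r, hr, rfl⟩
  have h7 := h5.conj_mem _ h6 (QuotientGroup.mk g)
  obtain ⟨z, hz, h8⟩ := h7
  induction z using QuotientGroup.induction_on with
  | H z =>
    have h9 : (QuotientGroup.mk (ι z) : G ⧸ T.map ι) = QuotientGroup.mk (g * ι r * g⁻¹) := h8
    rw [QuotientGroup.eq] at h9
    obtain ⟨t, ht, h10⟩ := h9
    refine ⟨z * t, ?_, ?_⟩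
    · refine mul_mem (show z ∈ Subgroup.comap _ _ from hz) ?_
      show (QuotientGroup.mk t : S ⧸ T) ∈ Cfsg.Agent.H40.ZJFunctor.zj (S ⧸ T)
      rw [(QuotientGroup.eq_one_iff t).2 ht]
      exact one_mem _
    · rw [map_mul, h10, mul_inv_cancel_left]

end quo

section pair

variable {E1 E2 : Subgroup S} [hE1 : E1.Normal] [hE2 : E2.Normal] {A1 : Subgroup (MulAut E1)} {A2 : Subgroup (MulAut E2)}

theorem pair_not_le {B : Subgroup (MulAut S)} (D1 : EssData p E1 A1 B) (D2 : EssData p E2 A2 B) (hne : E1 ≠ E2) : ¬ E1 ≤ E2 := by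
  intro h
  have h1 := pair_idx1 D1 D2 hne
  rw [inf_eq_left.2 h, Subgroup.relIndex_self] at h1
  exact hp.out.one_lt.ne h1

theorem RT.le_Fr (R : RT p E1 A1) {T : Subgroup S} (hT : Inv A1 T) (hne : T ≠ E1) : T ≤ Fr E1 := by
  rcases R.irr (T ⊔ Fr E1) (hT.sup Inv.self.Fr) le_sup_right (sup_le hT.le (Fr_le E1)) with h | h
  · rw [← h]
    exact le_sup_left
  · exact (hne (eq_of_sup_Fr hT.le h)).elim

/-- **The regular/regular case is impossible.** -/
theorem rr_false {B : Subgroup (MulAut S)} (D1 : EssData p E1 A1 B) (D2 : EssData p E2 A2 B) (hne : E1 ≠ E2) (hS : IsPGroup p S)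
    (h2 : p ≠ 2) (hR : Rk p S) (R1 : RT p E1 A1) (R2 : RT p E2 A2) {G1 G2 : Type u} [Group G1] [Group G2] [Finite G1] [Finite G2]
    {ι1 : S →* G1} {ι2 : S →* G2} (M1 : Mdl p E1 A1 ι1) (M2 : Mdl p E2 A2 ι2) : False := by
  obtain ⟨T, ⟨hT1, hT2⟩, hmax⟩ := (Set.toFinite {T : Subgroup S | Inv A1 T ∧ Inv A2 T}).exists_maximal ⟨⊥, Inv.bot, Inv.bot⟩
  have hTF1 : T ≤ Fr E1 := R1.le_Fr hT1 (fun h => pair_not_le D1 D2 hne (h ▸ hT2.le))
  have hTF2 : T ≤ Fr E2 := R2.le_Fr hT2 (fun h => pair_not_le D2 D1 hne.symm (h ▸ hT1.le))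
  have hTn : T.Normal := hT1.normal D1
  have h1 := M1.step D1 hS h2 hR R1 hT1 hTF1
  have h3 := M2.step D2 hS h2 hR R2 hT2 hTF2
  have hle : T ≤ (Cfsg.Agent.H40.ZJFunctor.zj (S ⧸ T)).comap (QuotientGroup.mk' T) := by
    intro t ht
    show (QuotientGroup.mk t : S ⧸ T) ∈ Cfsg.Agent.H40.ZJFunctor.zj (S ⧸ T)
    rw [(QuotientGroup.eq_one_iff t).2 ht]
    exact one_mem _
  have h4 := hmax (show _ ∈ {T : Subgroup S | Inv A1 T ∧ Inv A2 T} from ⟨h1, h3⟩) hle
  obtain ⟨y, hy⟩ := D1.exists_notMem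
  have hnt : Nontrivial (S ⧸ T) := by
    refine ⟨⟨QuotientGroup.mk y, 1, fun h => hy ?_⟩⟩
    exact hT1.le ((QuotientGroup.eq_one_iff y).1 h)
  apply (Cfsg.Agent.H40.ZJFunctor.isCharPFunctor_zj p).1 (S ⧸ T) (hS.to_quotient T) hnt
  rw [eq_bot_iff]
  intro q hq
  induction q using QuotientGroup.induction_on with
  | H q =>
    have h5 : q ∈ T := h4 hq
    rw [Subgroup.mem_bot, QuotientGroup.eq_one_iff]
    exact h5

end pair

end Cfsg.Agent.H767.TE
end

-- part: H767/TEFus
section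
/-!
# From fusion systems to the abstract data of a maximal subgroup (helper767)
-/

set_option autoImplicit false
set_option linter.unusedSectionVars false
set_option linter.unusedVariables false

namespace Cfsg.Agent.H767.TE

open Subgroup Cfsg Cfsg.FusionSystem Cfsg.Agent.H802
open scoped commutatorElement

universe u

theorem rk_of_sectional {S : Type*} [Group S] {p : ℕ} (h : SectionalPRankLE p 3 S) : Rk p S := by
  intro N M hNM hc hpow
  have hn : (N.subgroupOf M).Normal := by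
    refine ⟨fun n hn g => ?_⟩
    rw [Subgroup.mem_subgroupOf] at hn ⊢
    have h1 := hc g g.2 n n.2
    rw [commutatorElement_def] at h1
    have h2 := N.mul_mem h1 hn
    rwa [inv_mul_cancel_right] at h2
  have h1 := h M (N.subgroupOf M) ⊤ ⟨⟨by
    rintro ⟨a, ha⟩ ⟨b, hb⟩
    apply Subtype.ext
    show a * b = b * a
    induction a using QuotientGroup.induction_on with
    | H x =>
      induction b using QuotientGroup.induction_on with
      | H y =>
        show (QuotientGroup.mk (x * y) : M ⧸ N.subgroupOf M) = QuotientGroup.mk (y * x)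
        rw [QuotientGroup.eq, Subgroup.mem_subgroupOf]
        have h3 := hc _ (M.inv_mem y.2) _ (M.inv_mem x.2)
        have e : (((x * y)⁻¹ * (y * x) : M) : S) = ⁅(y : S)⁻¹, (x : S)⁻¹⁆ := by
          rw [commutatorElement_def]
          push_cast
          group
        rw [e]
        exact h3⟩⟩ (by
    intro a _
    induction a using QuotientGroup.induction_on with
    | H x =>
      rw [← QuotientGroup.mk_pow, QuotientGroup.eq_one_iff, Subgroup.mem_subgroupOf]
      exact hpow x x.2)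
  rw [Subgroup.card_top] at h1
  exact h1

variable {Ω : Type u} [Group Ω] {S : Subgroup Ω} {p : ℕ} [hp : Fact p.Prime]

/-- the identification -/
noncomputable def eS {E : Subgroup Ω} (h : E ≤ S) : (E.subgroupOf S) ≃* E := Subgroup.subgroupOfEquivOfLe h

theorem eS_coe {E : Subgroup Ω} (h : E ≤ S) (x : E.subgroupOf S) : ((eS h x : E) : Ω) = ((x : S) : Ω) := rfl

theorem eS_symm_coe {E : Subgroup Ω} (h : E ≤ S) (x : E) : (((eS h).symm x : S) : Ω) = x := rfl

/-- `Aut_F(E)` acting on `E` as a subgroup of the type `S` -/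
noncomputable def AF (F : FusionSystem S) {E : Subgroup Ω} (h : E ≤ S) : Subgroup (MulAut (E.subgroupOf S)) :=
  (F.autGroup E).comap (MulAut.congr (eS h)).toMonoidHom

theorem mem_AF {F : FusionSystem S} {E : Subgroup Ω} {h : E ≤ S} {α : MulAut (E.subgroupOf S)} :
    α ∈ AF F h ↔ MulAut.congr (eS h) α ∈ F.autGroup E := Iff.rfl

theorem congr_coe {E : Subgroup Ω} (h : E ≤ S) (α : MulAut (E.subgroupOf S)) (x : E) :
    ((MulAut.congr (eS h) α x : E) : Ω) = ((α ((eS h).symm x) : S) : Ω) := rfl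

theorem congr_symm_coe {E : Subgroup Ω} (h : E ≤ S) (α : MulAut E) (x : E.subgroupOf S) :
    ((((MulAut.congr (eS h)).symm α x : E.subgroupOf S) : S) : Ω) = α (eS h x) := rfl

theorem symm_mem_AF {F : FusionSystem S} {E : Subgroup Ω} {h : E ≤ S} {α : MulAut E} (hα : α ∈ F.autGroup E) :
    (MulAut.congr (eS h)).symm α ∈ AF F h := by
  rw [mem_AF, MulEquiv.apply_symm_apply]
  exact hα

theorem conj_mem_autTop (F : FusionSystem S) (s : S) : MulAut.conj s ∈ F.autGroup S := by
  rw [mem_autGroup_iff F le_rfl]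
  exact mem_of_apply_eq (F.conj_mem le_rfl s.2) (fun x => rfl)

theorem normal_of_inv (F : FusionSystem S) {E : Subgroup Ω}
    (hc : ∀ φ : MulAut S, φ ∈ F.autGroup S → (E.subgroupOf S).map φ.toMonoidHom = E.subgroupOf S) : (E.subgroupOf S).Normal := by
  refine ⟨fun n hn g => ?_⟩
  have h1 := hc _ (conj_mem_autTop F g)
  rw [← h1]
  exact ⟨n, hn, rfl⟩

section ess

variable [Finite S] {F : FusionSystem S} {E : Subgroup Ω}

/-- the data without restriction of automorphisms of `S` -/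
structure ED0 {S : Type*} [Group S] [Finite S] (p : ℕ) (E : Subgroup S) [hE : E.Normal] (A : Subgroup (MulAut E))
    (B : Subgroup (MulAut S)) : Prop where
  index : E.index = p
  cent : ∀ s : S, (∀ e ∈ E, s * e = e * s) → s ∈ E
  conjA : ∀ s : S, MulAut.conjNormal (H := E) s ∈ A
  radical : ∀ N : Subgroup (MulAut E), N ≤ A → (∀ α ∈ A, ∀ n ∈ N, α * n * α⁻¹ ∈ N) → IsPGroup p N →
    ∀ n ∈ N, ∃ e ∈ E, n = MulAut.conjNormal (H := E) e
  sylow : ∀ Q : Subgroup (MulAut E), Q ≤ A → IsPGroup p Q → (MulAut.conjNormal (H := E)).range ≤ Q →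
    Q = (MulAut.conjNormal (H := E)).range
  ext : ∀ α ∈ A, (∀ s : S, ∃ s' : S, α * MulAut.conjNormal (H := E) s * α⁻¹ = MulAut.conjNormal (H := E) s') →
    ∃ β ∈ B, ∀ e : E, β e = α e

theorem ed0_of (hS : IsPGroup p S) (hF : F.IsSaturated p) (hE : F.IsEssential p E)
    [hn : (E.subgroupOf S).Normal] (hidx : (E.subgroupOf S).index = p) :
    ED0 p (E.subgroupOf S) (AF F hE.1.1) (F.autGroup S) := by
  have hES : E ≤ S := hE.1.1
  have hfin : Finite E := finite_of_le hES
  have hrec := isReceptive_of_isFullyNormalized hS hF hE.2.1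
  have haut := isFullyAutomized_of_isFullyNormalized hS hF hE.2.1
  have hnorm : ∀ s : S, (s : Ω) ∈ Subgroup.normalizer (E : Set Ω) := by
    intro s
    rw [Subgroup.mem_normalizer_iff]
    intro x
    constructor
    · intro hx
      exact hn.conj_mem ⟨x, hES hx⟩ hx s
    · intro hx
      have hxS : x ∈ S := by
        have := S.mul_mem (S.mul_mem (S.inv_mem s.2) (hES hx)) s.2
        have e : (s : Ω)⁻¹ * (s * x * (s : Ω)⁻¹) * s = x := by group
        rwa [e] at this
      have h1 := hn.conj_mem ⟨s * x * (s : Ω)⁻¹, hES hx⟩ hx s⁻¹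
      rw [Subgroup.mem_subgroupOf] at h1
      have e : ((s⁻¹ * ⟨s * x * (s : Ω)⁻¹, hES hx⟩ * s⁻¹⁻¹ : S) : Ω) = x := by
        show (s : Ω)⁻¹ * (s * x * (s : Ω)⁻¹) * ((s : Ω)⁻¹)⁻¹ = x
        group
      rwa [e] at h1
  -- conjugations
  have hconj : ∀ s : S, MulAut.congr (eS hES) (MulAut.conjNormal (H := E.subgroupOf S) s) ∈ autInducedBy S E := by
    intro s
    rw [mem_autInducedBy_iff]
    exact ⟨s, s.2, fun x => by rw [congr_coe, MulAut.conjNormal_apply]; rfl⟩
  have hconj' : ∀ α ∈ autInducedBy S E, ∃ s : S, (MulAut.congr (eS hES)).symm α = MulAut.conjNormal (H := E.subgroupOf S) s := by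
    intro α hα
    obtain ⟨g, hg, h⟩ := (mem_autInducedBy_iff S E α).1 hα
    refine ⟨⟨g, hg⟩, ?_⟩
    ext x
    rw [congr_symm_coe, MulAut.conjNormal_apply, h]
    rfl
  refine ⟨hidx, ?_, ?_, ?_, ?_, ?_⟩
  · intro s hs
    have h1 : (s : Ω) ∈ centralizerIn S E := by
      refine ⟨s.2, Subgroup.mem_centralizer_iff.2 fun x hx => ?_⟩
      have := hs ⟨x, hES hx⟩ hx
      exact (congrArg Subtype.val this).symm
    exact hE.1.2 E (isConj_refl F hES) h1
  · intro s
    exact autInducedBy_le_autGroup F hES (hconj s)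
  · intro N hN hNn hNp n hnN
    have h1 := Cfsg.Agent.H765.Ess.le_inn hS hE (N.map (MulAut.congr (eS hES)).toMonoidHom) (by
      rintro _ ⟨m, hm, rfl⟩
      exact hN hm) (by
      rintro a ha _ ⟨m, hm, rfl⟩
      refine ⟨(MulAut.congr (eS hES)).symm a * m * ((MulAut.congr (eS hES)).symm a)⁻¹, hNn _ (symm_mem_AF ha) m hm, ?_⟩
      show MulAut.congr (eS hES) ((MulAut.congr (eS hES)).symm a * m * ((MulAut.congr (eS hES)).symm a)⁻¹) = a * MulAut.congr (eS hES) m * a⁻¹
      rw [map_mul, map_mul, map_inv, MulEquiv.apply_symm_apply]) (hNp.map _)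
    obtain ⟨e, he⟩ := h1 ⟨n, hnN, rfl⟩
    refine ⟨⟨e, hES e.2⟩, e.2, ?_⟩
    have h2 : n = (MulAut.congr (eS hES)).symm (MulAut.conj e) := by
      rw [MulEquiv.eq_symm_apply]
      exact he.symm
    rw [h2]
    ext x
    rw [congr_symm_coe, MulAut.conjNormal_apply]
    rfl
  · intro Q hQ hQp hle
    obtain ⟨-, R, hR⟩ := haut
    have hQm : (Q.map (MulAut.congr (eS hES)).toMonoidHom) ≤ F.autGroup E := by
      rintro _ ⟨m, hm, rfl⟩
      exact hQ hm
    have h1 : IsPGroup p ((Q.map (MulAut.congr (eS hES)).toMonoidHom).subgroupOf (F.autGroup E)) :=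
      (hQp.map _).comap_of_injective _ (Subgroup.subtype_injective _)
    have h2 : (R : Subgroup (F.autGroup E)) ≤ (Q.map (MulAut.congr (eS hES)).toMonoidHom).subgroupOf (F.autGroup E) := by
      rw [hR]
      intro x hx
      rw [Subgroup.mem_subgroupOf] at hx ⊢
      obtain ⟨s, hs⟩ := hconj' _ hx
      refine ⟨(MulAut.congr (eS hES)).symm x, hle ⟨s, hs.symm⟩, ?_⟩
      exact MulEquiv.apply_symm_apply _ _
    have h3 := R.is_maximal' h1 h2
    refine le_antisymm ?_ hle
    intro q hq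
    have h4 : MulAut.congr (eS hES) q ∈ autInducedBy S E := by
      have h5 : (⟨MulAut.congr (eS hES) q, hQ hq⟩ : F.autGroup E) ∈ (Q.map (MulAut.congr (eS hES)).toMonoidHom).subgroupOf (F.autGroup E) :=
        ⟨q, hq, rfl⟩
      rw [h3, hR] at h5
      exact h5
    obtain ⟨s, hs⟩ := hconj' _ h4
    rw [MulEquiv.symm_apply_apply] at hs
    exact ⟨s, hs.symm⟩
  · intro α hα hs
    have hα' := (mem_autGroup_iff F hES _).1 (mem_AF.1 hα)
    have hr : (E.subtype.comp (MulAut.congr (eS hES) α).toMonoidHom).range = E :=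
      range_eq_of_mapsTo hα' (fun x => (MulAut.congr (eS hES) α x).2)
    obtain ⟨ψ, hψ, he⟩ := hrec.2 E _ hα' hr
    have hext : extender S E (E.subtype.comp (MulAut.congr (eS hES) α).toMonoidHom) = S := by
      apply le_antisymm (extender_le _ _ _)
      intro g hg
      rw [mem_extender_iff]
      refine ⟨hg, hnorm ⟨g, hg⟩, ?_⟩
      obtain ⟨s', hs'⟩ := hs ⟨g, hg⟩
      refine ⟨s', s'.2, fun x hx => ?_⟩
      have h1 : α * MulAut.conjNormal (H := E.subgroupOf S) ⟨g, hg⟩ = MulAut.conjNormal (H := E.subgroupOf S) s' * α := by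
        rw [← hs', inv_mul_cancel_right]
      have h2 := congrArg (fun β : MulAut (E.subgroupOf S) => ((β ((eS hES).symm x) : S) : Ω)) h1
      simp only [MulAut.mul_apply, MulAut.conjNormal_apply] at h2
      have h3 : MulAut.conjNormal (H := E.subgroupOf S) ⟨g, hg⟩ ((eS hES).symm x) = (eS hES).symm ⟨g * x * g⁻¹, hx⟩ := by
        apply Subtype.ext
        rw [MulAut.conjNormal_apply]
        rfl
      rw [h3] at h2
      exact h2
    have hψS : ∃ ψ' ∈ F.Hom S, ∀ (x : Ω) (hx : x ∈ E), ψ' ⟨x, hES hx⟩ = (MulAut.congr (eS hES) α ⟨x, hx⟩ : E) := by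
      refine ⟨ψ.comp (Subgroup.inclusion hext.ge), restrict_mem hψ hext.ge, fun x hx => ?_⟩
      exact he x hx _
    obtain ⟨ψ', hψ', he'⟩ := hψS
    obtain ⟨β, hβ, hβe⟩ := exists_aut hψ' (range_eq_of_mapsTo hψ' (fun x => hom_apply_mem hψ' x))
    refine ⟨β, hβ, fun e => ?_⟩
    apply Subtype.ext
    have h1 := he' e e.2
    rw [hβe]
    exact h1

theorem essData_of (hS : IsPGroup p S) (hF : F.IsSaturated p) (hE : F.IsEssential p E)
    (hc : ∀ φ : MulAut S, φ ∈ F.autGroup S → (E.subgroupOf S).map φ.toMonoidHom = E.subgroupOf S)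
    [hn : (E.subgroupOf S).Normal] (hidx : (E.subgroupOf S).index = p) :
    EssData p (E.subgroupOf S) (AF F hE.1.1) (F.autGroup S) := by
  have hES : E ≤ S := hE.1.1
  have hfin : Finite E := finite_of_le hES
  have h := ed0_of hS hF hE hidx
  refine ⟨h.index, h.cent, h.conjA, h.radical, h.sylow, h.ext, ?_⟩
  · intro β hβ
    have hβE : ∀ x : E, ((β ⟨x, hES x.2⟩ : S) : Ω) ∈ E := by
      intro x
      have h1 := hc β hβ
      have h2 : β ⟨x, hES x.2⟩ ∈ E.subgroupOf S := by
        rw [← h1]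
        exact ⟨⟨x, hES x.2⟩, x.2, rfl⟩
      exact h2
    have hβ' := (mem_autGroup_iff F le_rfl β).1 hβ
    have h3 := restrict_mem hβ' hES
    obtain ⟨α, hα, hαe⟩ := exists_aut h3 (range_eq_of_mapsTo h3 (fun x => hβE x))
    refine ⟨(MulAut.congr (eS hES)).symm α, symm_mem_AF hα, fun e => ?_⟩
    apply Subtype.ext
    rw [congr_symm_coe, hαe]
    rfl

theorem index_of (hS : IsPGroup p S) (h2 : p ≠ 2) (hR : Rk p S) (hF : F.IsSaturated p) (hE : F.IsEssential p E)
    [hn : (E.subgroupOf S).Normal] : (E.subgroupOf S).index = p := by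
  have hES : E ≤ S := hE.1.1
  have hfin : Finite E := finite_of_le hES
  have hconj : ∀ s : S, MulAut.congr (eS hES) (MulAut.conjNormal (H := E.subgroupOf S) s) ∈ autInducedBy S E := by
    intro s
    rw [mem_autInducedBy_iff]
    exact ⟨s, s.2, fun x => by rw [congr_coe, MulAut.conjNormal_apply]; rfl⟩
  have hle := autInducedBy_le_autGroup F hES
  -- the action on `E/Φ(E)`
  obtain ⟨f, hf⟩ : ∃ f : F.autGroup E →* MulAut (FV hS (E.subgroupOf S)),
      ∀ a : F.autGroup E, f a = actV hS (E.subgroupOf S) ((MulAut.congr (eS hES)).symm a) :=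
    ⟨(actV hS (E.subgroupOf S)).comp ((MulAut.congr (eS hES)).symm.toMonoidHom.comp (F.autGroup E).subtype), fun a => rfl⟩
  have hker : f.ker = (Inn E).subgroupOf (F.autGroup E) := by
    apply le_antisymm
    · intro x hx
      have h1 := Cfsg.Agent.H765.Ess.le_inn hS hE (f.ker.map (F.autGroup E).subtype) (Subgroup.map_subtype_le _) (by
        rintro a ha _ ⟨m, hm, rfl⟩
        have h3 : f.ker.Normal := inferInstance
        exact ⟨⟨a, ha⟩ * m * (⟨a, ha⟩ : F.autGroup E)⁻¹, h3.conj_mem m hm ⟨a, ha⟩, rfl⟩) (by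
        have h3 : IsPGroup p f.ker := by
          rintro ⟨y, hy⟩
          have hy' : (⟨(MulAut.congr (eS hES)).symm y, symm_mem_AF y.2⟩ : AF F hES) ∈ (rho hS (AF F hES)).ker := by
            rw [MonoidHom.mem_ker, hf] at hy
            rw [MonoidHom.mem_ker]
            exact hy
          obtain ⟨k, hk⟩ := rho_ker hS ⟨_, hy'⟩
          refine ⟨k, ?_⟩
          apply Subtype.ext
          apply Subtype.ext
          show (y : MulAut E) ^ p ^ k = 1
          have h4 : ((MulAut.congr (eS hES)).symm (y : MulAut E)) ^ p ^ k = 1 :=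
            congrArg (fun z : (rho hS (AF F hES)).ker => ((z : AF F hES) : MulAut (E.subgroupOf S))) hk
          rw [← map_pow] at h4
          exact (MulAut.congr (eS hES)).symm.injective (by rw [h4, map_one])
        exact h3.map _)
      exact h1 ⟨x, hx, rfl⟩
    · intro x hx
      rw [Subgroup.mem_subgroupOf] at hx
      obtain ⟨e, he⟩ := hx
      rw [MonoidHom.mem_ker, hf]
      have h2 : (MulAut.congr (eS hES)).symm (x : MulAut E) = MulAut.conjNormal (H := E.subgroupOf S) ⟨e, hES e.2⟩ := by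
        rw [← he]
        ext z
        rw [congr_symm_coe, MulAut.conjNormal_apply]
        rfl
      rw [h2]
      exact inner_triv hS (show (⟨e, hES e.2⟩ : S) ∈ E.subgroupOf S from e.2)
  obtain ⟨hcen, hfn, hnorm, M, hM⟩ := hE
  have hfinX : Finite (F.autGroup E ⧸ (Inn E).subgroupOf (F.autGroup E)) := inferInstance
  let g : (F.autGroup E ⧸ (Inn E).subgroupOf (F.autGroup E)) →* MulAut (FV hS (E.subgroupOf S)) :=
    QuotientGroup.lift _ f (fun x hx => by
      rw [← hker] at hx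
      exact hx)
  have hginj : Function.Injective g := by
    rw [injective_iff_map_eq_one]
    intro x hx
    induction x using QuotientGroup.induction_on with
    | H y =>
      rw [QuotientGroup.eq_one_iff, ← hker]
      exact hx
  have hexp : ∀ q : Additive (FV hS (E.subgroupOf S)), p • q = 0 := by
    intro q
    obtain ⟨e, he⟩ := mkV_surj hS (E.subgroupOf S) (Additive.toMul q)
    apply Additive.toMul.injective
    show (Additive.toMul q) ^ p = 1
    rw [← he, ← map_pow, mkV_one]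
    exact pow_mem_Fr hS e.2
  obtain ⟨i3, ρ, hρ⟩ := Cfsg.Agent.H765.exists_rep_aux hexp
    (fun x : (F.autGroup E ⧸ (Inn E).subgroupOf (F.autGroup E)) => MonoidHom.toAdditive (g x).toMonoidHom)
    (fun q => by
      show Additive.ofMul (g 1 (Additive.toMul q)) = q
      rw [map_one]
      rfl)
    (fun x y q => by
      show Additive.ofMul (g (x * y) (Additive.toMul q)) = Additive.ofMul (g x (g y (Additive.toMul q)))
      rw [map_mul]
      rfl)
  have hρinj : Function.Injective ρ := by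
    intro x y hxy
    apply hginj
    ext q
    have h1 : ρ x (Additive.ofMul q) = ρ y (Additive.ofMul q) := by rw [hxy]
    rw [hρ, hρ] at h1
    exact congrArg Additive.toMul h1
  have hfr : Module.finrank (ZMod p) (Additive (FV hS (E.subgroupOf S))) ≤ 3 := by
    have h1 : Nat.card (Additive (FV hS (E.subgroupOf S))) = Nat.card (ZMod p) ^ Module.finrank (ZMod p) (Additive (FV hS (E.subgroupOf S))) :=
      Module.natCard_eq_pow_finrank
    have h3 : Nat.card (Additive (FV hS (E.subgroupOf S))) = Nat.card (FV hS (E.subgroupOf S)) := rfl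
    rw [h3, card_FV, Nat.card_zmod] at h1
    have h4 : (Fr (E.subgroupOf S)).relIndex (E.subgroupOf S) ≤ p ^ 3 :=
      hR _ _ (Fr_le _) (fun a ha b hb => comm_mem_Fr hS ha hb) (fun a ha => pow_mem_Fr hS ha)
    rw [h1] at h4
    exact (Nat.pow_le_pow_iff_right hp.out.one_lt).1 h4
  have hnd := Cfsg.Agent.H765.GL3.not_sq_dvd hρinj hfr hM
  -- the order of `S/E`
  let h : S →* (F.autGroup E ⧸ (Inn E).subgroupOf (F.autGroup E)) :=
    (QuotientGroup.mk' ((Inn E).subgroupOf (F.autGroup E))).comp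
      (((MulAut.congr (eS hES)).toMonoidHom.comp (MulAut.conjNormal (H := E.subgroupOf S))).codRestrict (F.autGroup E)
        (fun s => hle (hconj s)))
  have hk : h.ker = E.subgroupOf S := by
    ext s
    rw [MonoidHom.mem_ker]
    constructor
    · intro hs
      have h1 : (⟨MulAut.congr (eS hES) (MulAut.conjNormal (H := E.subgroupOf S) s), hle (hconj s)⟩ : F.autGroup E) ∈
          (Inn E).subgroupOf (F.autGroup E) := (QuotientGroup.eq_one_iff _).1 hs
      rw [Subgroup.mem_subgroupOf] at h1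
      exact mem_of_conj_mem_inn hES (hcen.2 E (isConj_refl F hES)) s.2
        (fun x => by rw [congr_coe, MulAut.conjNormal_apply]; rfl) h1
    · intro hs
      show (QuotientGroup.mk (⟨MulAut.congr (eS hES) (MulAut.conjNormal (H := E.subgroupOf S) s), hle (hconj s)⟩ : F.autGroup E) :
        (F.autGroup E ⧸ (Inn E).subgroupOf (F.autGroup E))) = 1
      rw [QuotientGroup.eq_one_iff, Subgroup.mem_subgroupOf]
      refine ⟨⟨s, hs⟩, ?_⟩
      ext x
      rw [congr_coe, MulAut.conjNormal_apply]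
      rfl
  have hdvd : (E.subgroupOf S).index ∣ Nat.card (F.autGroup E ⧸ (Inn E).subgroupOf (F.autGroup E)) := by
    rw [← hk, Subgroup.index_ker]
    exact Subgroup.card_subgroup_dvd_card _
  obtain ⟨k, hk2⟩ := hS.index (E.subgroupOf S)
  have hk1 : k ≤ 1 := by
    by_contra hcon
    push Not at hcon
    apply hnd
    rw [hk2] at hdvd
    exact (pow_dvd_pow p hcon).trans hdvd
  have hk0 : k ≠ 0 := by
    rintro rfl
    rw [pow_zero, Subgroup.index_eq_one] at hk2
    apply ne_of_isEssential hS hF ⟨hcen, hfn, hnorm, M, hM⟩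
    apply le_antisymm hES
    rwa [Subgroup.subgroupOf_eq_top] at hk2
  have hk3 : k = 1 := by omega
  rw [hk2, hk3, pow_one]

end ess

end Cfsg.Agent.H767.TE
end

-- part: H767/TEModel
section
/-!
# Models of the normalizers of the essential subgroups (helper767)
-/

set_option autoImplicit false
set_option linter.unusedSectionVars false
set_option linter.unusedVariables false

namespace Cfsg.Agent.H767.TE

open Subgroup Cfsg Cfsg.FusionSystem Cfsg.Agent.H802
open scoped commutatorElement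

universe u

variable {Ω : Type u} [Group Ω] {S : Subgroup Ω} {p : ℕ} [hp : Fact p.Prime]
variable [Finite S] {F : FusionSystem S} {E : Subgroup Ω}

theorem le_normalizer_of_subgroupOf (hES : E ≤ S) [hn : (E.subgroupOf S).Normal] : S ≤ Subgroup.normalizer (E : Set Ω) := by
  intro s hs
  rw [Subgroup.mem_normalizer_iff]
  have h1 : ∀ s ∈ S, ∀ x ∈ E, s * x * s⁻¹ ∈ E := by
    intro s hs x hx
    exact hn.conj_mem ⟨x, hES hx⟩ hx ⟨s, hs⟩
  intro x
  constructor
  · exact h1 s hs x
  · intro hx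
    have h2 := h1 s⁻¹ (S.inv_mem hs) _ hx
    have e : s⁻¹ * (s * x * s⁻¹) * s⁻¹⁻¹ = x := by group
    rwa [e] at h2

theorem exists_mdl (hS : IsPGroup p S) (hF : F.IsSaturated p) (hE : F.IsEssential p E)
    [hn : (E.subgroupOf S).Normal] :
    ∃ (G : Type u) (_ : Group G) (_ : Finite G) (ι : S →* G), Mdl p (E.subgroupOf S) (AF F hE.1.1) ι := by
  have hES : E ≤ S := hE.1.1
  have hfinE : Finite E := finite_of_le hES
  have hT : normalizerIn S E = S := inf_eq_left.2 (le_normalizer_of_subgroupOf hES)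
  have hfinN : Finite (normalizerIn S E) := finite_of_le inf_le_left
  obtain ⟨N, hN⟩ := exists_normalizerSystem F hES
  have hNsat := normalizerSystem_isSaturated hS hF hE.2.1 hN
  have hNn := Cfsg.Agent.H782.NormSys.isNormal_of_isNormalizerSystem hES hN
  have hNc := Cfsg.Agent.H782.NormSys.isCentric_of_isNormalizerSystem hE.1 hN
  have hNp : IsPGroup p (normalizerIn S E) := hS.of_injective (Subgroup.inclusion inf_le_left) (Subgroup.inclusion_injective _)
  obtain ⟨L, hL, ι0, ⟨hfin, hreal, ⟨P, hP⟩, -⟩, hnor, hcen⟩ := Cfsg.Agent.H771.exists_model hNp hNsat hNn hNc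
  have hSN : ∀ s : S, (s : Ω) ∈ normalizerIn S E := fun s => by rw [hT]; exact s.2
  let ι : S →* L := ι0.comp (MulEquiv.subgroupCongr hT.symm).toMonoidHom
  have hι : ∀ s : S, ι s = ι0 ⟨s, hSN s⟩ := fun s => rfl
  have hEN : E ≤ normalizerIn S E := le_normalizerIn hES
  refine ⟨L, hL, hfin, ι, ?_, ?_, ?_, ?_, ?_⟩
  · intro a b hab
    have h1 := hreal.1 hab
    have h2 : (a : Ω) = (b : Ω) := congrArg (fun z : normalizerIn S E => (z : Ω)) h1
    exact Subtype.ext h2
  · refine ⟨P, ?_⟩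
    rw [hP]
    apply le_antisymm
    · rintro _ ⟨x, rfl⟩
      exact ⟨⟨x, x.2.1⟩, rfl⟩
    · rintro _ ⟨x, rfl⟩
      exact ⟨_, rfl⟩
  · intro g hg
    have h1 : g ∈ Subgroup.centralizer (((E.subgroupOf (normalizerIn S E)).map ι0 : Subgroup L) : Set L) := by
      rw [Subgroup.mem_centralizer_iff]
      rintro _ ⟨e, he, rfl⟩
      exact (hg ⟨e, e.2.1⟩ he).symm
    obtain ⟨e, he, h2⟩ := hcen h1
    exact ⟨⟨e, e.2.1⟩, he, h2⟩
  · intro g
    have h1 : ∀ e : E, ∃ x : E, ι0 ⟨x, hEN x.2⟩ = g * ι0 ⟨e, hEN e.2⟩ * g⁻¹ := by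
      intro e
      obtain ⟨x, hx, h2⟩ := hnor.conj_mem _ ⟨⟨e, hEN e.2⟩, e.2, rfl⟩ g
      exact ⟨⟨x, hx⟩, h2⟩
    choose f hf using h1
    let φ : E →* Ω := MonoidHom.mk' (fun e => (f e : Ω)) (by
      intro a b
      have h2 : (⟨f (a * b), hEN (f (a * b)).2⟩ : normalizerIn S E) = ⟨f a, hEN (f a).2⟩ * ⟨f b, hEN (f b).2⟩ := by
        apply hreal.1
        rw [map_mul, hf, hf, hf]
        have h3 : (⟨((a * b : E) : Ω), hEN (a * b).2⟩ : normalizerIn S E) = ⟨a, hEN a.2⟩ * ⟨b, hEN b.2⟩ := rfl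
        rw [h3, map_mul]
        group
      exact congrArg Subtype.val h2)
    have hφ : ∀ x : E, φ x ∈ normalizerIn S E := fun x => hEN (f x).2
    have h2 : φ ∈ N.Hom E := (hreal.2 E hEN φ hφ).2 ⟨g, fun x => hf x⟩
    have h3 : φ ∈ F.Hom E := by
      rw [hN] at h2
      exact h2.1
    obtain ⟨α, hα, hαe⟩ := exists_aut h3 (range_eq_of_mapsTo h3 (fun x => (f x).2))
    refine ⟨(MulAut.congr (eS hES)).symm α, symm_mem_AF hα, fun e => ?_⟩
    have h4 := hf (eS hES e)
    have h5 : ((((MulAut.congr (eS hES)).symm α e : E.subgroupOf S) : S) : Ω) = f (eS hES e) := by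
      rw [congr_symm_coe, hαe]
      rfl
    have h6 : ι (((MulAut.congr (eS hES)).symm α e : E.subgroupOf S) : S) = ι0 ⟨f (eS hES e), hEN (f (eS hES e)).2⟩ := by
      rw [hι]
      congr 1
      exact Subtype.ext h5
    rw [h6, h4]
    rfl
  · intro α hα
    have h1 : MulAut.congr (eS hES) α ∈ N.autGroup E := by
      rw [Cfsg.Agent.H781.autGroup_normalizerSystem hES hN]
      exact hα
    have h2 := (mem_autGroup_iff N hEN _).1 h1
    obtain ⟨g, hg⟩ := (hreal.2 E hEN _ (fun x => hEN (MulAut.congr (eS hES) α x).2)).1 h2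
    refine ⟨g, fun e => ?_⟩
    exact hg (eS hES e)

end Cfsg.Agent.H767.TE
end
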