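import Cfsg.Agent.H767.EssFrat
import Cfsg.Agent.S0014
import Cfsg.Agent.Lib.FrattiniPGroup
import Cfsg.Agent.Transfer.TausskyTwoGroup
set_option linter.all false

-- part: H767/TEBasic
section
/-!
# Basic lemmas on finite `p`-groups for the two-essentials theorem (helper767)
-/

set_option autoImplicit false
set_option linter.unusedSectionVars false
set_option linter.unusedVariables false

namespace Cfsg.Agent.H767.TE

open Subgroup
open scoped commutatorElement

variable {S : Type*} [Group S] [Finite S] {p : ℕ} [hp : Fact p.Prime]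

theorem exists_pow_sq (hS : IsPGroup p S) (h2 : p ≠ 2) (m : S) : ∃ n : ℕ, (m * m) ^ n = m := by
  have hcop : Nat.Coprime 2 (orderOf m) := by
    obtain ⟨k, hk⟩ := (IsPGroup.iff_orderOf.1 hS) m
    rw [hk]
    apply Nat.Coprime.pow_right
    rw [Nat.coprime_primes Nat.prime_two hp.out]
    exact Ne.symm h2
  obtain ⟨n, hn⟩ := exists_pow_eq_self_of_coprime (x := m) (n := 2) hcop
  exact ⟨n, by rw [← pow_two]; exact hn⟩

theorem sq_mem (hS : IsPGroup p S) (h2 : p ≠ 2) {N : Subgroup S} {m : S} (h : m * m ∈ N) : m ∈ N := by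
  obtain ⟨n, hn⟩ := exists_pow_sq hS h2 m
  have h1 := pow_mem h n
  rwa [hn] at h1

/-- If `τ` inverts and centralises `m` modulo `N`, then `m ∈ N`. -/
theorem mem_of_inv_cent (hS : IsPGroup p S) (h2 : p ≠ 2) {N : Subgroup S} {m t : S} (h1 : t * m ∈ N)
    (h3 : t * m⁻¹ ∈ N) : m ∈ N := by
  apply sq_mem hS h2
  have := N.mul_mem (N.inv_mem h3) h1
  have e : (t * m⁻¹)⁻¹ * (t * m) = m * m := by group
  rwa [e] at this

/-- A subgroup between. -/
theorem between {N X M : Subgroup S} (h1 : N ≤ X) (h2 : X ≤ M) (h : N.relIndex M ∣ p) : X = N ∨ X = M := by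
  have h3 := Subgroup.relIndex_mul_relIndex N X M h1 h2
  rw [← h3] at h
  rcases (Nat.dvd_prime hp.out).1 (dvd_of_mul_right_dvd h) with h4 | h4
  · left
    rw [Subgroup.relIndex_eq_one] at h4
    exact le_antisymm h4 h1
  · right
    have h5 : X.relIndex M = 1 := by
      rw [h4] at h
      have h6 : p * X.relIndex M ∣ p * 1 := by rwa [mul_one]
      exact Nat.dvd_one.1 (Nat.dvd_of_mul_dvd_mul_left hp.out.pos h6)
    rw [Subgroup.relIndex_eq_one] at h5
    exact le_antisymm h2 h5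

/-- `[M, S]N` is smaller than `M`. -/
theorem comm_ne (hS : IsPGroup p S) {N M : Subgroup S} [hN : N.Normal] [hM : M.Normal] (hle : N ≤ M) (hne : N ≠ M) :
    ⁅M, (⊤ : Subgroup S)⁆ ⊔ N ≠ M := by
  intro h
  have hnil : Group.IsNilpotent S := hS.isNilpotent
  obtain ⟨n, hn⟩ := _root_.nilpotent_iff_lowerCentralSeries.1 hnil
  have key : ∀ k : ℕ, M ≤ (⊤ : Subgroup S).lowerCentralSeries k ⊔ N := by
    intro k
    induction k with
    | zero =>
      rw [Subgroup.lowerCentralSeries_zero, top_sup_eq]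
      exact le_top
    | succ k ih =>
      rw [← h]
      refine sup_le ?_ le_sup_right
      rw [Subgroup.commutator_le]
      intro a ha b _
      obtain ⟨l, hl, m, hm, rfl⟩ := Subgroup.mem_sup_of_normal_right.1 (ih ha)
      have e : ⁅l * m, b⁆ = l * ⁅m, b⁆ * l⁻¹ * ⁅l, b⁆ := by
        rw [commutatorElement_def, commutatorElement_def, commutatorElement_def]
        group
      rw [e]
      have h1 : ⁅m, b⁆ ∈ N := by
        rw [commutatorElement_def]
        have e2 : m * b * m⁻¹ * b⁻¹ = m * (b * m⁻¹ * b⁻¹) := by group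
        rw [e2]
        exact N.mul_mem hm (hN.conj_mem _ (N.inv_mem hm) _)
      have h2 : ⁅l, b⁆ ∈ (⊤ : Subgroup S).lowerCentralSeries (k + 1) := by
        rw [Subgroup.lowerCentralSeries_succ]
        exact Subgroup.subset_closure ⟨l, hl, b, mem_top b, rfl⟩
      exact mul_mem ((le_sup_right : N ≤ _) (hN.conj_mem _ h1 _)) ((le_sup_left : (⊤ : Subgroup S).lowerCentralSeries (k + 1) ≤ _) h2)
  have h1 := key n
  rw [hn, bot_sup_eq] at h1
  exact hne (le_antisymm hle h1)

/-- the `p`-group centralises normal sections of order `p` -/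
theorem comm_mem_of_prime (hS : IsPGroup p S) {N M : Subgroup S} [hN : N.Normal] [hM : M.Normal] (hle : N ≤ M)
    (hidx : N.relIndex M ∣ p) {m : S} (hm : m ∈ M) (s : S) : ⁅m, s⁆ ∈ N := by
  by_cases hne : N = M
  · rw [commutatorElement_def]
    have e2 : m * s * m⁻¹ * s⁻¹ = m * (s * m⁻¹ * s⁻¹) := by group
    rw [e2, hne]
    exact M.mul_mem hm (hM.conj_mem _ (M.inv_mem hm) _)
  · have h1 := comm_ne hS hle hne
    have h2 : ⁅M, (⊤ : Subgroup S)⁆ ≤ M := by
      rw [Subgroup.commutator_le]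
      intro a ha b _
      rw [commutatorElement_def]
      have e2 : a * b * a⁻¹ * b⁻¹ = a * (b * a⁻¹ * b⁻¹) := by group
      rw [e2]
      exact M.mul_mem ha (hM.conj_mem _ (M.inv_mem ha) _)
    rcases between (X := ⁅M, (⊤ : Subgroup S)⁆ ⊔ N) le_sup_right (sup_le h2 hle) hidx with h3 | h3
    · have h4 : ⁅m, s⁆ ∈ ⁅M, (⊤ : Subgroup S)⁆ ⊔ N :=
        (le_sup_left : ⁅M, (⊤ : Subgroup S)⁆ ≤ _) (commutator_mem_commutator hm (mem_top s))
      rwa [h3] at h4
    · exact (h1 h3).elim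

/-! ### The Frattini subgroup of a subgroup -/

/-- the Frattini subgroup of `E` as a subgroup of `S` -/
def Fr (E : Subgroup S) : Subgroup S := (frattini E).map E.subtype

theorem Fr_le (E : Subgroup S) : Fr E ≤ E := Subgroup.map_subtype_le _

theorem mem_Fr {E : Subgroup S} {x : E} : (x : S) ∈ Fr E ↔ x ∈ frattini E := by
  constructor
  · rintro ⟨y, hy, hxy⟩
    have : y = x := Subtype.ext hxy
    rwa [← this]
  · intro h
    exact ⟨x, h, rfl⟩

theorem comm_mem_Fr (hS : IsPGroup p S) {E : Subgroup S} {a b : S} (ha : a ∈ E) (hb : b ∈ E) :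
    ⁅a, b⁆ ∈ Fr E := by
  have h := Cfsg.Agent.S0014.commutator_mem_frattini (hS.to_subgroup E) (⟨a, ha⟩ : E) ⟨b, hb⟩
  rw [← mem_Fr] at h
  exact h

theorem pow_mem_Fr (hS : IsPGroup p S) {E : Subgroup S} {a : S} (ha : a ∈ E) :
    a ^ p ∈ Fr E := by
  have h := Cfsg.Agent.S0014.pow_mem_frattini (hS.to_subgroup E) (⟨a, ha⟩ : E)
  rw [← mem_Fr] at h
  exact h

theorem Fr_le_of (hS : IsPGroup p S) {E N : Subgroup S} (hle : N ≤ E)
    (hc : ∀ a ∈ E, ∀ b ∈ E, ⁅a, b⁆ ∈ N) (hpow : ∀ a ∈ E, a ^ p ∈ N) : Fr E ≤ N := by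
  have hn : (N.subgroupOf E).Normal := by
    refine ⟨fun n hn g => ?_⟩
    rw [Subgroup.mem_subgroupOf] at hn ⊢
    have h1 := hc g g.2 n n.2
    rw [commutatorElement_def] at h1
    have h2 := N.mul_mem h1 hn
    rwa [inv_mul_cancel_right] at h2
  have h := Cfsg.Agent.Lib.FrattiniPGroup.frattini_le (p := p) (N.subgroupOf E)
    (fun a b => by
      rw [Subgroup.mem_subgroupOf]
      exact hc a a.2 b b.2)
    (fun a => by
      rw [Subgroup.mem_subgroupOf]
      exact hpow a a.2)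
  rintro _ ⟨x, hx, rfl⟩
  exact h hx

theorem Fr_mono (hS : IsPGroup p S) {E M : Subgroup S} (h : E ≤ M) : Fr E ≤ Fr M ⊓ E := by
  refine Fr_le_of hS inf_le_right (fun a ha b hb => ⟨comm_mem_Fr hS (h ha) (h hb), ?_⟩)
    (fun a ha => ⟨pow_mem_Fr hS (h ha), E.pow_mem ha p⟩)
  show ⁅a, b⁆ ∈ E
  rw [commutatorElement_def]
  exact E.mul_mem (E.mul_mem (E.mul_mem ha hb) (E.inv_mem ha)) (E.inv_mem hb)

theorem Fr_mono' (hS : IsPGroup p S) {E M : Subgroup S} (h : E ≤ M) : Fr E ≤ Fr M :=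
  (Fr_mono hS h).trans inf_le_left

instance Fr_normal {E : Subgroup S} [hE : E.Normal] : (Fr E).Normal := by
  refine ⟨?_⟩
  rintro _ ⟨x, hx, rfl⟩ g
  have h1 : (frattini E).Characteristic := inferInstance
  rw [Subgroup.characteristic_iff_map_le] at h1
  exact ⟨MulAut.conjNormal g x, h1 (MulAut.conjNormal g) ⟨x, hx, rfl⟩, MulAut.conjNormal_apply g x⟩

/-- The Frattini subgroup consists of nongenerators. -/
theorem eq_of_sup_Fr {M E : Subgroup S} (hM : M ≤ E) (h : M ⊔ Fr E = E) : M = E := by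
  have h1 : M.subgroupOf E ⊔ frattini E = ⊤ := by
    rw [eq_top_iff]
    intro x _
    have h2 : (M ⊔ Fr E).subgroupOf E = M.subgroupOf E ⊔ (Fr E).subgroupOf E :=
      Subgroup.subgroupOf_sup hM (Fr_le E)
    have h3 : (Fr E).subgroupOf E = frattini E := by
      ext y
      rw [Subgroup.mem_subgroupOf]
      exact mem_Fr
    rw [← h3, ← h2, h, Subgroup.mem_subgroupOf]
    exact x.2
  have h2 := frattini_nongenerating h1
  apply le_antisymm hM
  intro x hx
  have h3 : (⟨x, hx⟩ : E) ∈ M.subgroupOf E := by rw [h2]; exact mem_top _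
  exact h3

theorem Fr_ne (hS : IsPGroup p S) {E : Subgroup S} (hE : E ≠ ⊥) : Fr E ≠ E := by
  intro h
  apply hE
  have := eq_of_sup_Fr (M := ⊥) (E := E) bot_le (by rw [bot_sup_eq, h])
  exact this.symm

theorem Fr_map {E : Subgroup S} (φ : MulAut S) (hφ : E.map φ.toMonoidHom = E) : (Fr E).map φ.toMonoidHom = Fr E := by
  have hle : ∀ (ψ : MulAut S), E.map ψ.toMonoidHom = E → (Fr E).map ψ.toMonoidHom ≤ Fr E := by
    intro ψ hψ
    have hm : ∀ x ∈ E, ψ x ∈ E := fun x hx => by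
      rw [← hψ]
      exact ⟨x, hx, rfl⟩
    let f : E →* E := (ψ.toMonoidHom.comp E.subtype).codRestrict E (fun x => hm x x.2)
    have hf : Function.Bijective f := by
      have hi : Function.Injective f := fun a b hab => Subtype.ext (ψ.injective (congrArg Subtype.val hab))
      exact (Finite.injective_iff_bijective).1 hi
    have h1 : (frattini E).Characteristic := inferInstance
    rw [Subgroup.characteristic_iff_map_le] at h1
    rintro _ ⟨_, ⟨x, hx, rfl⟩, rfl⟩
    exact ⟨f x, h1 (MulEquiv.ofBijective f hf) ⟨x, hx, rfl⟩, rfl⟩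
  apply le_antisymm (hle φ hφ)
  have h2 := hle φ⁻¹ (by
    have h3 := congrArg (Subgroup.map (φ⁻¹ : MulAut S).toMonoidHom) hφ
    rw [Subgroup.map_map] at h3
    have h4 : ((φ⁻¹ : MulAut S).toMonoidHom).comp φ.toMonoidHom = MonoidHom.id S := by
      ext x
      exact MulAut.inv_apply_self S φ x
    rw [h4, Subgroup.map_id] at h3
    exact h3.symm)
  intro x hx
  refine ⟨φ⁻¹ x, h2 ⟨x, hx, rfl⟩, ?_⟩
  exact MulAut.apply_inv_self S φ x

end Cfsg.Agent.H767.TE
end

-- part: H767/TENat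
section
/-!
# Transvection groups on elementary abelian groups of order at most `p³` (helper767)
-/

set_option autoImplicit false
set_option linter.unusedSectionVars false
set_option linter.unusedVariables false

namespace Cfsg.Agent.H767.TE

open Subgroup

section

variable {X V : Type*} [Group X] [Finite X] [CommGroup V] [Finite V] {p : ℕ} [hp : Fact p.Prime]

/-- `v ↦ α(v)v⁻¹` -/
def dl (α : MulAut V) : V →* V where
  toFun v := α v * v⁻¹
  map_one' := by simp
  map_mul' a b := by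
    rw [map_mul, mul_inv]
    exact mul_mul_mul_comm _ _ _ _

theorem dl_apply (α : MulAut V) (v : V) : dl α v = α v * v⁻¹ := rfl

theorem apply_eq (α : MulAut V) (v : V) : α v = v * dl α v := by
  rw [dl_apply, mul_comm (α v), mul_inv_cancel_left]

theorem pow_apply_choose (α : MulAut V) {v a b : V} (h1 : α v = v * a) (h2 : α a = a * b) (h3 : α b = b) (n : ℕ) :
    (α ^ n) v = v * a ^ n * b ^ (n.choose 2) := by
  induction n with
  | zero => simp
  | succ n ih =>
    rw [pow_succ', MulAut.mul_apply, ih, map_mul, map_mul, map_pow, map_pow, h1, h2, h3]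
    have h4 : ((n + 1).choose 2 : ℕ) = n + n.choose 2 := by
      rw [Nat.choose_succ_succ' n 1, Nat.choose_one_right]
    rw [h4, mul_pow, pow_add b, pow_succ a]
    simp only [mul_assoc, mul_comm]

theorem zpow_apply (α : MulAut V) {v a : V} (h1 : α v = v * a) (h2 : α a = a) (n : ℤ) :
    (α ^ n) v = v * a ^ n := by
  have hnat : ∀ (β : MulAut V) (b : V), β v = v * b → β b = b → ∀ m : ℕ, (β ^ m) v = v * b ^ m := by
    intro β b e1 e2 m
    have := pow_apply_choose β e1 (b := 1) (by rw [mul_one]; exact e2) (map_one β) m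
    rw [one_pow, mul_one] at this
    exact this
  cases n with
  | ofNat m =>
    show (α ^ ((m : ℕ) : ℤ)) v = v * a ^ ((m : ℕ) : ℤ)
    rw [zpow_natCast, zpow_natCast]
    exact hnat α a h1 h2 m
  | negSucc m =>
    have e2 : α⁻¹ a = a := by
      rw [MulAut.inv_apply, MulEquiv.symm_apply_eq, h2]
    have e1 : α⁻¹ v = v * a⁻¹ := by
      rw [MulAut.inv_apply, MulEquiv.symm_apply_eq, map_mul, map_inv, h1, h2, mul_inv_cancel_right]
    have := hnat α⁻¹ a⁻¹ e1 (by rw [map_inv, e2]) (m + 1)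
    rw [zpow_negSucc, zpow_negSucc, ← inv_pow, ← inv_pow]
    exact this

variable (ρ : X →* MulAut V)

/-- the subgroup of `X` stabilising the chain `1 ≤ c₁ ≤ c₂ ≤ V` -/
def stab (c1 c2 : Subgroup V) (hle : c1 ≤ c2) : Subgroup X where
  carrier := {x | (∀ v, ρ x v * v⁻¹ ∈ c2) ∧ (∀ v ∈ c2, ρ x v * v⁻¹ ∈ c1) ∧ (∀ v ∈ c1, ρ x v = v)}
  mul_mem' := by
    rintro x y ⟨hx1, hx2, hx3⟩ ⟨hy1, hy2, hy3⟩
    have key : ∀ v, ρ (x * y) v * v⁻¹ = (ρ x (ρ y v) * (ρ y v)⁻¹) * (ρ y v * v⁻¹) := by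
      intro v
      rw [map_mul, MulAut.mul_apply]
      group
    refine ⟨fun v => ?_, fun v hv => ?_, fun v hv => ?_⟩
    · rw [key]
      exact mul_mem (hx1 _) (hy1 _)
    · rw [key]
      have h1 : ρ y v ∈ c2 := by
        have := c2.mul_mem (hle (hy2 v hv)) hv
        rwa [inv_mul_cancel_right] at this
      exact mul_mem (hx2 _ h1) (hy2 _ hv)
    · rw [map_mul, MulAut.mul_apply, hy3 v hv, hx3 v hv]
  one_mem' := by
    refine ⟨fun v => ?_, fun v hv => ?_, fun v hv => ?_⟩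
    · rw [map_one, MulAut.one_apply, mul_inv_cancel]
      exact c2.one_mem
    · rw [map_one, MulAut.one_apply, mul_inv_cancel]
      exact c1.one_mem
    · rw [map_one, MulAut.one_apply]
  inv_mem' := by
    rintro x ⟨hx1, hx2, hx3⟩
    have e : ∀ v, ρ x (ρ x⁻¹ v) = v := by
      intro v
      rw [← MulAut.mul_apply, ← map_mul, mul_inv_cancel, map_one, MulAut.one_apply]
    have key : ∀ v, ρ x⁻¹ v * v⁻¹ = (ρ x (ρ x⁻¹ v) * (ρ x⁻¹ v)⁻¹)⁻¹ := by
      intro v
      rw [e v]
      group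
    have h1 : ∀ v, ρ x⁻¹ v * v⁻¹ ∈ c2 := fun v => by
      rw [key]
      exact inv_mem (hx1 _)
    refine ⟨h1, fun v hv => ?_, fun v hv => ?_⟩
    · rw [key]
      refine inv_mem (hx2 _ ?_)
      have := c2.mul_mem (h1 v) hv
      rwa [inv_mul_cancel_right] at this
    · have h2 := hx3 v hv
      have h3 : ρ x⁻¹ (ρ x v) = v := by
        rw [← MulAut.mul_apply, ← map_mul, inv_mul_cancel, map_one, MulAut.one_apply]
      rwa [h2] at h3

/-- the chain stabiliser is a `p`-group when the kernel is -/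
theorem isPGroup_stab (hexp : ∀ v : V, v ^ p = 1) (h2 : p ≠ 2) (hker : IsPGroup p ρ.ker) (c1 c2 : Subgroup V)
    (hle : c1 ≤ c2) : IsPGroup p (stab ρ c1 c2 hle) := by
  rintro ⟨x, hx1, hx2, hx3⟩
  have h1 : (ρ x) ^ p = 1 := by
    ext v
    have e := pow_apply_choose (ρ x) (v := v) (a := dl (ρ x) v) (b := dl (ρ x) (dl (ρ x) v)) (apply_eq _ _)
      (apply_eq _ _) (hx3 _ (hx2 _ (hx1 v))) p
    have hdvd : p ∣ p.choose 2 := hp.out.dvd_choose_self (by norm_num) (lt_of_le_of_ne hp.out.two_le (Ne.symm h2))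
    obtain ⟨k, hk⟩ := hdvd
    rw [hexp, mul_one, hk, pow_mul, hexp, one_pow, mul_one] at e
    exact e
  have h3 : x ^ p ∈ ρ.ker := by rw [MonoidHom.mem_ker, map_pow, h1]
  obtain ⟨k, hk⟩ := hker ⟨x ^ p, h3⟩
  refine ⟨k + 1, ?_⟩
  apply Subtype.ext
  show x ^ p ^ (k + 1) = 1
  rw [pow_succ', pow_mul]
  exact congrArg Subtype.val hk

/-- two subgroups whose product group is a `p`-group -/
theorem conj_eq_of_le {Q : Subgroup X} (hmax : ∀ R : Subgroup X, IsPGroup p R → Q ≤ R → R = Q) {x : X} {R : Subgroup X}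
    (hR : IsPGroup p R) (h1 : Q ≤ R) (h2 : Q.map (MulAut.conj x).toMonoidHom ≤ R) :
    Q.map (MulAut.conj x).toMonoidHom = Q := by
  have h3 := hmax R hR h1
  rw [h3] at h2
  refine Subgroup.eq_of_le_of_card_ge h2 ?_
  rw [Subgroup.card_map_of_injective (MulAut.conj x).injective]

/-- the data of a group acting with quadratic `p`-elements -/
structure QData (p : ℕ) (ρ : X →* MulAut V) (Q : Subgroup X) (g : X) : Prop where
  exp : ∀ v : V, v ^ p = 1
  card : Nat.card V ≤ p ^ 3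
  odd : p ≠ 2
  ker : IsPGroup p ρ.ker
  pQ : IsPGroup p Q
  max : ∀ R : Subgroup X, IsPGroup p R → Q ≤ R → R = Q
  gQ : g ∈ Q
  gen : ∀ q ∈ Q, ∃ n : ℤ, ρ q = (ρ g) ^ n
  ne : ρ g ≠ 1
  quad : ∀ v : V, ρ g (dl (ρ g) v) = dl (ρ g) v

variable {ρ} {Q : Subgroup X} {g : X}

theorem QData.card_range (D : QData p ρ Q g) : Nat.card (dl (ρ g)).range = p := by
  have h1 := (dl (ρ g)).ker.card_mul_index
  rw [Subgroup.index_ker] at h1
  have h2 : (dl (ρ g)).range ≤ (dl (ρ g)).ker := by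
    rintro _ ⟨v, rfl⟩
    rw [MonoidHom.mem_ker, dl_apply, D.quad, mul_inv_cancel]
  have h3 := Subgroup.card_le_of_le h2
  have hV : IsPGroup p V := fun v => ⟨1, by rw [pow_one]; exact D.exp v⟩
  obtain ⟨k, hk⟩ := (IsPGroup.iff_card.1 (hV.to_subgroup (dl (ρ g)).range))
  have hk0 : k ≠ 0 := by
    rintro rfl
    rw [pow_zero] at hk
    have h4 := Subgroup.eq_bot_of_card_eq _ hk
    apply D.ne
    ext v
    have h5 : dl (ρ g) v ∈ (dl (ρ g)).range := ⟨v, rfl⟩
    rw [h4, Subgroup.mem_bot, dl_apply, mul_inv_eq_one] at h5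
    exact h5
  have hk1 : k ≤ 1 := by
    by_contra h
    have h4 : p ^ (2 * k) ≤ p ^ 3 := by
      calc p ^ (2 * k) = p ^ k * p ^ k := by rw [two_mul, pow_add]
        _ = Nat.card (dl (ρ g)).range * Nat.card (dl (ρ g)).range := by rw [hk]
        _ ≤ Nat.card (dl (ρ g)).ker * Nat.card (dl (ρ g)).range := Nat.mul_le_mul_right _ h3
        _ = Nat.card V := h1
        _ ≤ p ^ 3 := D.card
    rw [Nat.pow_le_pow_iff_right hp.out.one_lt] at h4
    omega
  have hk' : k = 1 := by omega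
  rw [hk, hk', pow_one]

/-- conjugating the data -/
theorem QData.conj (D : QData p ρ Q g) (x : X) :
    QData p ρ (Q.map (MulAut.conj x).toMonoidHom) (x * g * x⁻¹) where
  exp := D.exp
  card := D.card
  odd := D.odd
  ker := D.ker
  pQ := D.pQ.map _
  max R hR hQR := by
    have h1 := D.max (R.map (MulAut.conj x⁻¹).toMonoidHom) (hR.map _) (by
      intro q hq
      refine ⟨x * q * x⁻¹, hQR ⟨q, hq, rfl⟩, ?_⟩
      show x⁻¹ * (x * q * x⁻¹) * x⁻¹⁻¹ = q
      group)
    rw [← h1, Subgroup.map_map]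
    have h2 : ((MulAut.conj x).toMonoidHom).comp (MulAut.conj x⁻¹).toMonoidHom = MonoidHom.id X := by
      ext z
      show x * (x⁻¹ * z * x⁻¹⁻¹) * x⁻¹ = z
      group
    rw [h2, Subgroup.map_id]
  gQ := ⟨g, D.gQ, rfl⟩
  gen := by
    rintro _ ⟨q, hq, rfl⟩
    obtain ⟨n, hn⟩ := D.gen q hq
    refine ⟨n, ?_⟩
    show ρ (x * q * x⁻¹) = (ρ (x * g * x⁻¹)) ^ n
    rw [map_mul, map_mul, map_mul, map_mul, hn, map_inv, conj_zpow]
  ne := by
    intro h
    rw [map_mul, map_mul, map_inv, mul_inv_eq_one] at h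
    exact D.ne (mul_eq_left.1 h)
  quad v := by
    have e : ∀ v, dl (ρ (x * g * x⁻¹)) v = ρ x (dl (ρ g) (ρ x⁻¹ v)) := by
      intro v
      have e2 : ρ x (ρ x⁻¹ v) = v := by
        rw [← MulAut.mul_apply, ← map_mul, mul_inv_cancel, map_one, MulAut.one_apply]
      rw [dl_apply, dl_apply, map_mul (ρ x), map_inv (ρ x), e2, map_mul ρ, map_mul ρ, MulAut.mul_apply,
        MulAut.mul_apply]
    have e2 : ρ x⁻¹ (dl (ρ (x * g * x⁻¹)) v) = dl (ρ g) (ρ x⁻¹ v) := by
      rw [e, ← MulAut.mul_apply, ← map_mul, inv_mul_cancel, map_one, MulAut.one_apply]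
    have e3 : ρ (x * g * x⁻¹) (dl (ρ (x * g * x⁻¹)) v) = ρ x (ρ g (ρ x⁻¹ (dl (ρ (x * g * x⁻¹)) v))) := by
      rw [map_mul, map_mul, MulAut.mul_apply, MulAut.mul_apply]
    rw [e3, e2, D.quad, e]

/-- If `h` fixes `[V, g]` then `g` and `h` generate a `p`-group. -/
theorem QData.pair {Q' : Subgroup X} {h : X} (D : QData p ρ Q g) (D' : QData p ρ Q' h)
    (hfix : ∀ v, ρ h (dl (ρ g) v) = dl (ρ g) v) : Q' = Q := by
  set c1 := (dl (ρ g)).range with hc1
  set c2 := (dl (ρ g)).range ⊔ (dl (ρ h)).range with hc2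
  have hle : c1 ≤ c2 := le_sup_left
  -- `g` and `h` fix `c1`; they act trivially on `c2/c1`
  have hg : g ∈ stab ρ c1 c2 hle := by
    refine ⟨fun v => hle ⟨v, rfl⟩, fun v _ => ⟨v, rfl⟩, ?_⟩
    rintro _ ⟨v, rfl⟩
    exact D.quad v
  have hh : h ∈ stab ρ c1 c2 hle := by
    refine ⟨fun v => (le_sup_right : (dl (ρ h)).range ≤ c2) ⟨v, rfl⟩, fun v hv => ?_, ?_⟩
    · -- `h` fixes `c2`
      obtain ⟨a, ⟨a', rfl⟩, b, ⟨b', rfl⟩, rfl⟩ := Subgroup.mem_sup.1 hv
      rw [map_mul, hfix, D'.quad, mul_inv_cancel]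
      exact c1.one_mem
    · rintro _ ⟨v, rfl⟩
      exact hfix v
  have hp1 := isPGroup_stab ρ D.exp D.odd D.ker c1 c2 hle
  -- all of `Q` and `Q'`
  have hkerle : ρ.ker ≤ stab ρ c1 c2 hle := by
    intro x hx
    rw [MonoidHom.mem_ker] at hx
    refine ⟨fun v => ?_, fun v _ => ?_, fun v _ => ?_⟩
    · rw [hx, MulAut.one_apply, mul_inv_cancel]
      exact c2.one_mem
    · rw [hx, MulAut.one_apply, mul_inv_cancel]
      exact c1.one_mem
    · rw [hx, MulAut.one_apply]
  have key : ∀ (y x : X) (n : ℤ), x ∈ stab ρ c1 c2 hle → ρ y = (ρ x) ^ n → y ∈ stab ρ c1 c2 hle := by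
    intro y x n hx hy
    have h1 : y * (x ^ n)⁻¹ ∈ ρ.ker := by
      rw [MonoidHom.mem_ker, map_mul, map_inv, map_zpow, hy, mul_inv_cancel]
    have h2 := mul_mem (hkerle h1) (zpow_mem hx n)
    rwa [inv_mul_cancel_right] at h2
  have hQ : Q ≤ stab ρ c1 c2 hle := by
    intro q hq
    obtain ⟨n, hn⟩ := D.gen q hq
    exact key q g n hg hn
  have hQ' : Q' ≤ stab ρ c1 c2 hle := by
    intro q hq
    obtain ⟨n, hn⟩ := D'.gen q hq
    exact key q h n hh hn
  rw [← D.max _ hp1 hQ]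
  exact (D'.max _ hp1 hQ').symm

theorem zpowers_eq_of_prime {Z : Subgroup V} (hZ : Nat.card Z = p) {z : V} (hz : z ∈ Z) (hz1 : z ≠ 1) :
    zpowers z = Z := by
  refine Subgroup.eq_of_le_of_card_ge (by rw [zpowers_le]; exact hz) ?_
  rw [hZ, Nat.card_zpowers]
  have h1 : orderOf z ∣ p := by
    rw [← hZ]
    exact Subgroup.orderOf_dvd_natCard _ hz
  rcases (Nat.dvd_prime hp.out).1 h1 with h2 | h2
  · exact (hz1 (orderOf_eq_one_iff.1 h2)).elim
  · exact h2.ge

/-- The conclusions for a transvection group. -/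
structure NatOut (p : ℕ) (ρ : X →* MulAut V) (Q : Subgroup X) (V0 V1 : Subgroup V) (τ : X) : Prop where
  mem : τ ∈ Subgroup.normalClosure (Q : Set X)
  inv0 : ∀ x, ∀ v ∈ V0, ρ x v ∈ V0
  inv1 : ∀ x, ∀ v ∈ V1, ρ x v ∈ V1
  inf : V0 ⊓ V1 = ⊥
  sup : V0 ⊔ V1 = ⊤
  card : Nat.card V0 = p ^ 2
  neg : ∀ v ∈ V0, ρ τ v = v⁻¹
  pos : ∀ v ∈ V1, ρ τ v = v
  irr : ∀ U ≤ V0, (∀ x, ∀ v ∈ U, ρ x v ∈ U) → U = ⊥ ∨ U = V0
  triv : ∀ x ∈ Subgroup.normalClosure (Q : Set X), ∀ v ∈ V1, ρ x v = v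
  comm : ∀ x ∈ Subgroup.normalClosure (Q : Set X), ∀ v, ρ x v * v⁻¹ ∈ V0

theorem QData.main (D : QData p ρ Q g) (hx : ∃ x : X, Q.map (MulAut.conj x).toMonoidHom ≠ Q) :
    ∃ (V0 V1 : Subgroup V) (τ : X), NatOut p ρ Q V0 V1 τ := by
  obtain ⟨x, hx⟩ := hx
  set h := x * g * x⁻¹ with hh
  set Q' := Q.map (MulAut.conj x).toMonoidHom with hQ'
  have D' : QData p ρ Q' h := D.conj x
  have nfix1 : ¬ ∀ v, ρ h (dl (ρ g) v) = dl (ρ g) v := fun hf => hx (D.pair D' hf)
  have nfix2 : ¬ ∀ v, ρ g (dl (ρ h) v) = dl (ρ h) v := fun hf => hx (D'.pair D hf).symm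
  push Not at nfix1 nfix2
  obtain ⟨v1, hv1⟩ := nfix1
  obtain ⟨v2, hv2⟩ := nfix2
  set f := dl (ρ h) v2 with hf
  set e := dl (ρ g) f with he
  have hge : ρ g e = e := D.quad f
  have hgf : ρ g f = f * e := apply_eq _ _
  have hhf : ρ h f = f := D'.quad v2
  have he1 : e ≠ 1 := by
    intro h1
    rw [h1, mul_one] at hgf
    exact hv2 hgf
  have hf1 : f ≠ 1 := by
    intro h1
    apply hv2
    rw [h1, map_one]
  have hRe : zpowers e = (dl (ρ g)).range := zpowers_eq_of_prime D.card_range ⟨f, rfl⟩ he1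
  have hRf : zpowers f = (dl (ρ h)).range := zpowers_eq_of_prime D'.card_range ⟨v2, rfl⟩ hf1
  have hhe : ρ h e ≠ e := by
    intro h1
    apply hv1
    have h2 : dl (ρ g) v1 ∈ zpowers e := by rw [hRe]; exact ⟨v1, rfl⟩
    obtain ⟨n, hn⟩ := h2
    simp only at hn
    rw [← hn, map_zpow, h1]
  set f1 := dl (ρ h) e with hf1'
  have hf11 : f1 ≠ 1 := by
    intro h1
    apply hhe
    rw [apply_eq (ρ h) e, ← hf1', h1, mul_one]
  have hhe' : ρ h e = e * f1 := apply_eq _ _
  have hhf1 : ρ h f1 = f1 := D'.quad e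
  have hRf1 : zpowers f1 = zpowers f := by
    rw [hRf]
    exact zpowers_eq_of_prime D'.card_range ⟨e, rfl⟩ hf11
  have hoe : orderOf e = p := orderOf_eq_prime (D.exp e) he1
  have hof : orderOf f = p := orderOf_eq_prime (D.exp f) hf1
  have hof1 : orderOf f1 = p := orderOf_eq_prime (D.exp f1) hf11
  obtain ⟨b, hb⟩ : ∃ b : ℤ, f1 ^ b = f⁻¹ := by
    have h1 : f⁻¹ ∈ zpowers f1 := by rw [hRf1]; exact inv_mem (mem_zpowers f)
    exact h1
  -- the two subspaces
  set V0 := zpowers e ⊔ zpowers f with hV0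
  set V1 := (dl (ρ g)).ker ⊓ (dl (ρ h)).ker with hV1
  have heV : e ∈ V0 := (le_sup_left : zpowers e ≤ V0) (mem_zpowers e)
  have hfV : f ∈ V0 := (le_sup_right : zpowers f ≤ V0) (mem_zpowers f)
  have hgz : ∀ a ∈ zpowers e, ρ g a = a := by
    rintro _ ⟨n, rfl⟩
    simp only
    rw [map_zpow, hge]
  have hhz : ∀ a ∈ zpowers f, ρ h a = a := by
    rintro _ ⟨n, rfl⟩
    simp only
    rw [map_zpow, hhf]
  have hgfz : ∀ n : ℤ, ρ g (f ^ n) = f ^ n * e ^ n := by
    intro n
    rw [map_zpow, hgf, mul_zpow]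
  have hhez : ∀ n : ℤ, ρ h (e ^ n) = e ^ n * f1 ^ n := by
    intro n
    rw [map_zpow, hhe', mul_zpow]
  have hdisj : zpowers e ⊓ zpowers f = ⊥ := by
    rw [eq_bot_iff]
    rintro z ⟨hz1, hz2⟩
    obtain ⟨n, hn⟩ := hz2
    simp only at hn
    have h1 := hgfz n
    rw [hn, hgz z hz1] at h1
    have h2 : e ^ n = 1 := mul_eq_left.1 h1.symm
    have h3 : (p : ℤ) ∣ n := by rw [← hoe]; exact orderOf_dvd_iff_zpow_eq_one.2 h2
    obtain ⟨m, rfl⟩ := h3
    rw [Subgroup.mem_bot, ← hn, zpow_mul, zpow_natCast, D.exp, one_zpow]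
  have hcardV0 : Nat.card V0 = p ^ 2 := by
    have h1 := Subgroup.relIndex_mul_relIndex ⊥ (zpowers e) V0 bot_le le_sup_left
    rw [Subgroup.relIndex_bot_left, Subgroup.relIndex_bot_left, hV0, Subgroup.relIndex_sup_left,
      ← Subgroup.inf_relIndex_right, hdisj, Subgroup.relIndex_bot_left, Nat.card_zpowers, Nat.card_zpowers, hoe,
      hof] at h1
    rw [← h1, pow_two]
  have hmemV0 : ∀ z ∈ V0, ∃ m n : ℤ, z = e ^ m * f ^ n := by
    intro z hz
    obtain ⟨a, ⟨m, rfl⟩, c, ⟨n, rfl⟩, rfl⟩ := Subgroup.mem_sup.1 hz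
    exact ⟨m, n, rfl⟩
  have hinf : V0 ⊓ V1 = ⊥ := by
    rw [eq_bot_iff]
    rintro z ⟨hz, hz1, hz2⟩
    obtain ⟨m, n, rfl⟩ := hmemV0 z hz
    have h1 : ρ g (e ^ m * f ^ n) = e ^ m * f ^ n := by
      have : dl (ρ g) (e ^ m * f ^ n) = 1 := hz1
      rwa [dl_apply, mul_inv_eq_one] at this
    rw [map_mul, hgfz, hgz _ (zpow_mem (mem_zpowers e) m), ← mul_assoc] at h1
    have h2 : e ^ n = 1 := mul_eq_left.1 h1
    have h3 : (p : ℤ) ∣ n := by rw [← hoe]; exact orderOf_dvd_iff_zpow_eq_one.2 h2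
    obtain ⟨k, rfl⟩ := h3
    have h4 : f ^ ((p : ℤ) * k) = 1 := by rw [zpow_mul, zpow_natCast, D.exp, one_zpow]
    have h5 : ρ h (e ^ m * f ^ ((p : ℤ) * k)) = e ^ m * f ^ ((p : ℤ) * k) := by
      have : dl (ρ h) (e ^ m * f ^ ((p : ℤ) * k)) = 1 := hz2
      rwa [dl_apply, mul_inv_eq_one] at this
    rw [h4, mul_one, hhez] at h5
    have h6 : f1 ^ m = 1 := mul_eq_left.1 h5
    have h7 : (p : ℤ) ∣ m := by rw [← hof1]; exact orderOf_dvd_iff_zpow_eq_one.2 h6
    obtain ⟨l, rfl⟩ := h7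
    rw [Subgroup.mem_bot, h4, mul_one, zpow_mul, zpow_natCast, D.exp, one_zpow]
  have hsup : V0 ⊔ V1 = ⊤ := by
    rw [eq_top_iff]
    intro v _
    have h1 : dl (ρ g) v ∈ zpowers e := by rw [hRe]; exact ⟨v, rfl⟩
    obtain ⟨m, hm⟩ := h1
    simp only at hm
    have h2 : dl (ρ h) (v * (f ^ m)⁻¹) ∈ zpowers f1 := by rw [hRf1, hRf]; exact ⟨_, rfl⟩
    obtain ⟨n, hn⟩ := h2
    simp only at hn
    have hde : dl (ρ g) e = 1 := by rw [dl_apply, hge, mul_inv_cancel]
    have hdf : dl (ρ g) f = e := rfl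
    have hde' : dl (ρ h) e = f1 := rfl
    have h3 : v * (f ^ m)⁻¹ * (e ^ n)⁻¹ ∈ V1 := by
      refine ⟨?_, ?_⟩
      · show dl (ρ g) (v * (f ^ m)⁻¹ * (e ^ n)⁻¹) = 1
        rw [map_mul, map_mul, map_inv, map_inv, map_zpow, map_zpow, hdf, hde, ← hm, one_zpow, inv_one, mul_one,
          mul_inv_cancel]
      · show dl (ρ h) (v * (f ^ m)⁻¹ * (e ^ n)⁻¹) = 1
        rw [map_mul, ← hn, map_inv, map_zpow, hde', mul_inv_cancel]
    have h4 : v = (e ^ n * f ^ m) * (v * (f ^ m)⁻¹ * (e ^ n)⁻¹) := by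
      rw [mul_assoc v, ← mul_inv_rev, mul_left_comm, mul_inv_cancel, mul_one]
    rw [h4]
    exact Subgroup.mul_mem_sup (mul_mem (zpow_mem heV n) (zpow_mem hfV m)) h3
  -- the subgroup of elements acting trivially on `V/V0` and `V1`
  let Pg : Subgroup X :=
    { carrier := {y | (∀ v, ρ y v * v⁻¹ ∈ V0) ∧ (∀ v ∈ V1, ρ y v = v)}
      mul_mem' := by
        rintro y z ⟨hy1, hy2⟩ ⟨hz1, hz2⟩
        refine ⟨fun v => ?_, fun v hv => ?_⟩
        · have key : ρ (y * z) v * v⁻¹ = (ρ y (ρ z v) * (ρ z v)⁻¹) * (ρ z v * v⁻¹) := by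
            rw [map_mul, MulAut.mul_apply]
            group
          rw [key]
          exact mul_mem (hy1 _) (hz1 _)
        · rw [map_mul, MulAut.mul_apply, hz2 v hv, hy2 v hv]
      one_mem' := by
        refine ⟨fun v => ?_, fun v hv => ?_⟩
        · rw [map_one, MulAut.one_apply, mul_inv_cancel]
          exact V0.one_mem
        · rw [map_one, MulAut.one_apply]
      inv_mem' := by
        rintro y ⟨hy1, hy2⟩
        refine ⟨fun v => ?_, fun v hv => ?_⟩
        · have e2 : ρ y (ρ y⁻¹ v) = v := by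
            rw [← MulAut.mul_apply, ← map_mul, mul_inv_cancel, map_one, MulAut.one_apply]
          have key : ρ y⁻¹ v * v⁻¹ = (ρ y (ρ y⁻¹ v) * (ρ y⁻¹ v)⁻¹)⁻¹ := by
            rw [e2]
            group
          rw [key]
          exact inv_mem (hy1 _)
        · have h2 := hy2 v hv
          have h3 : ρ y⁻¹ (ρ y v) = v := by
            rw [← MulAut.mul_apply, ← map_mul, inv_mul_cancel, map_one, MulAut.one_apply]
          rwa [h2] at h3 }
  have hPz : ∀ (y z : X) (n : ℤ), z ∈ Pg → ρ y = (ρ z) ^ n → y ∈ Pg := by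
    intro y z n hz hy
    obtain ⟨h1, h2⟩ := zpow_mem hz n
    refine ⟨fun v => ?_, fun v hv => ?_⟩
    · have h3 := h1 v
      rwa [map_zpow, ← hy] at h3
    · have h3 := h2 v hv
      rwa [map_zpow, ← hy] at h3
  have hgP : g ∈ Pg := by
    refine ⟨fun v => ?_, fun v hv => ?_⟩
    · apply (le_sup_left : zpowers e ≤ V0)
      rw [hRe]
      exact ⟨v, rfl⟩
    · have h3 : dl (ρ g) v = 1 := hv.1
      rwa [dl_apply, mul_inv_eq_one] at h3
  have hhP : h ∈ Pg := by
    refine ⟨fun v => ?_, fun v hv => ?_⟩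
    · apply (le_sup_right : zpowers f ≤ V0)
      rw [hRf]
      exact ⟨v, rfl⟩
    · have h3 : dl (ρ h) v = 1 := hv.2
      rwa [dl_apply, mul_inv_eq_one] at h3
  have hQP : Q ≤ Pg := by
    intro q hq
    obtain ⟨n, hn⟩ := D.gen q hq
    exact hPz q g n hgP hn
  have hQP' : Q' ≤ Pg := by
    intro q hq
    obtain ⟨n, hn⟩ := D'.gen q hq
    exact hPz q h n hhP hn
  -- all conjugates of `Q` lie in `Pg`
  have hall : ∀ y : X, Q.map (MulAut.conj y).toMonoidHom ≤ Pg := by
    intro y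
    have D'' := D.conj y
    set r := y * g * y⁻¹ with hr
    obtain ⟨u, hu, hu1, hru⟩ : ∃ u ∈ V0, u ≠ 1 ∧ ρ r u = u := by
      by_contra hcon
      push Not at hcon
      have hinj : Function.Injective ((dl (ρ r)).comp V0.subtype) := by
        rw [injective_iff_map_eq_one]
        intro z hz
        by_contra hz1
        have h1 : dl (ρ r) z = 1 := hz
        rw [dl_apply, mul_inv_eq_one] at h1
        exact hcon z z.2 (fun h2 => hz1 (Subtype.ext h2)) h1
      have h1 : Nat.card V0 ≤ Nat.card (dl (ρ r)).range := by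
        have hmap : ∀ z : V0, dl (ρ r) z ∈ (dl (ρ r)).range := fun z => ⟨z, rfl⟩
        exact Nat.card_le_card_of_injective (fun z => (⟨dl (ρ r) z, hmap z⟩ : (dl (ρ r)).range))
          (fun a c hac => hinj (congrArg Subtype.val hac))
      rw [hcardV0, D''.card_range, pow_two] at h1
      have := hp.out.one_lt
      nlinarith
    obtain ⟨a, ha, c, hc, hac⟩ := Subgroup.mem_sup.1 hu
    by_cases hc1 : c = 1
    · rw [hc1, mul_one] at hac
      rw [hac] at ha
      have h1 : zpowers u = (dl (ρ g)).range := by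
        refine zpowers_eq_of_prime D.card_range ?_ hu1
        rw [← hRe]
        exact ha
      have h2 := D.pair D'' (fun v => by
        have h3 : dl (ρ g) v ∈ zpowers u := by rw [h1]; exact ⟨v, rfl⟩
        obtain ⟨n, hn⟩ := h3
        simp only at hn
        rw [← hn, map_zpow, hru])
      rw [h2]
      exact hQP
    · have h1 : zpowers c = zpowers f := by
        rw [hRf]
        refine zpowers_eq_of_prime D'.card_range ?_ hc1
        rw [← hRf]
        exact hc
      obtain ⟨m, hm⟩ : ∃ m : ℤ, c ^ m = f := by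
        have h2 : f ∈ zpowers c := by rw [h1]; exact mem_zpowers f
        exact h2
      obtain ⟨n, hn⟩ : ∃ n : ℤ, e ^ n = a ^ m := zpow_mem ha m
      have hum : u ^ m = f * e ^ n := by
        rw [← hac, mul_zpow, hm, hn, mul_comm]
      have hgn : ρ (g ^ n) f = f * e ^ n := by
        rw [map_zpow]
        exact zpow_apply (ρ g) hgf hge n
      have D3 := D'.conj (g ^ n)
      have h2 := D3.pair D'' (fun v => by
        have e1 : dl (ρ (g ^ n * h * (g ^ n)⁻¹)) v = ρ (g ^ n) (dl (ρ h) (ρ (g ^ n)⁻¹ v)) := by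
          have e2 : ρ (g ^ n) (ρ (g ^ n)⁻¹ v) = v := by
            rw [← MulAut.mul_apply, ← map_mul, mul_inv_cancel, map_one, MulAut.one_apply]
          rw [dl_apply, dl_apply, map_mul (ρ (g ^ n)), map_inv (ρ (g ^ n)), e2, map_mul ρ, map_mul ρ,
            MulAut.mul_apply, MulAut.mul_apply]
        have e3 : dl (ρ h) (ρ (g ^ n)⁻¹ v) ∈ zpowers f := by rw [hRf]; exact ⟨_, rfl⟩
        obtain ⟨j, hj⟩ := e3
        simp only at hj
        rw [e1, ← hj, map_zpow, hgn, ← hum, map_zpow, map_zpow, hru])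
      rw [h2]
      rintro _ ⟨q, hq, rfl⟩
      exact mul_mem (mul_mem (zpow_mem hgP n) (hQP' hq)) (inv_mem (zpow_mem hgP n))
  have hL : Subgroup.normalClosure (Q : Set X) ≤ Pg := by
    rw [Subgroup.normalClosure, Subgroup.closure_le]
    intro z hz
    obtain ⟨q, hq, hqz⟩ := Group.mem_conjugatesOfSet_iff.1 hz
    obtain ⟨y, rfl⟩ := isConj_iff.1 hqz
    exact hall y ⟨q, hq, rfl⟩
  have hgL : g ∈ Subgroup.normalClosure (Q : Set X) := Subgroup.subset_normalClosure D.gQ
  have hhL : h ∈ Subgroup.normalClosure (Q : Set X) := by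
    have : (Subgroup.normalClosure (Q : Set X)).Normal := Subgroup.normalClosure_normal
    exact this.conj_mem _ hgL x
  -- invariance
  have hinv1 : ∀ y, ∀ v ∈ V1, ρ y v ∈ V1 := by
    intro y v hv
    have key : ∀ k ∈ Subgroup.normalClosure (Q : Set X), ρ k (ρ y v) = ρ y v := by
      intro k hk
      have hn : (Subgroup.normalClosure (Q : Set X)).Normal := Subgroup.normalClosure_normal
      have h1 := (hL (hn.conj_mem _ hk y⁻¹)).2 v hv
      have h2 : ρ (y * (y⁻¹ * k * y⁻¹⁻¹)) v = ρ y v := by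
        rw [map_mul, MulAut.mul_apply, h1]
      rw [← MulAut.mul_apply, ← map_mul, ← h2]
      congr 2
      group
    refine ⟨?_, ?_⟩
    · show dl (ρ g) (ρ y v) = 1
      rw [dl_apply, key g hgL, mul_inv_cancel]
    · show dl (ρ h) (ρ y v) = 1
      rw [dl_apply, key h hhL, mul_inv_cancel]
  have hinvc : ∀ (y k : X) (v : V), k ∈ Subgroup.normalClosure (Q : Set X) → ρ y (dl (ρ k) v) ∈ V0 := by
    intro y k v hk
    have hn : (Subgroup.normalClosure (Q : Set X)).Normal := Subgroup.normalClosure_normal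
    have h1 := (hL (hn.conj_mem _ hk y)).1 (ρ y v)
    have e2 : ρ (y * k * y⁻¹) (ρ y v) * (ρ y v)⁻¹ = ρ y (dl (ρ k) v) := by
      rw [dl_apply, map_mul (ρ y), map_inv (ρ y), ← MulAut.mul_apply, ← MulAut.mul_apply, ← map_mul, ← map_mul]
      congr 3
      group
    rwa [e2] at h1
  have hinv0 : ∀ y, ∀ v ∈ V0, ρ y v ∈ V0 := by
    intro y v hv
    obtain ⟨m, n, rfl⟩ := hmemV0 v hv
    rw [map_mul, map_zpow, map_zpow]
    exact mul_mem (zpow_mem (hinvc y g f hgL) m) (zpow_mem (hinvc y h v2 hhL) n)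
  -- the involution
  set k := h ^ b with hk
  have hke : ρ k e = e * f⁻¹ := by
    rw [hk, map_zpow, zpow_apply (ρ h) hhe' hhf1 b, hb]
  have hkf : ρ k f = f := by
    have := zpow_apply (ρ h) (v := f) (a := 1) (by rw [mul_one]; exact hhf) (map_one _) b
    rw [one_zpow, mul_one] at this
    rw [hk, map_zpow, this]
  set w := g * k * g with hw
  have hwe : ρ w e = f⁻¹ := by
    rw [hw, map_mul, map_mul, MulAut.mul_apply, MulAut.mul_apply, hge, hke, map_mul, map_inv, hge, hgf, mul_inv,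
      mul_comm f⁻¹, mul_inv_cancel_left]
  have hwf : ρ w f = e := by
    rw [hw, map_mul, map_mul, MulAut.mul_apply, MulAut.mul_apply, hgf, map_mul, hke, hkf, mul_comm e,
      mul_inv_cancel_left, hge]
  have hwL : w ∈ Subgroup.normalClosure (Q : Set X) := mul_mem (mul_mem hgL (zpow_mem hhL b)) hgL
  refine ⟨V0, V1, w * w, ?_⟩
  refine ⟨mul_mem hwL hwL, hinv0, hinv1, hinf, hsup, hcardV0, ?_, ?_, ?_, ?_, ?_⟩
  · intro v hv
    obtain ⟨m, n, rfl⟩ := hmemV0 v hv
    have e1 : ρ (w * w) e = e⁻¹ := by rw [map_mul, MulAut.mul_apply, hwe, map_inv, hwf]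
    have e2 : ρ (w * w) f = f⁻¹ := by rw [map_mul, MulAut.mul_apply, hwf, hwe]
    rw [map_mul, map_zpow, map_zpow, e1, e2, mul_inv, inv_zpow, inv_zpow]
  · intro v hv
    exact (hL (mul_mem hwL hwL)).2 v hv
  · intro U hU hUinv
    by_cases hUb : U = ⊥
    · exact Or.inl hUb
    right
    have hdlU : ∀ y v, v ∈ U → dl (ρ y) v ∈ U := fun y v hv => U.mul_mem (hUinv y v hv) (U.inv_mem hv)
    obtain ⟨⟨u, hu⟩, hu1'⟩ := Subgroup.ne_bot_iff_exists_ne_one.1 hUb
    have hu1 : u ≠ 1 := fun h => hu1' (Subtype.ext h)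
    have heU : e ∈ U := by
      obtain ⟨a, ha, c, hc, hac⟩ := Subgroup.mem_sup.1 (hU hu)
      by_cases hc1 : c = 1
      · rw [hc1, mul_one] at hac
        rw [hac] at ha
        have h1 : zpowers (u : V) = zpowers e := by
          rw [hRe]
          refine zpowers_eq_of_prime D.card_range ?_ hu1
          rw [← hRe]
          exact ha
        have h2 : e ∈ zpowers (u : V) := by rw [h1]; exact mem_zpowers e
        exact (zpowers_le.2 hu) h2
      · obtain ⟨n, hn⟩ := hc
        simp only at hn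
        have h1 : dl (ρ g) u = e ^ n := by
          rw [← hac, map_mul, dl_apply, hgz a ha, mul_inv_cancel, one_mul, ← hn, dl_apply, hgfz, mul_comm,
            inv_mul_cancel_left]
        have h2 := hdlU g u hu
        rw [h1] at h2
        have h3 : e ^ n ≠ 1 := by
          intro h3
          have h4 : (p : ℤ) ∣ n := by rw [← hoe]; exact orderOf_dvd_iff_zpow_eq_one.2 h3
          obtain ⟨l, rfl⟩ := h4
          apply hc1
          rw [← hn, zpow_mul, zpow_natCast, D.exp, one_zpow]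
        have h4 : zpowers (e ^ n) = zpowers e := by
          rw [hRe]
          refine zpowers_eq_of_prime D.card_range ?_ h3
          rw [← hRe]
          exact zpow_mem (mem_zpowers e) n
        have h5 : e ∈ zpowers (e ^ n) := by rw [h4]; exact mem_zpowers e
        exact (zpowers_le.2 h2) h5
    have hf1U : f1 ∈ U := hdlU h e heU
    have hfU : f ∈ U := by
      have h5 : f ∈ zpowers f1 := by rw [hRf1]; exact mem_zpowers f
      exact (zpowers_le.2 hf1U) h5
    apply le_antisymm hU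
    exact sup_le (zpowers_le.2 heU) (zpowers_le.2 hfU)
  · intro y hy v hv
    exact (hL hy).2 v hv
  · intro y hy v
    exact (hL hy).1 v

end

end Cfsg.Agent.H767.TE
end

-- part: H767/TEReg
section
/-!
# Groups of automorphisms of elementary abelian groups of order `p³` with a regular unipotent element (helper767)
-/

set_option autoImplicit false
set_option linter.unusedSectionVars false
set_option linter.unusedVariables false

namespace Cfsg.Agent.H767.TE

open Subgroup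

section

variable {X V : Type*} [Group X] [Finite X] [CommGroup V] [Finite V] {p : ℕ} [hp : Fact p.Prime]

theorem exists_fixed (hexp : ∀ v : V, v ^ p = 1) (α : MulAut V) {k : ℕ} (hk : α ^ p ^ k = 1) (U : Subgroup V)
    (hU : ∀ x ∈ U, α x ∈ U) (hne : U ≠ ⊥) : ∃ u ∈ U, u ≠ 1 ∧ α u = u := by
  classical
  have hz : ∀ (ψ : MulAut V), ψ ∈ Subgroup.zpowers α → ∀ x ∈ U, ψ x ∈ U := by
    intro ψ hψ
    rw [mem_zpowers_iff_mem_range_orderOf] at hψ
    simp only [Finset.mem_image, Finset.mem_range] at hψ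
    obtain ⟨j, -, rfl⟩ := hψ
    clear hk
    induction j with
    | zero => simp
    | succ j ih =>
      intro x hx
      rw [pow_succ, MulAut.mul_apply]
      exact ih (α x) (hU x hx)
  let _ : MulAction (Subgroup.zpowers α) U :=
    { smul := fun ψ u => ⟨(ψ : MulAut V) u, hz ψ ψ.2 u u.2⟩
      one_smul := fun u => rfl
      mul_smul := fun ψ χ u => rfl }
  have hpz : IsPGroup p (Subgroup.zpowers α) := by
    rintro ⟨ψ, hψ⟩
    refine ⟨k, ?_⟩
    apply Subtype.ext
    obtain ⟨j, rfl⟩ := hψ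
    show (α ^ j) ^ p ^ k = 1
    rw [← zpow_natCast, ← zpow_mul, mul_comm, zpow_mul, zpow_natCast, hk, one_zpow]
  have hUp : IsPGroup p U := fun u => ⟨1, Subtype.ext (by rw [pow_one]; exact hexp u)⟩
  have hnt : Nontrivial U := (Subgroup.nontrivial_iff_ne_bot U).2 hne
  obtain ⟨n, hn0, hn⟩ := hUp.nontrivial_iff_card.1 hnt
  have hdvd : p ∣ Nat.card U := by rw [hn]; exact dvd_pow_self _ (ne_of_gt hn0)
  obtain ⟨b, hb, hb1⟩ := hpz.exists_fixed_point_of_prime_dvd_card_of_fixed_point U hdvd (a := 1)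
    (fun ψ => Subtype.ext (map_one _))
  refine ⟨b, b.2, fun h => hb1 (Subtype.ext h.symm), ?_⟩
  exact congrArg Subtype.val (hb ⟨α, Subgroup.mem_zpowers α⟩)

theorem isPGroup_of_exp (hexp : ∀ v : V, v ^ p = 1) : IsPGroup p V := fun v => ⟨1, by rw [pow_one]; exact hexp v⟩

theorem card_dvd_of_le (hexp : ∀ v : V, v ^ p = 1) {U : Subgroup V} (hc : Nat.card U ≤ p) : Nat.card U ∣ p := by
  obtain ⟨n, hn⟩ := IsPGroup.iff_card.1 ((isPGroup_of_exp hexp).to_subgroup U)
  rw [hn] at hc ⊢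
  have h1 : n ≤ 1 := by
    by_contra h
    have h2 : p ^ 2 ≤ p ^ n := Nat.pow_le_pow_right hp.out.pos (by omega)
    have := hp.out.one_lt
    nlinarith
  calc p ^ n ∣ p ^ 1 := pow_dvd_pow p h1
    _ = p := pow_one p

theorem fix_of_card_le (hexp : ∀ v : V, v ^ p = 1) (α : MulAut V) {k : ℕ} (hk : α ^ p ^ k = 1) (U : Subgroup V)
    (hU : ∀ x ∈ U, α x ∈ U) (hc : Nat.card U ≤ p) : ∀ u ∈ U, α u = u := by
  intro u hu
  have h1 := EssFrat.trivial_of_pElement (N := ⊥) (M := U) (p := p) bot_le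
    (by rw [Subgroup.relIndex_bot_left]; exact card_dvd_of_le hexp hc) α hk
    (fun x hx => by rw [Subgroup.mem_bot] at hx ⊢; rw [hx, map_one]) hU u hu
  rw [Subgroup.mem_bot, inv_mul_eq_one] at h1
  exact h1.symm

theorem quad_of_card_le (hexp : ∀ v : V, v ^ p = 1) (α : MulAut V) {k : ℕ} (hk : α ^ p ^ k = 1) (U : Subgroup V)
    (hU : ∀ x ∈ U, α x ∈ U) (hc : Nat.card U ≤ p ^ 2) : ∀ u ∈ U, α (dl α u) = dl α u := by
  set R := U.map (dl α) with hR
  have hRU : R ≤ U := by
    rintro _ ⟨u, hu, rfl⟩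
    exact U.mul_mem (hU u hu) (U.inv_mem hu)
  have hRinv : ∀ x ∈ R, α x ∈ R := by
    rintro _ ⟨u, hu, rfl⟩
    refine ⟨α u, hU u hu, ?_⟩
    rw [dl_apply, dl_apply, map_mul, map_inv]
  have hRc : Nat.card R ≤ p := by
    by_cases hUb : U = ⊥
    · rw [hR, hUb, Subgroup.map_bot, Subgroup.card_bot]
      exact hp.out.one_lt.le
    · obtain ⟨u, hu, hu1, hαu⟩ := exists_fixed hexp α hk U hU hUb
      have h1 := ((dl α).comp U.subtype).ker.card_mul_index
      rw [Subgroup.index_ker, MonoidHom.range_comp, Subgroup.range_subtype, ← hR] at h1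
      have h2 : p ≤ Nat.card ((dl α).comp U.subtype).ker := by
        have h3 : (⟨u, hu⟩ : U) ∈ ((dl α).comp U.subtype).ker := by
          show dl α u = 1
          rw [dl_apply, hαu, mul_inv_cancel]
        have h4 : orderOf (⟨u, hu⟩ : U) = p := by
          rw [Subgroup.orderOf_mk]
          exact orderOf_eq_prime (hexp u) hu1
        rw [← h4]
        exact Nat.le_of_dvd Nat.card_pos (Subgroup.orderOf_dvd_natCard _ h3)
      have h3 : p * Nat.card R ≤ p * p := by
        calc p * Nat.card R ≤ Nat.card ((dl α).comp U.subtype).ker * Nat.card R := Nat.mul_le_mul_right _ h2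
          _ = Nat.card U := h1
          _ ≤ p ^ 2 := hc
          _ = p * p := pow_two p
      exact Nat.le_of_mul_le_mul_left h3 hp.out.pos
  intro u hu
  exact fix_of_card_le hexp α hk R hRinv hRc _ ⟨u, hu, rfl⟩

/-- data of a group with Sylow `p`-subgroup acting cyclically -/
structure RData (p : ℕ) (ρ : X →* MulAut V) (Q : Subgroup X) (g : X) : Prop where
  exp : ∀ v : V, v ^ p = 1
  card : Nat.card V ≤ p ^ 3
  odd : p ≠ 2
  ker : IsPGroup p ρ.ker
  pQ : IsPGroup p Q
  max : ∀ R : Subgroup X, IsPGroup p R → Q ≤ R → R = Q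
  gQ : g ∈ Q
  gen : ∀ q ∈ Q, ∃ n : ℤ, ρ q = (ρ g) ^ n
  ne : ρ g ≠ 1
  op : ∀ N : Subgroup X, N.Normal → IsPGroup p N → N ≤ ρ.ker

variable {ρ : X →* MulAut V} {Q : Subgroup X} {g : X}

theorem RData.gpow (D : RData p ρ Q g) : ∃ k : ℕ, (ρ g) ^ p ^ k = 1 := by
  obtain ⟨k, hk⟩ := D.pQ ⟨g, D.gQ⟩
  refine ⟨k, ?_⟩
  have h1 : g ^ p ^ k = 1 := congrArg Subtype.val hk
  rw [← map_pow, h1, map_one]

/-- `Q` is not normalised by its normal closure. -/
theorem RData.exists_conj (D : RData p ρ Q g) :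
    ∃ x ∈ Subgroup.normalClosure (Q : Set X), Q.map (MulAut.conj x).toMonoidHom ≠ Q := by
  by_contra hcon
  push Not at hcon
  have hn : (Subgroup.normalClosure (Q : Set X)).Normal := Subgroup.normalClosure_normal
  have hQL : Q ≤ Subgroup.normalClosure (Q : Set X) := Subgroup.subset_normalClosure
  have hnorm : Q.Normal := by
    refine ⟨fun q hq y => ?_⟩
    -- the conjugate of `Q` by `y` normalises `Q`
    set R := Q.map (MulAut.conj y).toMonoidHom with hR
    have hRL : R ≤ Subgroup.normalClosure (Q : Set X) := by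
      rintro _ ⟨z, hz, rfl⟩
      exact hn.conj_mem _ (hQL hz) y
    have hRN : R ≤ Subgroup.normalizer (Q : Set X) := by
      intro r hr
      rw [Subgroup.mem_normalizer_iff]
      intro z
      have h1 := hcon r (hRL hr)
      constructor
      · intro hz
        rw [← h1]
        exact ⟨z, hz, rfl⟩
      · intro hz
        rw [← h1] at hz
        obtain ⟨z', hz', hzz⟩ := hz
        have h3 : z' = z := (MulAut.conj r).injective hzz
        rwa [← h3]
    have hRp : IsPGroup p R := D.pQ.map _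
    have h2 : IsPGroup p (R ⊔ Q : Subgroup X) := hRp.to_sup_of_normal_right' D.pQ hRN
    have h3 := D.max _ h2 le_sup_right
    have h4 : y * q * y⁻¹ ∈ R := ⟨q, hq, rfl⟩
    rw [← h3]
    exact (le_sup_left : R ≤ _) h4
  have h1 := D.op Q hnorm D.pQ D.gQ
  exact D.ne h1

/-- An automorphism commuting with an involution which is neither `1` nor `-1` is quadratic. -/
theorem quad_of_commute (hexp : ∀ v : V, v ^ p = 1) (hodd : p ≠ 2) (hcard : Nat.card V ≤ p ^ 3) (α β : MulAut V)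
    {k : ℕ} (hk : α ^ p ^ k = 1) (hc : ∀ v, α (β v) = β (α v)) (hβ : ∀ v, β (β v) = v)
    (h1 : ∃ m, m ≠ 1 ∧ β m = m) (h2 : ∃ m, m ≠ 1 ∧ β m = m⁻¹) : ∀ v, α (dl α v) = dl α v := by
  have hV := isPGroup_of_exp hexp
  have hsq : ∀ v : V, v * v = 1 → v = 1 := by
    intro v hv
    have := sq_mem hV hodd (N := ⊥) (m := v) (by rw [Subgroup.mem_bot]; exact hv)
    rwa [Subgroup.mem_bot] at this
  let P : Subgroup V :=
    { carrier := {v | β v = v}
      mul_mem' := fun {a b} ha hb => by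
        show β (a * b) = a * b
        rw [map_mul, show β a = a from ha, show β b = b from hb]
      one_mem' := map_one β
      inv_mem' := fun {a} ha => by
        show β a⁻¹ = a⁻¹
        rw [map_inv, show β a = a from ha] }
  let M : Subgroup V :=
    { carrier := {v | β v = v⁻¹}
      mul_mem' := fun {a b} ha hb => by
        show β (a * b) = (a * b)⁻¹
        rw [map_mul, show β a = a⁻¹ from ha, show β b = b⁻¹ from hb, mul_inv]
      one_mem' := by
        show β 1 = 1⁻¹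
        rw [map_one, inv_one]
      inv_mem' := fun {a} ha => by
        show β a⁻¹ = a⁻¹⁻¹
        rw [map_inv, show β a = a⁻¹ from ha] }
  have hinj : Function.Injective (fun x : P × M => (x.1 : V) * x.2) := by
    rintro ⟨⟨a, ha⟩, ⟨b, hb⟩⟩ ⟨⟨c, hc'⟩, ⟨d, hd⟩⟩ h
    have h3 : a * b = c * d := h
    have ha' : β a = a := ha
    have hb' : β b = b⁻¹ := hb
    have hc'' : β c = c := hc'
    have hd' : β d = d⁻¹ := hd
    have h4 : a * b⁻¹ = c * d⁻¹ := by
      have := congrArg β h3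
      rwa [map_mul, map_mul, ha', hb', hc'', hd'] at this
    have h5 : (a * c⁻¹) * (a * c⁻¹) = 1 := by
      have e1 : a * c⁻¹ = d * b⁻¹ := by
        rw [mul_inv_eq_iff_eq_mul, mul_comm, ← mul_assoc, ← h3, mul_inv_cancel_right]
      have e2 : a * c⁻¹ = d⁻¹ * b := by
        rw [mul_inv_eq_iff_eq_mul, mul_comm, ← mul_assoc, ← h4, inv_mul_cancel_right]
      rw [show (a * c⁻¹) * (a * c⁻¹) = (d * b⁻¹) * (d⁻¹ * b) by rw [← e1, ← e2]]
      rw [mul_mul_mul_comm, mul_inv_cancel, inv_mul_cancel, one_mul]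
    have h6 := hsq _ h5
    rw [mul_inv_eq_one] at h6
    subst h6
    have h7 := mul_left_cancel h3
    subst h7
    rfl
  have hprod : Nat.card P * Nat.card M ≤ p ^ 3 := by
    rw [← Nat.card_prod]
    exact (Nat.card_le_card_of_injective _ hinj).trans hcard
  have hge : ∀ W : Subgroup V, (∃ m ∈ W, m ≠ 1) → p ≤ Nat.card W := by
    rintro W ⟨m, hm, hm1⟩
    have h4 : orderOf m = p := orderOf_eq_prime (hexp m) hm1
    rw [← h4]
    exact Nat.le_of_dvd Nat.card_pos (Subgroup.orderOf_dvd_natCard _ hm)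
  have hP : p ≤ Nat.card P := hge P (by obtain ⟨m, hm, hm'⟩ := h1; exact ⟨m, hm', hm⟩)
  have hM : p ≤ Nat.card M := hge M (by obtain ⟨m, hm, hm'⟩ := h2; exact ⟨m, hm', hm⟩)
  have hP2 : Nat.card P ≤ p ^ 2 := by
    have h3 : p * Nat.card P ≤ p * p ^ 2 := by
      calc p * Nat.card P = Nat.card P * p := mul_comm _ _
        _ ≤ Nat.card P * Nat.card M := Nat.mul_le_mul_left _ hM
        _ ≤ p ^ 3 := hprod
        _ = p * p ^ 2 := by ring
    exact Nat.le_of_mul_le_mul_left h3 hp.out.pos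
  have hM2 : Nat.card M ≤ p ^ 2 := by
    have h3 : p * Nat.card M ≤ p * p ^ 2 := by
      calc p * Nat.card M ≤ Nat.card P * Nat.card M := Nat.mul_le_mul_right _ hP
        _ ≤ p ^ 3 := hprod
        _ = p * p ^ 2 := by ring
    exact Nat.le_of_mul_le_mul_left h3 hp.out.pos
  have hPα : ∀ x ∈ P, α x ∈ P := fun x hx => by
    show β (α x) = α x
    rw [← hc, show β x = x from hx]
  have hMα : ∀ x ∈ M, α x ∈ M := fun x hx => by
    show β (α x) = (α x)⁻¹
    rw [← hc, show β x = x⁻¹ from hx, map_inv]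
  have q1 := quad_of_card_le hexp α hk P hPα hP2
  have q2 := quad_of_card_le hexp α hk M hMα hM2
  intro v
  have e1 : v * β v ∈ P := by
    show β (v * β v) = v * β v
    rw [map_mul, hβ, mul_comm]
  have e2 : v * (β v)⁻¹ ∈ M := by
    show β (v * (β v)⁻¹) = (v * (β v)⁻¹)⁻¹
    rw [map_mul, map_inv, hβ, mul_inv, inv_inv, mul_comm]
  have e3 : v * v = (v * β v) * (v * (β v)⁻¹) := by
    rw [mul_mul_mul_comm, mul_inv_cancel, mul_one]
  have e4 : dl α (α (dl α v) * (dl α v)⁻¹) = dl α (α (dl α v) * (dl α v)⁻¹) := rfl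
  have e5 : (α (dl α v) * (dl α v)⁻¹) * (α (dl α v) * (dl α v)⁻¹) = 1 := by
    have e6 : (α (dl α v) * (dl α v)⁻¹) * (α (dl α v) * (dl α v)⁻¹) = dl α (dl α (v * v)) := by
      rw [map_mul, map_mul]
      rfl
    rw [e6, e3, map_mul, map_mul]
    have e7 : dl α (dl α (v * β v)) = 1 := by
      rw [dl_apply, q1 _ e1, mul_inv_cancel]
    have e8 : dl α (dl α (v * (β v)⁻¹)) = 1 := by
      rw [dl_apply, q2 _ e2, mul_inv_cancel]
    rw [e7, e8, one_mul]
  have e6 := hsq _ e5
  rwa [mul_inv_eq_one] at e6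

/-- the action on an invariant subgroup -/
def resAct (ρ : X →* MulAut V) (U : Subgroup V) (hU : ∀ x, ∀ v ∈ U, ρ x v ∈ U) : X →* MulAut U where
  toFun x :=
    { toFun := fun u => ⟨ρ x u, hU x u u.2⟩
      invFun := fun u => ⟨ρ x⁻¹ u, hU x⁻¹ u u.2⟩
      left_inv := fun u => Subtype.ext (by
        show ρ x⁻¹ (ρ x u) = u
        rw [← MulAut.mul_apply, ← map_mul, inv_mul_cancel, map_one, MulAut.one_apply])
      right_inv := fun u => Subtype.ext (by
        show ρ x (ρ x⁻¹ u) = u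
        rw [← MulAut.mul_apply, ← map_mul, mul_inv_cancel, map_one, MulAut.one_apply])
      map_mul' := fun u w => Subtype.ext (map_mul (ρ x) (u : V) (w : V)) }
  map_one' := by
    ext u
    show ρ 1 (u : V) = u
    rw [map_one, MulAut.one_apply]
  map_mul' x y := by
    ext u
    show ρ (x * y) (u : V) = ρ x (ρ y u)
    rw [map_mul, MulAut.mul_apply]

theorem resAct_apply (ρ : X →* MulAut V) (U : Subgroup V) (hU : ∀ x, ∀ v ∈ U, ρ x v ∈ U) (x : X) (u : U) :
    ((resAct ρ U hU x u : U) : V) = ρ x u := rfl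

/-- the action on the quotient by an invariant subgroup -/
def quoAct (ρ : X →* MulAut V) (U : Subgroup V) (hU : ∀ x, ∀ v ∈ U, ρ x v ∈ U) : X →* MulAut (V ⧸ U) where
  toFun x :=
    { toFun := QuotientGroup.map U U (ρ x).toMonoidHom (fun v hv => hU x v hv)
      invFun := QuotientGroup.map U U (ρ x⁻¹).toMonoidHom (fun v hv => hU x⁻¹ v hv)
      left_inv := fun q => by
        induction q using QuotientGroup.induction_on with
        | H v =>
          show (QuotientGroup.mk (ρ x⁻¹ (ρ x v)) : V ⧸ U) = QuotientGroup.mk v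
          rw [← MulAut.mul_apply, ← map_mul, inv_mul_cancel, map_one, MulAut.one_apply]
      right_inv := fun q => by
        induction q using QuotientGroup.induction_on with
        | H v =>
          show (QuotientGroup.mk (ρ x (ρ x⁻¹ v)) : V ⧸ U) = QuotientGroup.mk v
          rw [← MulAut.mul_apply, ← map_mul, mul_inv_cancel, map_one, MulAut.one_apply]
      map_mul' := map_mul _ }
  map_one' := by
    ext q
    induction q using QuotientGroup.induction_on with
    | H v =>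
      show (QuotientGroup.mk (ρ 1 v) : V ⧸ U) = QuotientGroup.mk v
      rw [map_one, MulAut.one_apply]
  map_mul' x y := by
    ext q
    induction q using QuotientGroup.induction_on with
    | H v =>
      show (QuotientGroup.mk (ρ (x * y) v) : V ⧸ U) = QuotientGroup.mk (ρ x (ρ y v))
      rw [map_mul, MulAut.mul_apply]

theorem quoAct_apply (ρ : X →* MulAut V) (U : Subgroup V) (hU : ∀ x, ∀ v ∈ U, ρ x v ∈ U) (x : X) (v : V) :
    quoAct ρ U hU x (QuotientGroup.mk v) = QuotientGroup.mk (ρ x v) := rfl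

/-- elements stabilising an invariant chain `1 ≤ U ≤ V` act trivially -/
theorem RData.triv_of_stab (D : RData p ρ Q g) (U : Subgroup V) (hU : ∀ x, ∀ v ∈ U, ρ x v ∈ U) {x : X}
    (h1 : ∀ v ∈ U, ρ x v = v) (h2 : ∀ v, ρ x v * v⁻¹ ∈ U) : ρ x = 1 := by
  have hn : (stab ρ U U le_rfl).Normal := by
    refine ⟨?_⟩
    rintro z ⟨hz1, hz2, hz3⟩ y
    have e2 : ∀ v, ρ y (ρ y⁻¹ v) = v := fun v => by
      rw [← MulAut.mul_apply, ← map_mul, mul_inv_cancel, map_one, MulAut.one_apply]
    have key : ∀ v, ρ (y * z * y⁻¹) v * v⁻¹ = ρ y (ρ z (ρ y⁻¹ v) * (ρ y⁻¹ v)⁻¹) := by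
      intro v
      rw [map_mul (ρ y), map_inv (ρ y), e2, map_mul ρ, map_mul ρ, MulAut.mul_apply, MulAut.mul_apply]
    refine ⟨fun v => ?_, fun v hv => ?_, fun v hv => ?_⟩
    · rw [key]
      exact hU y _ (hz1 _)
    · rw [key]
      exact hU y _ (hz1 _)
    · have h3 := hz3 _ (hU y⁻¹ v hv)
      rw [map_mul ρ, map_mul ρ, MulAut.mul_apply, MulAut.mul_apply, h3, e2]
  have h3 := D.op _ hn (isPGroup_stab ρ D.exp D.odd D.ker U U le_rfl)
  exact h3 (show x ∈ stab ρ U U le_rfl from ⟨h2, fun v _ => h2 v, h1⟩)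

/-- from `RData` for `X` to `QData` for an action of the normal closure of `Q` on a small group -/
theorem RData.qdata (D : RData p ρ Q g) {V' : Type*} [CommGroup V'] [Finite V'] (hexp : ∀ v : V', v ^ p = 1)
    (hcard : Nat.card V' ≤ p ^ 2) (ρ' : Subgroup.normalClosure (Q : Set X) →* MulAut V') (hker : IsPGroup p ρ'.ker)
    (hgen : ∀ q : Subgroup.normalClosure (Q : Set X), (q : X) ∈ Q → ∃ n : ℤ, ρ' q =
      (ρ' ⟨g, Subgroup.subset_normalClosure D.gQ⟩) ^ n)
    (hne : ρ' ⟨g, Subgroup.subset_normalClosure D.gQ⟩ ≠ 1) :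
    ∃ τ : Subgroup.normalClosure (Q : Set X), ∀ v : V', ρ' τ v = v⁻¹ := by
  have hQL : Q ≤ Subgroup.normalClosure (Q : Set X) := Subgroup.subset_normalClosure
  have hpQ : IsPGroup p (Q.subgroupOf (Subgroup.normalClosure (Q : Set X))) := by
    rintro ⟨⟨q, hq⟩, hq'⟩
    obtain ⟨k, hk⟩ := D.pQ ⟨q, hq'⟩
    refine ⟨k, ?_⟩
    apply Subtype.ext
    apply Subtype.ext
    have h1 : q ^ p ^ k = 1 := congrArg Subtype.val hk
    exact h1
  have hQD : QData p ρ' (Q.subgroupOf (Subgroup.normalClosure (Q : Set X))) ⟨g, Subgroup.subset_normalClosure D.gQ⟩ := by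
    refine ⟨hexp, hcard.trans (Nat.pow_le_pow_right hp.out.pos (by norm_num)), D.odd, hker, hpQ, ?_, D.gQ, ?_, hne, ?_⟩
    · intro R hR hQR
      have h1 := D.max (R.map (Subgroup.normalClosure (Q : Set X)).subtype) (hR.map _) (by
        intro q hq
        exact ⟨⟨q, hQL hq⟩, hQR hq, rfl⟩)
      refine le_antisymm (fun z hz => ?_) hQR
      rw [Subgroup.mem_subgroupOf]
      exact h1.le ⟨z, hz, rfl⟩
    · intro q hq
      exact hgen q hq
    · intro v
      obtain ⟨k, hk⟩ := hpQ ⟨⟨g, Subgroup.subset_normalClosure D.gQ⟩, D.gQ⟩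
      have hk' : (ρ' ⟨g, Subgroup.subset_normalClosure D.gQ⟩) ^ p ^ k = 1 := by
        have h1 : (⟨g, Subgroup.subset_normalClosure D.gQ⟩ : Subgroup.normalClosure (Q : Set X)) ^ p ^ k = 1 := congrArg Subtype.val hk
        rw [← map_pow, h1, map_one]
      exact quad_of_card_le hexp _ hk' ⊤ (fun _ _ => mem_top _) (by rw [Subgroup.card_top]; exact hcard) v (mem_top v)
  obtain ⟨x, hxL, hx⟩ := D.exists_conj
  obtain ⟨V0, V1, τ, hout⟩ := hQD.main ⟨⟨x, hxL⟩, by
    intro h
    apply hx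
    ext z
    constructor
    · rintro ⟨q, hq, rfl⟩
      have h1 : (⟨x, hxL⟩ : Subgroup.normalClosure (Q : Set X)) * ⟨q, hQL hq⟩ * (⟨x, hxL⟩ : Subgroup.normalClosure (Q : Set X))⁻¹ ∈ Q.subgroupOf (Subgroup.normalClosure (Q : Set X)) := by
        rw [← h]
        exact ⟨⟨q, hQL hq⟩, hq, rfl⟩
      exact h1
    · intro hz
      have h1 : (⟨z, hQL hz⟩ : Subgroup.normalClosure (Q : Set X)) ∈ (Q.subgroupOf (Subgroup.normalClosure (Q : Set X))).map (MulAut.conj (⟨x, hxL⟩ : Subgroup.normalClosure (Q : Set X))).toMonoidHom := by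
        rw [h]
        exact hz
      obtain ⟨q, hq, hqz⟩ := h1
      exact ⟨q, hq, congrArg Subtype.val hqz⟩⟩
  refine ⟨τ, fun v => ?_⟩
  have h1 : V0 = ⊤ := Subgroup.eq_top_of_le_card _ (by rw [hout.card]; exact hcard)
  exact hout.neg v (by rw [h1]; exact mem_top v)

/-- The elements of the normal closure of `Q` act trivially on an invariant section of order at most `p`. -/
theorem RData.normalClosure_triv (D : RData p ρ Q g) (P : Subgroup X) (hP : P.Normal) (hQ : Q ≤ P) :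
    Subgroup.normalClosure (Q : Set X) ≤ P := Subgroup.normalClosure_le_normal hQ

/-- **Irreducibility** when the `p`-element is not quadratic. -/
theorem RData.irr (D : RData p ρ Q g) (hreg : ∃ v, ρ g (dl (ρ g) v) ≠ dl (ρ g) v) (U : Subgroup V)
    (hU : ∀ x, ∀ v ∈ U, ρ x v ∈ U) : U = ⊥ ∨ U = ⊤ := by
  by_contra hcon
  push Not at hcon
  obtain ⟨hUb, hUt⟩ := hcon
  obtain ⟨v0, hv0⟩ := hreg
  set L := Subgroup.normalClosure (Q : Set X) with hL
  have hLn : L.Normal := Subgroup.normalClosure_normal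
  have hQL : Q ≤ L := Subgroup.subset_normalClosure
  have hgL : g ∈ L := hQL D.gQ
  obtain ⟨k, hk⟩ := D.gpow
  have hsq : ∀ v : V, v * v ∈ U → v ∈ U := fun v hv => sq_mem (isPGroup_of_exp D.exp) D.odd hv
  have hsq1 : ∀ v : V, v * v = 1 → v = 1 := fun v hv => by
    have := sq_mem (isPGroup_of_exp D.exp) D.odd (N := ⊥) (m := v) (by rw [Subgroup.mem_bot]; exact hv)
    rwa [Subgroup.mem_bot] at this
  have hcardV : Nat.card U * U.index = Nat.card V := U.card_mul_index
  obtain ⟨n, hn⟩ := IsPGroup.iff_card.1 ((isPGroup_of_exp D.exp).to_subgroup U)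
  have hqV : IsPGroup p (V ⧸ U) := (isPGroup_of_exp D.exp).to_quotient U
  obtain ⟨m, hm⟩ := IsPGroup.iff_card.1 hqV
  have hm' : U.index = p ^ m := hm
  have hn0 : n ≠ 0 := by
    rintro rfl
    rw [pow_zero] at hn
    exact hUb (Subgroup.eq_bot_of_card_eq _ hn)
  have hm0 : m ≠ 0 := by
    rintro rfl
    rw [pow_zero] at hm'
    exact hUt (Subgroup.index_eq_one.1 hm')
  have hnm : n + m ≤ 3 := by
    have h1 := D.card
    rw [← hcardV, hn, hm', ← pow_add] at h1
    exact (Nat.pow_le_pow_iff_right hp.out.one_lt).1 h1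
  -- the final contradiction
  have final : ∀ τ ∈ L, (∀ v, ρ g (ρ τ v) = ρ τ (ρ g v)) → (∀ v, ρ τ (ρ τ v) = v) →
      (∃ m, m ≠ 1 ∧ ρ τ m = m) → (∃ m, m ≠ 1 ∧ ρ τ m = m⁻¹) → False := by
    intro τ _ h1 h2 h3 h4
    exact hv0 (quad_of_commute D.exp D.odd D.card (ρ g) (ρ τ) hk h1 h2 h3 h4 v0)
  -- commutation and order of `τ` from the behaviour on `U` and `V/U`
  have hcommute : ∀ τ : X, (∀ u ∈ U, ρ (τ * g * τ⁻¹ * g⁻¹) u = u) → (∀ v, ρ (τ * g * τ⁻¹ * g⁻¹) v * v⁻¹ ∈ U) →
      ∀ v, ρ g (ρ τ v) = ρ τ (ρ g v) := by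
    intro τ h1 h2 v
    have h3 := D.triv_of_stab U hU h1 h2
    have h4 : ρ (τ * g) = ρ (g * τ) := by
      rw [map_mul, map_mul, map_mul, map_inv, map_inv, mul_inv_eq_one, mul_inv_eq_iff_eq_mul, ← map_mul, ← map_mul] at h3
      exact h3
    rw [← MulAut.mul_apply, ← MulAut.mul_apply, ← map_mul, ← map_mul, h4]
  by_cases hn1 : n = 1
  · -- `|U| = p`
    subst hn1
    rw [pow_one] at hn
    have hLU : ∀ x ∈ L, ∀ u ∈ U, ρ x u = u := by
      let P : Subgroup X :=
        { carrier := {x | ∀ u ∈ U, ρ x u = u}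
          mul_mem' := fun {a b} ha hb u hu => by rw [map_mul, MulAut.mul_apply, hb u hu, ha u hu]
          one_mem' := fun u _ => by rw [map_one, MulAut.one_apply]
          inv_mem' := fun {a} ha u hu => by
            have h3 : ρ a⁻¹ (ρ a u) = u := by
              rw [← MulAut.mul_apply, ← map_mul, inv_mul_cancel, map_one, MulAut.one_apply]
            rwa [ha u hu] at h3 }
      have hPn : P.Normal := by
        refine ⟨fun z hz y u hu => ?_⟩
        rw [map_mul, map_mul, MulAut.mul_apply, MulAut.mul_apply, hz _ (hU y⁻¹ u hu), ← MulAut.mul_apply, ← map_mul,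
          mul_inv_cancel, map_one, MulAut.one_apply]
      have hQP : Q ≤ P := by
        intro q hq u hu
        obtain ⟨j, hj⟩ := D.pQ ⟨q, hq⟩
        have hj' : (ρ q) ^ p ^ j = 1 := by
          have h1 : q ^ p ^ j = 1 := congrArg Subtype.val hj
          rw [← map_pow, h1, map_one]
        exact fix_of_card_le D.exp (ρ q) hj' U (hU q) hn.le u hu
      exact fun x hx => (D.normalClosure_triv P hPn hQP) hx
    have hcardq : Nat.card (V ⧸ U) ≤ p ^ 2 := by
      rw [hm]
      exact Nat.pow_le_pow_right hp.out.pos (by omega)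
    have hexpq : ∀ v : V ⧸ U, v ^ p = 1 := by
      intro q
      induction q using QuotientGroup.induction_on with
      | H v => rw [← QuotientGroup.mk_pow, D.exp]; rfl
    obtain ⟨τ, hτ⟩ := D.qdata hexpq hcardq ((quoAct ρ U hU).comp L.subtype) (by
        rintro ⟨⟨x, hxL⟩, hx⟩
        have hx1 : quoAct ρ U hU x = 1 := hx
        have h1 : x ∈ ρ.ker := D.triv_of_stab U hU (hLU x hxL) (fun v => by
          have h2 : quoAct ρ U hU x (QuotientGroup.mk v) = QuotientGroup.mk v := by rw [hx1]; rfl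
          rw [quoAct_apply, eq_comm, QuotientGroup.eq, mul_comm] at h2
          exact h2)
        obtain ⟨j, hj⟩ := D.ker ⟨x, h1⟩
        refine ⟨j, ?_⟩
        apply Subtype.ext
        apply Subtype.ext
        have h3 : x ^ p ^ j = 1 := congrArg Subtype.val hj
        exact h3)
      (by
        rintro ⟨q, hqL⟩ hq
        obtain ⟨j, hj⟩ := D.gen q hq
        refine ⟨j, ?_⟩
        show quoAct ρ U hU q = (quoAct ρ U hU g) ^ j
        rw [← map_zpow]
        ext w
        induction w using QuotientGroup.induction_on with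
        | H v => rw [quoAct_apply, quoAct_apply, hj, map_zpow])
      (by
        intro h
        have h' : quoAct ρ U hU g = 1 := h
        apply hv0
        apply hLU g hgL
        have h2 : quoAct ρ U hU g (QuotientGroup.mk v0) = QuotientGroup.mk v0 := by rw [h']; rfl
        rw [quoAct_apply, eq_comm, QuotientGroup.eq, mul_comm] at h2
        exact h2)
    have hτq : ∀ v, ρ τ v * v ∈ U := by
      intro v
      have h2 : quoAct ρ U hU τ (QuotientGroup.mk v) = (QuotientGroup.mk v)⁻¹ := hτ (QuotientGroup.mk v)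
      rw [quoAct_apply, ← QuotientGroup.mk_inv, eq_comm, QuotientGroup.eq, inv_inv, mul_comm] at h2
      exact h2
    have hτU := hLU τ τ.2
    refine final τ τ.2 (hcommute τ (fun u hu => ?_) (fun v => ?_)) (fun v => ?_) ?_ ?_
    · exact hLU _ (mul_mem (mul_mem (mul_mem τ.2 hgL) (inv_mem τ.2)) (inv_mem hgL)) u hu
    · -- on the quotient `τ` is `-1`
      have h3 : quoAct ρ U hU ((τ : X) * g * (τ : X)⁻¹ * g⁻¹) = 1 := by
        have hc : quoAct ρ U hU ((τ : X) * g) = quoAct ρ U hU (g * τ) := by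
          ext w
          have e1 : ∀ z, quoAct ρ U hU (τ : X) z = z⁻¹ := hτ
          rw [map_mul, map_mul, MulAut.mul_apply, MulAut.mul_apply, e1, e1, map_inv]
        rw [map_mul, map_mul, hc, map_inv, map_inv, map_mul, mul_inv_cancel_right, mul_inv_cancel]
      have h4 : quoAct ρ U hU ((τ : X) * g * (τ : X)⁻¹ * g⁻¹) (QuotientGroup.mk v) = QuotientGroup.mk v := by rw [h3]; rfl
      rw [quoAct_apply, eq_comm, QuotientGroup.eq, mul_comm] at h4
      exact h4
    · -- `τ² = 1`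
      have h5 : ρ ((τ : X) * τ) = 1 := by
        refine D.triv_of_stab U hU (hLU _ (mul_mem τ.2 τ.2)) (fun w => ?_)
        rw [map_mul, MulAut.mul_apply]
        have e1 := hτq (ρ τ w)
        have e2 := hτq w
        have e3 : ρ τ (ρ τ w) * w⁻¹ = (ρ τ (ρ τ w) * ρ τ w) * (ρ τ w * w)⁻¹ := by
          rw [mul_inv, ← mul_assoc, mul_inv_cancel_right]
        rw [e3]
        exact mul_mem e1 (inv_mem e2)
      rw [← MulAut.mul_apply, ← map_mul, h5, MulAut.one_apply]
    · obtain ⟨⟨u, hu⟩, hu1⟩ := Subgroup.ne_bot_iff_exists_ne_one.1 hUb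
      exact ⟨u, fun h => hu1 (Subtype.ext h), hτU u hu⟩
    · by_contra hcon
      push Not at hcon
      apply hUt
      rw [eq_top_iff]
      intro v _
      apply hsq
      have h5 : ρ ((τ : X) * τ) = 1 := by
        refine D.triv_of_stab U hU (hLU _ (mul_mem τ.2 τ.2)) (fun w => ?_)
        rw [map_mul, MulAut.mul_apply]
        have e1 := hτq (ρ τ w)
        have e2 := hτq w
        have e3 : ρ τ (ρ τ w) * w⁻¹ = (ρ τ (ρ τ w) * ρ τ w) * (ρ τ w * w)⁻¹ := by
          rw [mul_inv, ← mul_assoc, mul_inv_cancel_right]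
        rw [e3]
        exact mul_mem e1 (inv_mem e2)
      have h6 : v * (ρ τ v)⁻¹ = 1 := by
        by_contra h7
        apply hcon _ h7
        have h8 : ρ τ (ρ τ v) = v := by rw [← MulAut.mul_apply, ← map_mul, h5, MulAut.one_apply]
        rw [map_mul, map_inv, h8, mul_inv, inv_inv, mul_comm]
      rw [mul_inv_eq_one] at h6
      have h7 := hτq v
      rwa [← h6] at h7
  · -- `|V/U| = p`
    have hm1 : m = 1 := by omega
    subst hm1
    rw [pow_one] at hm'
    have hLq : ∀ x ∈ L, ∀ v, ρ x v * v⁻¹ ∈ U := by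
      let P : Subgroup X :=
        { carrier := {x | ∀ v, ρ x v * v⁻¹ ∈ U}
          mul_mem' := fun {a b} ha hb v => by
            have key : ρ (a * b) v * v⁻¹ = (ρ a (ρ b v) * (ρ b v)⁻¹) * (ρ b v * v⁻¹) := by
              rw [map_mul, MulAut.mul_apply]
              group
            rw [key]
            exact mul_mem (ha _) (hb _)
          one_mem' := fun v => by
            rw [map_one, MulAut.one_apply, mul_inv_cancel]
            exact U.one_mem
          inv_mem' := fun {a} ha v => by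
            have e2 : ρ a (ρ a⁻¹ v) = v := by
              rw [← MulAut.mul_apply, ← map_mul, mul_inv_cancel, map_one, MulAut.one_apply]
            have key : ρ a⁻¹ v * v⁻¹ = (ρ a (ρ a⁻¹ v) * (ρ a⁻¹ v)⁻¹)⁻¹ := by
              rw [e2]
              group
            rw [key]
            exact inv_mem (ha _) }
      have hPn : P.Normal := by
        refine ⟨fun z hz y v => ?_⟩
        have e2 : ∀ v, ρ y (ρ y⁻¹ v) = v := fun v => by
          rw [← MulAut.mul_apply, ← map_mul, mul_inv_cancel, map_one, MulAut.one_apply]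
        have key : ∀ v, ρ (y * z * y⁻¹) v * v⁻¹ = ρ y (ρ z (ρ y⁻¹ v) * (ρ y⁻¹ v)⁻¹) := by
          intro v
          rw [map_mul (ρ y), map_inv (ρ y), e2, map_mul ρ, map_mul ρ, MulAut.mul_apply, MulAut.mul_apply]
        rw [key]
        exact hU y _ (hz _)
      have hQP : Q ≤ P := by
        intro q hq v
        obtain ⟨j, hj⟩ := D.pQ ⟨q, hq⟩
        have hj' : (ρ q) ^ p ^ j = 1 := by
          have h1 : q ^ p ^ j = 1 := congrArg Subtype.val hj
          rw [← map_pow, h1, map_one]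
        have h1 := EssFrat.trivial_of_pElement (N := U) (M := ⊤) (p := p) le_top
          (by rw [Subgroup.relIndex_top_right, hm']) (ρ q) hj' (hU q) (fun _ _ => mem_top _) v (mem_top v)
        rwa [mul_comm] at h1
      exact fun x hx => (D.normalClosure_triv P hPn hQP) hx
    have hcardU : Nat.card U ≤ p ^ 2 := by
      rw [hn]
      exact Nat.pow_le_pow_right hp.out.pos (by omega)
    obtain ⟨τ, hτ⟩ := D.qdata (V' := U) (fun u => Subtype.ext (D.exp u)) hcardU ((resAct ρ U hU).comp L.subtype) (by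
        rintro ⟨⟨x, hxL⟩, hx⟩
        have hx1 : resAct ρ U hU x = 1 := hx
        have h1 : x ∈ ρ.ker := D.triv_of_stab U hU (fun u hu => by
          have h2 : resAct ρ U hU x ⟨u, hu⟩ = ⟨u, hu⟩ := by rw [hx1]; rfl
          exact congrArg Subtype.val h2) (hLq x hxL)
        obtain ⟨j, hj⟩ := D.ker ⟨x, h1⟩
        refine ⟨j, ?_⟩
        apply Subtype.ext
        apply Subtype.ext
        have h3 : x ^ p ^ j = 1 := congrArg Subtype.val hj
        exact h3)
      (by
        rintro ⟨q, hqL⟩ hq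
        obtain ⟨j, hj⟩ := D.gen q hq
        refine ⟨j, ?_⟩
        show resAct ρ U hU q = (resAct ρ U hU g) ^ j
        rw [← map_zpow]
        ext w
        rw [resAct_apply, resAct_apply, hj, map_zpow])
      (by
        intro h
        have h' : resAct ρ U hU g = 1 := h
        apply hv0
        have h2 : resAct ρ U hU g ⟨dl (ρ g) v0, hLq g hgL v0⟩ = ⟨dl (ρ g) v0, hLq g hgL v0⟩ := by rw [h']; rfl
        exact congrArg Subtype.val h2)
    have hτU : ∀ u ∈ U, ρ τ u = u⁻¹ := by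
      intro u hu
      exact congrArg Subtype.val (hτ ⟨u, hu⟩)
    have hτq := hLq τ τ.2
    have h5 : ρ ((τ : X) * τ) = 1 := by
      refine D.triv_of_stab U hU (fun u hu => ?_) (hLq _ (mul_mem τ.2 τ.2))
      rw [map_mul, MulAut.mul_apply, hτU u hu, map_inv, hτU u hu, inv_inv]
    have h8 : ∀ v, ρ τ (ρ τ v) = v := fun v => by rw [← MulAut.mul_apply, ← map_mul, h5, MulAut.one_apply]
    refine final τ τ.2 (hcommute τ (fun u hu => ?_) (fun v => ?_)) h8 ?_ ?_
    · have e1 : ρ ((τ : X) * g) u = ρ (g * τ) u := by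
        rw [map_mul, map_mul, MulAut.mul_apply, MulAut.mul_apply, hτU u hu, hτU _ (hU g u hu), map_inv]
      have e3 : ∀ u ∈ U, ρ ((τ : X) * g) u = ρ (g * τ) u := by
        intro u hu
        rw [map_mul, map_mul, MulAut.mul_apply, MulAut.mul_apply, hτU u hu, hτU _ (hU g u hu), map_inv]
      have e4 : (τ : X) * g * (τ : X)⁻¹ * g⁻¹ = (τ * g) * (g * τ)⁻¹ := by group
      rw [e4, map_mul, MulAut.mul_apply, e3 _ (hU _ u hu), ← MulAut.mul_apply, ← map_mul, mul_inv_cancel, map_one,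
        MulAut.one_apply]
    · exact hLq _ (mul_mem (mul_mem (mul_mem τ.2 hgL) (inv_mem τ.2)) (inv_mem hgL)) v
    · by_contra hcon
      push Not at hcon
      apply hUt
      rw [eq_top_iff]
      intro v _
      apply hsq
      have h6 : v * ρ τ v = 1 := by
        by_contra h7
        apply hcon _ h7
        rw [map_mul, h8, mul_comm]
      have h7 : ρ τ v = v⁻¹ := (eq_inv_of_mul_eq_one_right h6)
      have h9 := hτq v
      rw [h7, ← mul_inv] at h9
      exact (Subgroup.inv_mem_iff U).1 h9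
    · obtain ⟨⟨u, hu⟩, hu1⟩ := Subgroup.ne_bot_iff_exists_ne_one.1 hUb
      exact ⟨u, fun h => hu1 (Subtype.ext h), hτU u hu⟩

end

end Cfsg.Agent.H767.TE
end
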