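import Cfsg.Agent.H767.BisetEx
import Mathlib.Algebra.BigOperators.Finprod
set_option linter.all false

/-!
# The transfer of a characteristic biset (helper767)

For a finite `G × R`-set `X` on which `R` acts freely and a homomorphism `θ : R → A` into an abelian group, the
transfer homomorphism `tr : G → A`.
-/

set_option autoImplicit false

namespace Cfsg.Agent.H767.Transfer

open MulAction

section abstract

variable {H : Type*} [Group H] {A : Type*} [CommGroup A]

theorem aux_cancel (t a b : A) : (t * a) * (t * b)⁻¹ = a * b⁻¹ := by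
  rw [mul_inv, mul_mul_mul_comm, mul_inv_cancel, one_mul]

/-- A semi-invariant function for a character which is trivial on all stabilizers. -/
theorem exists_section {X : Type*} [MulAction H X] (χ : H →* A)
    (hχ : ∀ (h : H) (x : X), h • x = x → χ h = 1) :
    ∃ f : X → A, ∀ (h : H) (x : X), f (h • x) = χ h * f x := by
  classical
  have hex : ∀ x : X, ∃ k : H, k • ((Quotient.mk (orbitRel H X) x).out) = x := by
    intro x
    have h1 : (orbitRel H X).r ((Quotient.mk (orbitRel H X) x).out) x := Quotient.mk_out (s := orbitRel H X) x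
    have h2 := (orbitRel H X).symm h1
    exact h2
  choose k hk using hex
  refine ⟨fun x => χ (k x), fun h x => ?_⟩
  have hq : (Quotient.mk (orbitRel H X) (h • x)) = (Quotient.mk (orbitRel H X) x) :=
    Quotient.sound (s := orbitRel H X) ⟨h, rfl⟩
  have h1 := hk (h • x)
  rw [hq] at h1
  have h2 := hk x
  have h3 : ((k (h • x))⁻¹ * (h * k x)) • ((Quotient.mk (orbitRel H X) x).out) =
      ((Quotient.mk (orbitRel H X) x).out) := by
    rw [mul_smul, mul_smul, h2, inv_smul_eq_iff]
    exact h1.symm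
  have h4 := hχ _ _ h3
  rw [map_mul, map_inv, map_mul, inv_mul_eq_one] at h4
  exact h4

end abstract

section tr

variable {G R A X : Type*} [Group G] [Group R] [CommGroup A] [MulAction (G × R) X]

/-- orbits of `R` -/
def rel (G R X : Type*) [Group G] [Group R] [MulAction (G × R) X] : Setoid X where
  r x y := ∃ r : R, ((1, r) : G × R) • x = y
  iseqv := ⟨fun x => ⟨1, one_smul (G × R) x⟩,
    fun {x y} ⟨r, h⟩ => ⟨r⁻¹, by
      rw [← h, smul_smul]
      show ((1 * 1, r⁻¹ * r) : G × R) • x = x
      rw [one_mul, inv_mul_cancel]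
      exact one_smul (G × R) x⟩,
    fun {x y z} ⟨r, h⟩ ⟨s, k⟩ => ⟨s * r, by
      rw [← k, ← h, smul_smul]
      show _ = ((1 * 1, s * r) : G × R) • x
      rw [one_mul]⟩⟩

/-- the quotient by `R` -/
def Quo (G R X : Type*) [Group G] [Group R] [MulAction (G × R) X] : Type _ := Quotient (rel G R X)

instance instFiniteQuo [Finite X] : Finite (Quo G R X) := by
  unfold Quo
  infer_instance

/-- class of a point -/
def qmk (x : X) : Quo G R X := Quotient.mk (rel G R X) x

theorem qmk_surjective : Function.Surjective (qmk : X → Quo G R X) := Quotient.mk_surjective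

theorem qmk_eq_iff {x y : X} : (qmk x : Quo G R X) = qmk y ↔ ∃ r : R, ((1, r) : G × R) • x = y :=
  ⟨fun h => Quotient.exact (s := rel G R X) h, fun h => Quotient.sound (s := rel G R X) h⟩

/-- `G` acts on the quotient. -/
instance instMulActionQuo : MulAction G (Quo G R X) where
  smul g q := Quotient.map' (s₁ := rel G R X) (s₂ := rel G R X) (fun x => ((g, 1) : G × R) • x) (by
    rintro x y ⟨r, rfl⟩
    refine ⟨r, ?_⟩
    show ((1, r) : G × R) • ((g, 1) : G × R) • x = ((g, 1) : G × R) • ((1, r) : G × R) • x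
    rw [smul_smul, smul_smul, Prod.mk_mul_mk, Prod.mk_mul_mk, one_mul, mul_one, one_mul, mul_one]) q
  one_smul q := by
    obtain ⟨x, rfl⟩ := qmk_surjective q
    exact congrArg qmk (one_smul (G × R) x)
  mul_smul g k q := by
    obtain ⟨x, rfl⟩ := qmk_surjective q
    refine congrArg qmk ?_
    show ((g * k, 1) : G × R) • x = ((g, 1) : G × R) • ((k, 1) : G × R) • x
    rw [smul_smul, Prod.mk_mul_mk, one_mul]

theorem smul_qmk (g : G) (x : X) : g • (qmk x : Quo G R X) = qmk (((g, 1) : G × R) • x) := rfl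

/-- the semi-invariant functions for `θ` -/
def IsSec (θ : R →* A) (f : X → A) : Prop := ∀ (r : R) (x : X), f (((1, r) : G × R) • x) = (θ r)⁻¹ * f x

theorem exists_isSec (θ : R →* A) (hfree : ∀ (r : R) (x : X), ((1, r) : G × R) • x = x → r = 1) :
    ∃ f : X → A, IsSec (G := G) θ f := by
  let ι : R →* G × R := MonoidHom.inr G R
  obtain ⟨f, hf⟩ := @exists_section R _ A _ X (MulAction.compHom X ι) θ⁻¹ (fun r x h => by
    have h1 : ((1, r) : G × R) • x = x := h
    rw [hfree r x h1, map_one])
  exact ⟨f, fun r x => hf r x⟩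

/-- the factor `f(g x) / f(x)` as a function on the quotient -/
noncomputable def cf {θ : R →* A} {f : X → A} (hf : IsSec (G := G) θ f) (g : G) : Quo G R X → A :=
  Quotient.lift (s := rel G R X) (fun x => f (((g, 1) : G × R) • x) * (f x)⁻¹) (by
    rintro x y ⟨r, rfl⟩
    show f (((g, 1) : G × R) • x) * (f x)⁻¹ = f (((g, 1) : G × R) • ((1, r) : G × R) • x) * (f (((1, r) : G × R) • x))⁻¹
    have h1 : ((g, 1) : G × R) • ((1, r) : G × R) • x = ((1, r) : G × R) • ((g, 1) : G × R) • x := by
      rw [smul_smul, smul_smul, Prod.mk_mul_mk, Prod.mk_mul_mk, one_mul, mul_one, one_mul, mul_one]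
    rw [h1, hf, hf, aux_cancel])

theorem cf_qmk {θ : R →* A} {f : X → A} (hf : IsSec (G := G) θ f) (g : G) (x : X) :
    cf hf g (qmk x) = f (((g, 1) : G × R) • x) * (f x)⁻¹ := rfl

theorem cf_mul {θ : R →* A} {f : X → A} (hf : IsSec (G := G) θ f) (g k : G) (q : Quo G R X) :
    cf hf (g * k) q = cf hf g (k • q) * cf hf k q := by
  obtain ⟨x, rfl⟩ := qmk_surjective q
  rw [smul_qmk, cf_qmk, cf_qmk, cf_qmk, smul_smul, Prod.mk_mul_mk, one_mul]
  group

/-- the transfer -/
noncomputable def tr [Finite X] {θ : R →* A} {f : X → A} (hf : IsSec (G := G) θ f) : G →* A where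
  toFun g := ∏ᶠ q, cf hf g q
  map_one' := by
    rw [← finprod_one (α := Quo G R X)]
    refine finprod_congr fun q => ?_
    obtain ⟨x, rfl⟩ := qmk_surjective q
    rw [cf_qmk]
    have : ((1, 1) : G × R) • x = x := one_smul (G × R) x
    rw [this, mul_inv_cancel]
  map_mul' g k := by
    rw [finprod_congr (fun q => cf_mul hf g k q), finprod_mul_distrib (Set.toFinite _) (Set.toFinite _)]
    congr 1
    exact finprod_comp_equiv (MulAction.toPerm k) (f := fun q => cf hf g q)

theorem tr_apply [Finite X] {θ : R →* A} {f : X → A} (hf : IsSec (G := G) θ f) (g : G) :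
    tr hf g = ∏ᶠ q, cf hf g q := rfl

/-- The transfer does not depend on the choice of the semi-invariant function. -/
theorem tr_eq [Finite X] {θ : R →* A} {f f' : X → A} (hf : IsSec (G := G) θ f) (hf' : IsSec (G := G) θ f') (g : G) :
    tr hf g = tr hf' g := by
  -- `u = f' / f` descends to the quotient
  let u : Quo G R X → A := Quotient.lift (s := rel G R X) (fun x => f x * (f' x)⁻¹) (by
    rintro x y ⟨r, rfl⟩
    show f x * (f' x)⁻¹ = f (((1, r) : G × R) • x) * (f' (((1, r) : G × R) • x))⁻¹
    rw [hf, hf', aux_cancel])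
  have hu : ∀ x, u (qmk x) = f x * (f' x)⁻¹ := fun x => rfl
  have h1 : ∀ q, cf hf g q = (u (g • q) * (u q)⁻¹) * cf hf' g q := by
    intro q
    obtain ⟨x, rfl⟩ := qmk_surjective q
    rw [smul_qmk, cf_qmk, cf_qmk, hu, hu]
    rw [mul_inv_rev, inv_inv]
    calc f (((g, 1) : G × R) • x) * (f x)⁻¹
        = f (((g, 1) : G × R) • x) * (f x)⁻¹ * ((f' (((g, 1) : G × R) • x))⁻¹ * f' (((g, 1) : G × R) • x)) *
          (f' x * (f' x)⁻¹) := by group
      _ = f (((g, 1) : G × R) • x) * (f' (((g, 1) : G × R) • x))⁻¹ * (f' x * (f x)⁻¹) *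
          (f' (((g, 1) : G × R) • x) * (f' x)⁻¹) := by
        simp only [mul_assoc, mul_comm, mul_left_comm]
  rw [tr_apply, tr_apply, finprod_congr h1, finprod_mul_distrib (Set.toFinite _) (Set.toFinite _),
    finprod_mul_distrib (Set.toFinite _) (Set.toFinite _)]
  have h2 : ∏ᶠ q, u (g • q) = ∏ᶠ q, u q := finprod_comp_equiv (MulAction.toPerm g) (f := u)
  rw [h2, finprod_inv_distrib, mul_inv_cancel, one_mul]

/-- Invariance of the transfer. -/
theorem tr_equivariant [Finite X] {θ : R →* A} {f : X → A} (hf : IsSec (G := G) θ f) (e : X ≃ X) {g k : G}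
    (he1 : ∀ x, e (((g, 1) : G × R) • x) = ((k, 1) : G × R) • e x)
    (he2 : ∀ (r : R) (x : X), e (((1, r) : G × R) • x) = ((1, r) : G × R) • e x) : tr hf k = tr hf g := by
  have hf' : IsSec (G := G) θ (f ∘ e) := by
    intro r x
    show f (e _) = _
    rw [he2, hf]
    rfl
  have he2' : ∀ (r : R) (x : X), e.symm (((1, r) : G × R) • x) = ((1, r) : G × R) • e.symm x := by
    intro r x
    rw [Equiv.symm_apply_eq, he2, Equiv.apply_symm_apply]
  let E : Quo G R X ≃ Quo G R X :=
    { toFun := Quotient.map' (s₁ := rel G R X) (s₂ := rel G R X) e (by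
        rintro x y ⟨r, rfl⟩
        exact ⟨r, (he2 r x).symm⟩)
      invFun := Quotient.map' (s₁ := rel G R X) (s₂ := rel G R X) e.symm (by
        rintro x y ⟨r, rfl⟩
        exact ⟨r, (he2' r x).symm⟩)
      left_inv := by
        intro q
        obtain ⟨x, rfl⟩ := qmk_surjective q
        exact congrArg qmk (e.symm_apply_apply x)
      right_inv := by
        intro q
        obtain ⟨x, rfl⟩ := qmk_surjective q
        exact congrArg qmk (e.apply_symm_apply x) }
  have hE : ∀ x, E (qmk x) = qmk (e x) := fun x => rfl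
  rw [tr_eq hf hf' g, tr_apply, tr_apply, ← finprod_comp_equiv E]
  refine finprod_congr fun q => ?_
  obtain ⟨x, rfl⟩ := qmk_surjective q
  rw [hE, cf_qmk, cf_qmk]
  show f (((k, 1) : G × R) • e x) * (f (e x))⁻¹ = f (e (((g, 1) : G × R) • x)) * (f (e x))⁻¹
  rw [he1]

/-- number of points of the quotient -/
theorem card_quo [Finite X] [Finite R] (hfree : ∀ (r : R) (x : X), ((1, r) : G × R) • x = x → r = 1) :
    Nat.card X = Nat.card R * Nat.card (Quo G R X) := by
  rw [← Nat.card_prod]
  symm
  refine Nat.card_congr (Equiv.ofBijective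
    (fun z : R × Quo G R X => ((1, z.1) : G × R) • (Quotient.out (s := rel G R X) z.2)) ⟨?_, ?_⟩)
  · rintro ⟨r, q⟩ ⟨s, q'⟩ h
    have h' : ((1, r) : G × R) • (Quotient.out (s := rel G R X) q) =
      ((1, s) : G × R) • (Quotient.out (s := rel G R X) q') := h
    have h1 : (qmk (Quotient.out (s := rel G R X) q) : Quo G R X) = qmk (Quotient.out (s := rel G R X) q') := by
      rw [qmk_eq_iff]
      refine ⟨s⁻¹ * r, ?_⟩
      have h2 : ((1, s⁻¹ * r) : G × R) = ((1, s⁻¹) : G × R) * ((1, r) : G × R) := by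
        rw [Prod.mk_mul_mk, one_mul]
      rw [h2, mul_smul, h', smul_smul, Prod.mk_mul_mk, one_mul, inv_mul_cancel]
      exact one_smul (G × R) _
    have h3 : q = q' := by
      have h4 : ∀ q : Quo G R X, qmk (Quotient.out (s := rel G R X) q) = q := fun q => Quotient.out_eq _
      rw [← h4 q, h1, h4 q']
    subst h3
    have h5 : s⁻¹ * r = 1 := by
      refine hfree (s⁻¹ * r) (Quotient.out (s := rel G R X) q) ?_
      have h2 : ((1, s⁻¹ * r) : G × R) = ((1, s⁻¹) : G × R) * ((1, r) : G × R) := by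
        rw [Prod.mk_mul_mk, one_mul]
      rw [h2, mul_smul, h', smul_smul, Prod.mk_mul_mk, one_mul, inv_mul_cancel]
      exact one_smul (G × R) _
    rw [inv_mul_eq_one] at h5
    rw [h5]
  · intro x
    have h1 : (rel G R X).r (Quotient.out (s := rel G R X) (Quotient.mk (rel G R X) x)) x :=
      Quotient.mk_out (s := rel G R X) x
    obtain ⟨r, hr⟩ := h1
    exact ⟨(r, Quotient.mk (rel G R X) x), hr⟩

end tr

end Cfsg.Agent.H767.Transfer
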